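import Mathlib.AlgebraicGeometry.Morphisms.SchemeTheoreticallyDominant
import Mathlib.AlgebraicGeometry.Morphisms.ClosedImmersion
import Mathlib.AlgebraicGeometry.Morphisms.Separated

/-! Scheme theoretic images. -/

set_option linter.style.haveILetI false
set_option autoImplicit false
set_option backward.isDefEq.respectTransparency false
set_option backward.isDefEq.respectTransparency.types false

universe u

open CategoryTheory CategoryTheory.Limits AlgebraicGeometry TopologicalSpace

namespace Groth.Agent.FlatFun4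

variable {W Y : Scheme.{u}}

theorem sd_toImage (f : W ⟶ Y) [QuasiCompact f] : IsSchemeTheoreticallyDominant f.toImage := by
  rw [isSchemeTheoreticallyDominant_iff]
  refine Scheme.IdealSheafData.ext_of_iSup_eq_top
    (fun U : Y.affineOpens => ⟨f.imageι ⁻¹ᵁ U.1, U.2.preimage f.imageι⟩) ?_ fun U => ?_
  · refine eq_top_iff.2 fun x _ => ?_
    have : f.imageι x ∈ (⨆ U : Y.affineOpens, U.1 : Y.Opens) := by rw [iSup_affineOpens_eq_top]; trivial
    obtain ⟨U, hU⟩ := Opens.mem_iSup.1 this
    exact Opens.mem_iSup.2 ⟨U, hU⟩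
  · simp only [Scheme.Hom.ker_apply, Scheme.IdealSheafData.ideal_bot, Pi.bot_apply]
    exact (RingHom.injective_iff_ker_eq_bot _).mp (f.toImage_app_injective U)

theorem ker_comp_sd {Z : Scheme.{u}} (a : W ⟶ Z) [IsSchemeTheoreticallyDominant a] (i : Z ⟶ Y) :
    (a ≫ i).ker = i.ker := by
  rw [Scheme.Hom.ker_comp, a.ker_eq_bot, Scheme.IdealSheafData.map_bot]

/-- Two factorisations by schematically dominant maps and closed immersions agree. -/
theorem exists_iso_of_sd {Z Z' : Scheme.{u}} (a : W ⟶ Z) [IsSchemeTheoreticallyDominant a] (i : Z ⟶ Y)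
    [IsClosedImmersion i] (b : W ⟶ Z') [IsSchemeTheoreticallyDominant b] (j : Z' ⟶ Y) [IsClosedImmersion j]
    (h : a ≫ i = b ≫ j) : ∃ e : Z ≅ Z', e.hom ≫ j = i ∧ a ≫ e.hom = b := by
  have hk : i.ker = j.ker := by rw [← ker_comp_sd a i, h, ker_comp_sd]
  refine ⟨⟨IsClosedImmersion.lift j i hk.ge, IsClosedImmersion.lift i j hk.le, ?_, ?_⟩,
    IsClosedImmersion.lift_fac _ _ _, ?_⟩
  · simp [← cancel_mono i]
  · simp [← cancel_mono j]
  · simp [← cancel_mono j, h]

end Groth.Agent.FlatFun4
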