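import Groth.Agent.QCoh.FT
import Groth.Agent.QCoh.Support

/-! Inverse images of finitely presented modules. -/

set_option linter.style.haveILetI false
set_option autoImplicit false
set_option backward.isDefEq.respectTransparency false
set_option backward.isDefEq.respectTransparency.types false

universe u

open CategoryTheory CategoryTheory.Limits AlgebraicGeometry TopologicalSpace Opposite TensorProduct

namespace Groth.Agent.FlatFun4

theorem exists_baseChange_sections {X X' : Scheme.{u}} (φ : X' ⟶ X) {M : X.Modules} (hM : Coh.IsQCoh M)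
    {V : X.Opens} (hV : IsAffineOpen V) {W : X'.Opens} (hW : IsAffineOpen W) (hle : W ≤ φ ⁻¹ᵁ V) :
    letI := (φ.appLE V W hle).hom.toAlgebra
    letI : Module Γ(X, V) Γ((Scheme.Modules.pullback φ).obj M, W) := Module.compHom _ (φ.appLE V W hle).hom
    haveI : IsScalarTower Γ(X, V) Γ(X', W) Γ((Scheme.Modules.pullback φ).obj M, W) :=
      .of_algebraMap_smul fun _ _ => rfl
    ∃ l : Γ(M, V) →ₗ[Γ(X, V)] Γ((Scheme.Modules.pullback φ).obj M, W), IsBaseChange Γ(X', W) l := by
  letI := (φ.appLE V W hle).hom.toAlgebra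
  letI : Module Γ(X, V) Γ((Scheme.Modules.pullback φ).obj M, W) := Module.compHom _ (φ.appLE V W hle).hom
  haveI : IsScalarTower Γ(X, V) Γ(X', W) Γ((Scheme.Modules.pullback φ).obj M, W) :=
    .of_algebraMap_smul fun _ _ => rfl
  let l : Γ(M, V) →ₗ[Γ(X, V)] Γ((Scheme.Modules.pullback φ).obj M, W) :=
    { toFun := QCoh.pullSec φ M hle
      map_add' := QCoh.pullSec_add φ M hle
      map_smul' := QCoh.pullSec_smul φ M hle }
  exact ⟨l, QCoh.isBaseChange_pullback hV φ hW hM hle (fun _ => rfl) l (fun _ => rfl)⟩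

theorem isFP_pullback {X X' : Scheme.{u}} (φ : X' ⟶ X) {M : X.Modules} (hM : CohB1.IsFP M) :
    CohB1.IsFP ((Scheme.Modules.pullback φ).obj M) := by
  have hq := QCoh.isQCoh_of_isFP hM
  have key : ∀ x' : X', ∃ W : X'.Opens, IsAffineOpen W ∧ x' ∈ W ∧
      Module.FinitePresentation Γ(X', W) Γ((Scheme.Modules.pullback φ).obj M, W) := by
    intro x'
    obtain ⟨V, hV, hxV, -⟩ := exists_isAffineOpen_mem_and_subset (x := φ x') (U := ⊤) trivial
    obtain ⟨W, hW, hxW, hle⟩ := exists_isAffineOpen_mem_and_subset (x := x') (U := φ ⁻¹ᵁ V) hxV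
    refine ⟨W, hW, hxW, ?_⟩
    letI := (φ.appLE V W hle).hom.toAlgebra
    letI : Module Γ(X, V) Γ((Scheme.Modules.pullback φ).obj M, W) := Module.compHom _ (φ.appLE V W hle).hom
    haveI : IsScalarTower Γ(X, V) Γ(X', W) Γ((Scheme.Modules.pullback φ).obj M, W) :=
      .of_algebraMap_smul fun _ _ => rfl
    haveI := QCoh.finitePresentation_of_isFP hM hV
    obtain ⟨l, hl⟩ := exists_baseChange_sections φ hq hV hW hle
    exact FinitePresentation.of_isBaseChange l hl
  choose W hW hxW hfp using key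
  exact QCoh.isFP_of_finitePresentation (QCoh.isQCoh_pullback φ hq) W
    (IsOpenCover.mk (eq_top_iff.2 fun x _ => Opens.mem_iSup.2 ⟨x, hxW x⟩)) hW hfp

end Groth.Agent.FlatFun4
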