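import Groth.Agent.FlatFun4.SheafConds
import Groth.Agent.LimitsH94.LimMod
import Groth.Agent.FittX.Sheaf
import Groth.Agent.FlatFun4.FPPull
import Groth.Prelude.Def_AlgSpRep
import Mathlib.CategoryTheory.Limits.Shapes.Pullback.Connected

/-! Limit preservation of generated sub-presheaves of the final presheaf. -/

set_option linter.style.haveILetI false
set_option autoImplicit false
set_option backward.isDefEq.respectTransparency false
set_option backward.isDefEq.respectTransparency.types false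

universe u

open CategoryTheory CategoryTheory.Limits AlgebraicGeometry Opposite

namespace Groth.Agent.FlatFun4

variable {S : Scheme.{u}}

/-- Criterion for a generated sub-presheaf to be limit preserving. -/
theorem isLimitPreserving_genPSp (P : Over S → Prop)
    (hst : ∀ ⦃T T₀ : Over S⦄ (_ : T ⟶ T₀), P T₀ → P T)
    (hdesc : ∀ ⦃I : Type u⦄ [SmallCategory I] [IsCofiltered I] (D : I ⥤ Over S) (c : Cone D),
      IsLimit ((Over.forget S).mapCone c) → (∀ i, IsAffine (D.obj i).left) → IsAffine c.pt.left →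
      P c.pt → ∃ i, P (D.obj i)) :
    AlgSp.IsLimitPreserving (FlatFun.genPSp S P) := by
  intro I _ _ D c hc hD hT
  haveI : IsFiltered Iᵒᵖ := isFiltered_op_of_isCofiltered I
  refine ⟨Types.FilteredColimit.isColimitOf _ _ (fun x => ?_) fun i j xi xj _ => ?_⟩
  · have hP : P c.pt := (FlatFun.genPSp_nonempty_iff_of_stable P hst c.pt).mp ⟨x⟩
    obtain ⟨i, hi⟩ := hdesc D c hc hD hT hP
    obtain ⟨z⟩ := FlatFun.genPSp_nonempty_of P hi
    exact ⟨op i, z, @Subsingleton.elim _ (FlatFun.genPSp_subsingleton S P _) _ _⟩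
  · exact ⟨IsFiltered.max i j, IsFiltered.leftToMax i j, IsFiltered.rightToMax i j,
      @Subsingleton.elim _ (FlatFun.genPSp_subsingleton S P _) _ _⟩

variable {X : Scheme.{u}} (f : X ⟶ S)

theorem XTmap_comp' {T T' T'' : Over S} (g' : T'' ⟶ T') (g : T' ⟶ T) :
    PicF.XTmap f (g' ≫ g) = PicF.XTmap f g' ≫ PicF.XTmap f g := by
  apply pullback.hom_ext <;> simp [PicF.XTmap]

section Diagram

variable {I : Type u} [SmallCategory I] (D : I ⥤ Over S) (c : Cone D)

/-- `i ↦ X ×_S T_i`. -/
noncomputable def XTdiag : I ⥤ Scheme.{u} where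
  obj i := PicF.XT f (D.obj i)
  map g := PicF.XTmap f (D.map g)
  map_id i := by rw [D.map_id]; apply pullback.hom_ext <;> simp [PicF.XTmap]
  map_comp g h := by rw [D.map_comp, XTmap_comp']

/-- The cone of `X ×_S T` over `i ↦ X ×_S T_i`. -/
noncomputable def XTcone : Cone (XTdiag f D) where
  pt := PicF.XT f c.pt
  π :=
    { app := fun i => PicF.XTmap f (c.π.app i)
      naturality := fun i j g => by
        change 𝟙 _ ≫ PicF.XTmap f (c.π.app j) = PicF.XTmap f (c.π.app i) ≫ PicF.XTmap f (D.map g)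
        rw [Category.id_comp, ← XTmap_comp', c.w g] }

variable [IsCofiltered I]

/-- `X ×_S lim T_i = lim (X ×_S T_i)`. -/
noncomputable def isLimit_XTcone (hc : IsLimit ((Over.forget S).mapCone c)) : IsLimit (XTcone f D c) :=
  haveI : IsConnected I := IsCofiltered.isConnected I
  isLimitOfIsPullbackOfIsConnected
    (F := XTdiag f D) (G := D ⋙ Over.forget S)
    { app := fun i => PicF.XTproj f (D.obj i)
      naturality := fun i j g => (HilbDLib.isPullback_XTmap f (D.map g)).w }
    (XTcone f D c) ((Over.forget S).mapCone c)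
    { hom := PicF.XTproj f c.pt
      w := fun i => (HilbDLib.isPullback_XTmap f (c.π.app i)).w.symm }
    (fun i => HilbDLib.isPullback_XTmap f (c.π.app i)) hc

variable (hD : ∀ i, IsAffine (D.obj i).left)
include hD

omit [IsCofiltered I] in
theorem isAffineHom_XTdiag_map {a b : I} (g : a ⟶ b) : IsAffineHom ((XTdiag f D).map g) := by
  haveI := hD a
  haveI := hD b
  exact MorphismProperty.of_isPullback (P := @IsAffineHom) (HilbDLib.isPullback_XTmap f (D.map g)).flip
    (isAffineHom_of_isAffine (D.map g).left)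

omit [IsCofiltered I] in
theorem compactSpace_XTdiag_obj [QuasiCompact f] (i : I) : CompactSpace ((XTdiag f D).obj i) := by
  haveI := hD i
  haveI : CompactSpace (D.obj i).left := inferInstance
  exact QuasiCompact.compactSpace_of_compactSpace (PicF.XTproj f (D.obj i))

variable (hc : IsLimit ((Over.forget S).mapCone c)) {F G : X.Modules} (u : F ⟶ G)
include hc

theorem exists_stage_uT_eq_zero [QuasiCompact f] (hF : Coh.IsQCoh F) (hFt : CohB1.IsFT F)
    (hG : Coh.IsQCoh G) (h : uT f u c.pt = 0) : ∃ i, uT f u (D.obj i) = 0 := by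
  haveI := fun a b (g : a ⟶ b) => isAffineHom_XTdiag_map f D hD g
  obtain ⟨i⟩ := (IsCofiltered.nonempty : Nonempty I)
  haveI := compactSpace_XTdiag_obj f D hD i
  obtain ⟨j, φ, hj⟩ := LimitsH94.LM.exists_stage_map_eq_zero (D := XTdiag f D) (c := XTcone f D c) (i := i)
    (isLimit_XTcone f D c hc) (QCoh.isQCoh_pullback _ hF) (QCoh.isQCoh_pullback _ hG)
    (FittX.isFT_pullback _ hF hFt) (uT f u (D.obj i)) ((map_fst_eq_zero_iff f (c.π.app i) u).mp h)
  exact ⟨j, (map_fst_eq_zero_iff f (D.map φ) u).mpr hj⟩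

theorem exists_stage_uT_epi [QuasiCompact f] (hF : Coh.IsQCoh F) (hG : Coh.IsQCoh G) (hGt : CohB1.IsFT G)
    (h : Epi (uT f u c.pt)) : ∃ i, Epi (uT f u (D.obj i)) := by
  haveI := fun a b (g : a ⟶ b) => isAffineHom_XTdiag_map f D hD g
  obtain ⟨i⟩ := (IsCofiltered.nonempty : Nonempty I)
  haveI := compactSpace_XTdiag_obj f D hD i
  haveI : Epi ((Scheme.Modules.pullback ((XTcone f D c).π.app i)).map (uT f u (D.obj i))) :=
    (epi_uT_iff f (c.π.app i) u).mp h
  obtain ⟨j, φ, hj⟩ := LimitsH94.LM.exists_stage_epi (D := XTdiag f D) (c := XTcone f D c) (i := i)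
    (isLimit_XTcone f D c hc) (QCoh.isQCoh_pullback _ hF) (QCoh.isQCoh_pullback _ hG)
    (FittX.isFT_pullback _ hG hGt) (uT f u (D.obj i))
  exact ⟨j, (epi_uT_iff f (D.map φ) u).mpr hj⟩

theorem exists_stage_uT_iso [QuasiCompact f] (hF : Coh.IsQCoh F) (hFt : CohB1.IsFT F)
    (hG : Coh.IsQCoh G) (hGp : CohB1.IsFP G)
    (h : IsIso (uT f u c.pt)) : ∃ i, IsIso (uT f u (D.obj i)) := by
  haveI := fun a b (g : a ⟶ b) => isAffineHom_XTdiag_map f D hD g
  obtain ⟨i⟩ := (IsCofiltered.nonempty : Nonempty I)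
  haveI := compactSpace_XTdiag_obj f D hD i
  haveI : IsIso ((Scheme.Modules.pullback ((XTcone f D c).π.app i)).map (uT f u (D.obj i))) :=
    (isIso_uT_iff f (c.π.app i) u).mp h
  obtain ⟨j, φ, hj⟩ := LimitsH94.LM.exists_stage_isIso (D := XTdiag f D) (c := XTcone f D c) (i := i)
    (isLimit_XTcone f D c hc) (QCoh.isQCoh_pullback _ hF) (FittX.isFT_pullback _ hF hFt)
    (QCoh.isQCoh_pullback _ hG) (isFP_pullback _ hGp) (uT f u (D.obj i))
  exact ⟨j, (isIso_uT_iff f (D.map φ) u).mpr hj⟩

end Diagram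

end Groth.Agent.FlatFun4
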