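import Groth.Agent.LimSm.Flat
import Groth.Agent.QCoh.FlatOver
import Groth.Agent.FlatBC5.Basic
import Groth.Agent.FlatFun4.LimPres
import Groth.Agent.FlatFun4.FPPull

/-! Flatness of finitely presented modules descends along limits. -/

set_option linter.style.haveILetI false
set_option autoImplicit false
set_option backward.isDefEq.respectTransparency false
set_option backward.isDefEq.respectTransparency.types false

universe u

open CategoryTheory CategoryTheory.Limits AlgebraicGeometry Opposite TopologicalSpace TensorProduct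

namespace Groth.Agent.FlatFun4

/-- `M` tensored up along a ring map is flat. -/
def FlatBC {A B M : Type u} [CommRing A] [CommRing B] [AddCommGroup M] [Module A M] (φ : A →+* B) : Prop :=
  letI := φ.toAlgebra
  Module.Flat B (B ⊗[A] M)

theorem exists_stage_flatBC {I : Type u} [SmallCategory I] [IsCofiltered I] (D : I ⥤ Scheme.{u}) (c : Cone D)
    (hc : IsLimit c) [∀ {i j : I} (f : i ⟶ j), IsAffineHom (D.map f)] (i : I) [IsAffine (D.obj i)]
    {X₀ : Scheme.{u}} (q : X₀ ⟶ D.obj i) [LocallyOfFinitePresentation q]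
    (F : X₀.Modules) (hF : CohB1.IsFP F) (U : X₀.affineOpens)
    (h : letI : Module Γ(D.obj i, ⊤) Γ(F, U.1) := Module.compHom _ (q.appLE ⊤ U.1 le_top).hom
      FlatBC (M := Γ(F, U.1)) ((c.π.app i).appTop).hom) :
    ∃ (j : I) (φ : j ⟶ i), letI : Module Γ(D.obj i, ⊤) Γ(F, U.1) := Module.compHom _ (q.appLE ⊤ U.1 le_top).hom
      FlatBC (M := Γ(F, U.1)) ((D.map φ).appTop).hom := by
  haveI hA : IsAffineHom (c.π.app i) := isAffineHom_π_app D c hc i
  haveI hAi : IsAffine (((Functor.const I).obj c.pt).obj i) := isAffine_of_isAffineHom (c.π.app i)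
  haveI : IsAffine c.pt := hAi
  haveI : ∀ j : Over i, IsAffine (D.obj j.left) := fun j => isAffine_of_isAffineHom (D.map j.hom)
  obtain ⟨α, _, _, _, F', _⟩ := IsFiltered.exists_directed (Over i)ᵒᵖ
  haveI : IsFiltered α := inferInstance
  let E : αᵒᵖ ⥤ Scheme.{u} := F'.leftOp ⋙ Over.forget i ⋙ D
  let cE : Cone E := (c.whisker (Over.forget i)).whisker F'.leftOp
  haveI : F'.leftOp.Initial := inferInstance
  have hcE : IsLimit cE := (Functor.Initial.isLimitWhiskerEquiv F'.leftOp (c.whisker (Over.forget i))).symm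
    ((Functor.Initial.isLimitWhiskerEquiv (Over.forget i) c).symm hc)
  haveI : ∀ a : αᵒᵖ, IsAffine (E.obj a) := fun a =>
    inferInstanceAs (IsAffine (D.obj (F'.obj a.unop).unop.left))
  haveI : ∀ {a b : αᵒᵖ} (m : a ⟶ b), IsAffineHom (E.map m) := fun m => isAffineHom_of_isAffine _
  letI : Algebra Γ(D.obj i, ⊤) Γ(X₀, U.1) := (q.appLE ⊤ U.1 le_top).hom.toAlgebra
  letI : Module Γ(D.obj i, ⊤) Γ(F, U.1) := Module.compHom _ (q.appLE ⊤ U.1 le_top).hom
  haveI : IsScalarTower Γ(D.obj i, ⊤) Γ(X₀, U.1) Γ(F, U.1) := .of_algebraMap_smul fun _ _ => rfl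
  haveI : Algebra.FinitePresentation Γ(D.obj i, ⊤) Γ(X₀, U.1) :=
    HasRingHomProperty.appLE @LocallyOfFinitePresentation q ‹_› ⟨⊤, isAffineOpen_top _⟩ U le_top
  haveI := QCoh.finitePresentation_of_isFP hF U.2
  let G : α → Type u := fun a => Γ(D.obj (F'.obj a).unop.left, ⊤)
  letI : ∀ a, Algebra Γ(D.obj i, ⊤) (G a) := fun a =>
    (D.map (F'.obj a).unop.hom).appTop.hom.toAlgebra
  letI : Algebra Γ(D.obj i, ⊤) Γ(c.pt, ⊤) := (c.π.app i).appTop.hom.toAlgebra
  letI : ∀ a, Algebra (G a) Γ(c.pt, ⊤) := fun a => (c.π.app (F'.obj a).unop.left).appTop.hom.toAlgebra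
  haveI : ∀ a, IsScalarTower Γ(D.obj i, ⊤) (G a) Γ(c.pt, ⊤) := fun a =>
    IsScalarTower.of_algebraMap_eq fun x => (MorLib.Desc.π_map_apply (F'.obj a).unop x).symm
  let g : ∀ a b, a ≤ b → G a →ₐ[Γ(D.obj i, ⊤)] G b := fun a b h =>
    { (D.map (F'.map (homOfLE h)).unop.left).appTop.hom with
      commutes' := fun x => MorLib.Desc.map_map_apply (F'.map (homOfLE h)).unop x }
  have hG : FlatCA.IsDirectedColimitRing G (fun a b h => (g a b h).toRingHom) Γ(c.pt, ⊤) := by
    refine ⟨inferInstance, inferInstance, fun a => RingHom.ext fun x => ?_,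
      fun a b d hab hbd => RingHom.ext fun x => ?_, fun a b h => RingHom.ext fun x => ?_, fun z => ?_,
      fun a x hx => ?_⟩
    · show (D.map (F'.map (homOfLE (le_refl a))).unop.left).appTop x = x
      rw [show homOfLE (le_refl a) = 𝟙 a from Subsingleton.elim _ _, F'.map_id, unop_id, Over.id_left,
        D.map_id]
      rfl
    · show (D.map (F'.map (homOfLE hbd)).unop.left).appTop ((D.map (F'.map (homOfLE hab)).unop.left).appTop x) =
        (D.map (F'.map (homOfLE (hab.trans hbd))).unop.left).appTop x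
      rw [show homOfLE (hab.trans hbd) = homOfLE hab ≫ homOfLE hbd from Subsingleton.elim _ _, F'.map_comp,
        unop_comp, Over.comp_left, D.map_comp, Scheme.Hom.comp_appTop]
      rfl
    · show (c.π.app (F'.obj b).unop.left).appTop ((D.map (F'.map (homOfLE h)).unop.left).appTop x) =
        (c.π.app (F'.obj a).unop.left).appTop x
      rw [← c.w (F'.map (homOfLE h)).unop.left, Scheme.Hom.comp_appTop]
      rfl
    · obtain ⟨a, y, hy⟩ := exists_appTop_π_eq_of_isAffine_of_isLimit E cE hcE z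
      exact ⟨a.unop, y, hy⟩
    · obtain ⟨b, m, hm⟩ := exists_appTop_map_eq_zero_of_isLimit E cE hcE (i := op a) x hx
      refine ⟨b.unop, leOfHom m.unop, ?_⟩
      show (D.map (F'.map (homOfLE (leOfHom m.unop))).unop.left).appTop x = 0
      rw [show homOfLE (leOfHom m.unop) = m.unop from Subsingleton.elim _ _]
      exact hm
  obtain ⟨a, ha⟩ := FlatSyz5.exists_flat_stage (B₀ := Γ(X₀, U.1)) G g Γ(c.pt, ⊤) hG Γ(F, U.1) h
  exact ⟨(F'.obj a).unop.left, (F'.obj a).unop.hom, ha⟩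

variable {X S : Scheme.{u}} (f : X ⟶ S)

/-- Flatness of `F_T` at the points over an affine open of a stage, in algebraic terms. -/
theorem flatBC_iff {T T' : Over S} (g : T' ⟶ T) [IsAffine T.left] [IsAffine T'.left] (F : X.Modules)
    (hF : Coh.IsQCoh F) (U : (PicF.XT f T).affineOpens) :
    (letI : Module Γ(T.left, ⊤) Γ(FGA.ET f F T, U.1) :=
        Module.compHom _ ((PicF.XTproj f T).appLE ⊤ U.1 le_top).hom
     FlatBC (M := Γ(FGA.ET f F T, U.1)) (g.left.appTop).hom) ↔
      ∀ x : PicF.XT f T', PicF.XTmap f g x ∈ U.1 →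
        FlatMod.IsFlatOverAt (PicF.XTproj f T') (FGA.ET f F T') x := by
  have key := FlatBC5.flat_tensor_iff (HilbDLib.isPullback_XTmap f g)
    (F := FGA.ET f F T) (QCoh.isQCoh_pullback _ hF) (isAffineOpen_top T.left) U.2 le_top
    (isAffineOpen_top T'.left) le_top
  have e : g.left.appLE ⊤ ⊤ le_top = g.left.appTop := by
    rw [Scheme.Hom.appTop, Scheme.Hom.app_eq_appLE]
    rfl
  rw [e] at key
  refine key.trans ⟨fun h x hx => ?_, fun h x hx _ => ?_⟩
  · exact GrFlat5.isFlatOverAt_of_iso _ (FGA.ETiso f F g) x (h x hx trivial)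
  · exact GrFlat5.isFlatOverAt_of_iso _ (FGA.ETiso f F g).symm x (h x hx)

theorem exists_stage_isFlatOver [QuasiCompact f] [LocallyOfFinitePresentation f] {I : Type u} [SmallCategory I]
    [IsCofiltered I] (D : I ⥤ Over S) (c : Cone D) (hc : IsLimit ((Over.forget S).mapCone c))
    (hD : ∀ i, IsAffine (D.obj i).left) (hT : IsAffine c.pt.left) (F : X.Modules) (hF : CohB1.IsFP F)
    (h : FlatMod.IsFlatOver (PicF.XTproj f c.pt) (FGA.ET f F c.pt)) :
    ∃ i, FlatMod.IsFlatOver (PicF.XTproj f (D.obj i)) (FGA.ET f F (D.obj i)) := by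
  have hq : Coh.IsQCoh F := QCoh.isQCoh_of_isFP hF
  obtain ⟨i⟩ := (IsCofiltered.nonempty : Nonempty I)
  haveI := hD i
  haveI : IsAffine c.pt.left := hT
  haveI : ∀ {a b : I} (φ : a ⟶ b), IsAffineHom ((D ⋙ Over.forget S).map φ) := fun {a b} φ => by
    haveI := hD a
    haveI := hD b
    exact isAffineHom_of_isAffine (D.map φ).left
  haveI : IsAffine (((D ⋙ Over.forget S)).obj i) := hD i
  haveI : CompactSpace (PicF.XT f (D.obj i)) := compactSpace_XTdiag_obj f D hD i
  have hloc : ∀ U : (PicF.XT f (D.obj i)).affineOpens, ∃ (j : I) (φ : j ⟶ i), ∀ x : PicF.XT f (D.obj j),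
      PicF.XTmap f (D.map φ) x ∈ U.1 →
        FlatMod.IsFlatOverAt (PicF.XTproj f (D.obj j)) (FGA.ET f F (D.obj j)) x := by
    intro U
    obtain ⟨j, φ, hj⟩ := exists_stage_flatBC (D ⋙ Over.forget S) ((Over.forget S).mapCone c) hc i
      (PicF.XTproj f (D.obj i)) (FGA.ET f F (D.obj i)) (isFP_pullback _ hF) U
      (@flatBC_iff _ _ f (D.obj i) c.pt (c.π.app i) (hD i) hT F hq U |>.mpr fun x _ => h x)
    haveI := hD j
    exact ⟨j, φ, (flatBC_iff f (D.map φ) F hq U).mp hj⟩
  obtain ⟨s, hs⟩ := isCompact_univ.elim_finite_subcover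
    (fun U : (PicF.XT f (D.obj i)).affineOpens => (U.1 : Set (PicF.XT f (D.obj i))))
    (fun U => U.1.2) (fun x _ => by
      obtain ⟨U, hU, hx, -⟩ := exists_isAffineOpen_mem_and_subset (x := x) (U := ⊤) trivial
      exact Set.mem_iUnion.mpr ⟨⟨U, hU⟩, hx⟩)
  choose j φ hj using fun U : s => hloc U.1
  obtain ⟨k, ψ, χ, hχ⟩ := IsCofiltered.wideCospan φ
  refine ⟨k, fun x => ?_⟩
  obtain ⟨U, hU, hx⟩ := Set.mem_iUnion₂.mp (hs (Set.mem_univ (PicF.XTmap f (D.map ψ) x)))
  refine isFlatOverAt_of_hom f (D.map (χ ⟨U, hU⟩)) F x (hj ⟨U, hU⟩ _ ?_)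
  rw [← Scheme.Hom.comp_apply, ← XTmap_comp', ← D.map_comp, hχ]
  exact hx

end Groth.Agent.FlatFun4
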