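import Groth.Agent.FlatFun4.FlatOpen
import Groth.Agent.FlatFun4.FlatLim
import Groth.Agent.FibDim.Semicont
import Groth.Agent.FibDim.Minimal
import Mathlib.Topology.NoetherianSpace

/-! Flatness in dimensions `≥ n` descends along limits. -/

set_option linter.style.haveILetI false
set_option autoImplicit false
set_option backward.isDefEq.respectTransparency false
set_option backward.isDefEq.respectTransparency.types false

universe u

open CategoryTheory CategoryTheory.Limits AlgebraicGeometry Opposite TopologicalSpace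

namespace Groth.Agent.FlatFun4

theorem resTr_eq_rd {X S : Scheme.{u}} (f : X ⟶ S) [LocallyOfFiniteType f] (x : X) :
    resTr f x = (FibDim.rd f x : Cardinal.{u}) := (FibDim.rd_eq_rdeg f x).symm

/-- Semicontinuity of the relative dimension of a closed subset. -/
theorem exists_nhd_rd_le_closed {X S : Scheme.{u}} (f : X ⟶ S) [LocallyOfFiniteType f] {Z : Set X}
    (hZ : IsClosed Z) {x : X} (hx : x ∈ Z) (m : ℕ)
    (h : ∀ z ∈ Z, z ⤳ x → f z = f x → FibDim.rd f z ≤ m) :
    ∃ U : X.Opens, x ∈ U ∧ ∀ z ∈ U, z ∈ Z → FibDim.rd f z ≤ m := by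
  let I := Scheme.IdealSheafData.vanishingIdeal (⟨Z, hZ⟩ : Closeds X)
  let j := I.subschemeι
  have hj : Set.range j = Z := by
    rw [Scheme.IdealSheafData.range_subschemeι]
    simp [I]
  haveI : LocallyOfFiniteType (j ≫ f) := inferInstance
  have hrd : ∀ w, FibDim.rd (j ≫ f) w = FibDim.rd f (j w) := fun w => by
    rw [FibDim.rd_comp]
    have h0 : (FibDim.rd j w : Cardinal.{u}) = 0 := by
      rw [FibDim.rd_eq_rdeg, VarDim.rdeg_preimmersion]
    rw [Nat.cast_eq_zero.mp h0, add_zero]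
  obtain ⟨w, hw⟩ : x ∈ Set.range j := hj ▸ hx
  have hdim : FlatMor.fibreDimAt (j ≫ f) w ≤ m := (FibDim.fibreDimAt_le_iff (j ≫ f) w m).mpr fun z hz he => by
    rw [hrd]
    refine h _ (hj ▸ ⟨z, rfl⟩) (hw ▸ hz.map j.continuous) ?_
    rw [← Scheme.Hom.comp_apply, he, Scheme.Hom.comp_apply, hw]
  obtain ⟨U', hwU', hU'⟩ := FibDim.exists_nhd_rd_le (j ≫ f) w m hdim
  obtain ⟨U, hU, hUU'⟩ := j.isEmbedding.isInducing.isOpen_iff.mp U'.2
  refine ⟨⟨U, hU⟩, hw ▸ (show w ∈ j ⁻¹' U from hUU' ▸ hwU'), fun z hz hzZ => ?_⟩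
  obtain ⟨v, rfl⟩ : z ∈ Set.range j := hj ▸ hzZ
  rw [← hrd]
  exact hU' v ((Set.ext_iff.mp hUU' v).mp hz)

variable {X S : Scheme.{u}} (f : X ⟶ S) {I : Type u} [SmallCategory I] [IsCofiltered I] (D : I ⥤ Over S)
  (c : Cone D) (hc : IsLimit ((Over.forget S).mapCone c)) (hD : ∀ i, IsAffine (D.obj i).left)

include hc hD in
/-- Flatness at all points of an open neighbourhood descends to a stage at the point. -/
theorem exists_stage_isFlatOverAt [LocallyOfFinitePresentation f] (hT : IsAffine c.pt.left)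
    (F : X.Modules) (hF : CohB1.IsFP F) {x : PicF.XT f c.pt} {W : (PicF.XT f c.pt).Opens} (hxW : x ∈ W)
    (hW : ∀ y ∈ W, FlatMod.IsFlatOverAt (PicF.XTproj f c.pt) (FGA.ET f F c.pt) y) :
    ∃ i, FlatMod.IsFlatOverAt (PicF.XTproj f (D.obj i)) (FGA.ET f F (D.obj i))
      (PicF.XTmap f (c.π.app i) x) := by
  have hq : Coh.IsQCoh F := QCoh.isQCoh_of_isFP hF
  haveI : IsAffine c.pt.left := hT
  haveI : ∀ {a b : I} (φ : a ⟶ b), IsAffineHom ((XTdiag f D).map φ) := fun {a b} φ =>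
    isAffineHom_XTdiag_map f D hD φ
  haveI : ∀ {a b : I} (φ : a ⟶ b), IsAffineHom ((D ⋙ Over.forget S).map φ) := fun {a b} φ => by
    haveI := hD a
    haveI := hD b
    exact isAffineHom_of_isAffine (D.map φ).left
  obtain ⟨_, ⟨i, V, hV, rfl⟩, hxV, hVW⟩ := Opens.isBasis_iff_nbhd.mp
    (isBasis_preimage_isAffineOpen (XTdiag f D) (XTcone f D c) (isLimit_XTcone f D c hc)) hxW
  haveI := hD i
  haveI : IsAffine ((D ⋙ Over.forget S).obj i) := hD i
  obtain ⟨j, φ, hj⟩ := exists_stage_flatBC (D ⋙ Over.forget S) ((Over.forget S).mapCone c) hc i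
    (PicF.XTproj f (D.obj i)) (FGA.ET f F (D.obj i)) (isFP_pullback _ hF) ⟨V, hV⟩
    (@flatBC_iff _ _ f (D.obj i) c.pt (c.π.app i) (hD i) hT F hq ⟨V, hV⟩ |>.mpr fun y hy => hW y (hVW hy))
  haveI := hD j
  refine ⟨j, (flatBC_iff f (D.map φ) F hq ⟨V, hV⟩).mp hj _ ?_⟩
  rw [← Scheme.Hom.comp_apply, ← XTmap_comp', c.w φ]
  exact hxV

include hc hD in
/-- Flatness in dimensions `≥ n` descends to a stage. -/
theorem exists_stage_flatDim [QuasiCompact f] [LocallyOfFinitePresentation f] (hT : IsAffine c.pt.left)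
    (F : X.Modules) (hF : CohB1.IsFP F) (n : ℕ) (h : FlatDim f F n c.pt) :
    ∃ i, FlatDim f F n (D.obj i) := by
  classical
  have hq : Coh.IsQCoh F := QCoh.isQCoh_of_isFP hF
  haveI : ∀ {a b : I} (φ : a ⟶ b), IsAffineHom ((XTdiag f D).map φ) := fun {a b} φ =>
    isAffineHom_XTdiag_map f D hD φ
  by_contra hno
  push Not at hno
  let q : ∀ T : Over S, PicF.XT f T ⟶ T.left := PicF.XTproj f
  let N : ∀ T : Over S, Set (PicF.XT f T) := fun T => {x | ¬ FlatMod.IsFlatOverAt (q T) (FGA.ET f F T) x}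
  have hNclosed : ∀ T, IsClosed (N T) := fun T =>
    (isOpen_isFlatOverAt (q T) (QCoh.isQCoh_pullback _ hq) (isFP_pullback _ hF)).isClosed_compl
  have hNmap : ∀ {T T' : Over S} (g : T' ⟶ T) (x : PicF.XT f T'), x ∈ N T' → PicF.XTmap f g x ∈ N T :=
    fun g x hx h' => hx (isFlatOverAt_of_hom f g F x h')
  let B : ∀ i, Set ((XTdiag f D).obj i) := fun i => N (D.obj i) ∩ {x | (n : Cardinal.{u}) ≤ resTr (q (D.obj i)) x}
  have hBne : ∀ i, (closure (B i)).Nonempty := fun i => by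
    have := hno i
    rw [flatDim_iff] at this
    push Not at this
    obtain ⟨x, hx1, hx2⟩ := this
    exact ⟨x, subset_closure ⟨hx1, hx2⟩⟩
  obtain ⟨x, hx⟩ := exists_mem_of_isClosed_of_nonempty (XTdiag f D) (XTcone f D c) (isLimit_XTcone f D c hc)
    (fun i => closure (B i)) (fun i => isClosed_closure) hBne
    (fun i => by haveI := compactSpace_XTdiag_obj f D hD i; exact isClosed_closure.isCompact)
    (fun {a b} φ => Set.MapsTo.closure (fun y hy => ⟨hNmap (D.map φ) y hy.1,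
        le_trans (show (n : Cardinal.{u}) ≤ resTr (q (D.obj a)) y from hy.2) (resTr_baseChange_le (HilbDLib.isPullback_XTmap f (D.map φ)) y)⟩)
      ((XTdiag f D).map φ).continuous)
  -- every stage has a bad point in the fibre below `x`
  have hbad : ∀ i, ∃ z ∈ N (D.obj i), q (D.obj i) z = q (D.obj i) (PicF.XTmap f (c.π.app i) x) ∧
      (n : Cardinal.{u}) ≤ resTr (q (D.obj i)) z := by
    intro i
    have hxN : PicF.XTmap f (c.π.app i) x ∈ N (D.obj i) :=
      closure_minimal Set.inter_subset_left (hNclosed _) (hx i)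
    rcases Nat.eq_zero_or_pos n with h0 | hpos
    · exact ⟨_, hxN, rfl, by simp [h0]⟩
    · by_contra hcon
      push Not at hcon
      obtain ⟨U, hxU, hU⟩ := exists_nhd_rd_le_closed (q (D.obj i)) (hNclosed _) hxN (n - 1) fun z hz _ he => by
        have := hcon z hz he
        rw [resTr_eq_rd, Nat.cast_lt] at this
        omega
      obtain ⟨z, hzU, hzN, hz⟩ := mem_closure_iff.mp (show PicF.XTmap f (c.π.app i) x ∈ closure (B i) from hx i) (U : Set (PicF.XT f (D.obj i))) U.2 hxU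
      have h1 := hU z hzU hzN
      simp only [Set.mem_setOf_eq, resTr_eq_rd, Nat.cast_le] at hz
      omega
  let t := q c.pt x
  let fib := (q c.pt).fiber t
  haveI : LocallyOfFiniteType ((q c.pt).fiberToSpecResidueField t) :=
    FibDim.locallyOfFiniteType_fiberToSpecResidueField _ _
  haveI : QuasiCompact ((q c.pt).fiberToSpecResidueField t) := inferInstanceAs (QuasiCompact (pullback.snd _ _))
  haveI : IsNoetherian fib :=
    { LocallyOfFiniteType.isLocallyNoetherian ((q c.pt).fiberToSpecResidueField t),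
      QuasiCompact.compactSpace_of_compactSpace ((q c.pt).fiberToSpecResidueField t) with }
  let P : I → Closeds fib := fun i => ⟨(q c.pt).fiberι t ⁻¹' (PicF.XTmap f (c.π.app i) ⁻¹' N (D.obj i)),
    ((hNclosed _).preimage (PicF.XTmap f (c.π.app i)).continuous).preimage ((q c.pt).fiberι t).continuous⟩
  have hPmono : ∀ {a b : I} (_ : a ⟶ b), P a ≤ P b := fun {a b} φ w hw => by
    show PicF.XTmap f (c.π.app b) _ ∈ N (D.obj b)
    rw [← c.w φ, XTmap_comp', Scheme.Hom.comp_apply]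
    exact hNmap _ _ hw
  obtain ⟨_, ⟨i₀, rfl⟩, hmin⟩ := (wellFounded_lt (α := Closeds fib)).has_min (Set.range P)
    ⟨_, Set.mem_range_self (IsCofiltered.nonempty (C := I)).some⟩
  obtain ⟨z, hzN, hzq, hzn⟩ := hbad i₀
  have hsq : q (D.obj i₀) z = (c.π.app i₀).left t := by
    rw [hzq, ← Scheme.Hom.comp_apply, (HilbDLib.isPullback_XTmap f (c.π.app i₀)).w]
    rfl
  obtain ⟨y, hyz, hyt, hyn⟩ := exists_point_resTr_ge (HilbDLib.isPullback_XTmap f (c.π.app i₀)) z t hsq
  obtain ⟨w, rfl⟩ : y ∈ Set.range ((q c.pt).fiberι t) := by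
    rw [Scheme.Hom.range_fiberι]; exact hyt
  have hw₀ : w ∈ P i₀ := by
    show PicF.XTmap f (c.π.app i₀) _ ∈ N (D.obj i₀)
    exact hyz.symm ▸ hzN
  have hall : ∀ i, w ∈ P i := fun i => by
    obtain ⟨k, a, b, -⟩ := IsCofilteredOrEmpty.cone_objs i i₀
    have : P k = P i₀ := le_antisymm (hPmono b) (by
      by_contra hne
      exact hmin _ ⟨k, rfl⟩ (lt_of_le_not_ge (hPmono b) hne))
    exact hPmono a (this ▸ hw₀)
  refine (hzn.trans hyn).not_gt ((flatDim_iff f F n c.pt).mp h _ fun hflat => ?_)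
  obtain ⟨i, hi⟩ := exists_stage_isFlatOverAt f D c hc hD hT F hF
    (W := ⟨_, isOpen_isFlatOverAt (q c.pt) (QCoh.isQCoh_pullback _ hq) (isFP_pullback _ hF)⟩) hflat fun y hy => hy
  exact hall i hi

end Groth.Agent.FlatFun4
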