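import Groth.Agent.FlatFun4.TrdegField
import Mathlib.AlgebraicGeometry.ResidueField
import Mathlib.AlgebraicGeometry.Pullbacks

/-! Transcendence degree of residue fields under base change. -/

set_option autoImplicit false
set_option linter.style.haveILetI false
set_option backward.isDefEq.respectTransparency false
set_option backward.isDefEq.respectTransparency.types false

universe u

open CategoryTheory CategoryTheory.Limits AlgebraicGeometry

namespace Groth.Agent.FlatFun4

/-- `trdeg κ(x)/κ(f x)`. -/
noncomputable def resTr {X S : Scheme.{u}} (f : X ⟶ S) (x : X) : Cardinal.{u} :=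
  letI := (f.residueFieldMap x).hom.toAlgebra
  Algebra.trdeg (S.residueField (f x)) (X.residueField x)

theorem exists_hom {Z : Scheme.{u}} {K : Type u} [Field K] (m : Spec (CommRingCat.of K) ⟶ Z) :
    ∃ (z : Z) (a : Z.residueField z ⟶ CommRingCat.of K), m = Spec.map a ≫ Z.fromSpecResidueField z :=
  ⟨_, _, (Scheme.descResidueField_stalkClosedPointTo_fromSpecResidueField K Z m).symm⟩

theorem hom_inj {Z : Scheme.{u}} {K : Type u} [Field K] {y z : Z} (a : Z.residueField y ⟶ CommRingCat.of K)
    (b : Z.residueField z ⟶ CommRingCat.of K)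
    (h : Spec.map a ≫ Z.fromSpecResidueField y = Spec.map b ≫ Z.fromSpecResidueField z) :
    ∃ e : y = z, a = (Z.residueFieldCongr e).hom ≫ b := by
  have := (Scheme.SpecToEquivOfField K Z).symm.injective (a₁ := ⟨y, a⟩) (a₂ := ⟨z, b⟩) h
  exact Scheme.SpecToEquivOfField_eq_iff.mp this

variable {X S X' S' : Scheme.{u}} {f : X ⟶ S} {f' : X' ⟶ S'} {g' : X' ⟶ X} {g : S' ⟶ S}

theorem resTr_baseChange_le (hc : IsPullback g' f' f g) (x' : X') :
    resTr f' x' ≤ resTr f (g' x') := by
  letI := (f.residueFieldMap (g' x')).hom.toAlgebra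
  letI := (f'.residueFieldMap x').hom.toAlgebra
  have e : f (g' x') = g (f' x') := congr($(hc.w) x')
  letI : Algebra (S.residueField (f (g' x'))) (S'.residueField (f' x')) :=
    ((S.residueFieldCongr e).hom ≫ g.residueFieldMap (f' x')).hom.toAlgebra
  have hsq : f.residueFieldMap (g' x') ≫ g'.residueFieldMap x' =
      ((S.residueFieldCongr e).hom ≫ g.residueFieldMap (f' x')) ≫ f'.residueFieldMap x' := by
    rw [← cancel_epi (S.residue _)]
    rw [Category.assoc, ← Scheme.residueFieldMap_comp, ← Scheme.residueFieldMap_comp]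
    rw [Scheme.Hom.residueFieldMap_congr hc.w x']
  apply trdeg_compositum_le (g'.residueFieldMap x').hom congr(($hsq).hom)
  intro L hL
  let i : CommRingCat.of L ⟶ X'.residueField x' := CommRingCat.ofHom (algebraMap L (X'.residueField x'))
  let a : X.residueField (g' x') ⟶ CommRingCat.of L :=
    CommRingCat.ofHom ((g'.residueFieldMap x').hom.codRestrict L hL)
  let b : S'.residueField (f' x') ⟶ CommRingCat.of L :=
    CommRingCat.ofHom ((f'.residueFieldMap x').hom.codRestrict L fun c => L.algebraMap_mem c)
  have hai : a ≫ i = g'.residueFieldMap x' := rfl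
  have hbi : b ≫ i = f'.residueFieldMap x' := rfl
  have hi : Mono i := ConcreteCategory.mono_of_injective _ Subtype.val_injective
  have hab : f.residueFieldMap (g' x') ≫ a = ((S.residueFieldCongr e).hom ≫ g.residueFieldMap (f' x')) ≫ b := by
    rw [← cancel_mono i, Category.assoc, Category.assoc, hai, hbi, hsq]
  let m : Spec (CommRingCat.of L) ⟶ X' := hc.lift (Spec.map a ≫ X.fromSpecResidueField _)
    (Spec.map b ≫ S'.fromSpecResidueField _) (by
      rw [Category.assoc, Category.assoc, ← Scheme.Hom.SpecMap_residueFieldMap_fromSpecResidueField,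
        ← Scheme.Hom.SpecMap_residueFieldMap_fromSpecResidueField, ← Spec.map_comp_assoc, hab,
        Category.assoc, Spec.map_comp, Category.assoc, Scheme.residueFieldCongr_fromSpecResidueField,
        Spec.map_comp, Category.assoc])
  have hm : Spec.map i ≫ m = X'.fromSpecResidueField x' := by
    apply hc.hom_ext
    · rw [Category.assoc, hc.lift_fst, ← Spec.map_comp_assoc, hai,
        Scheme.Hom.SpecMap_residueFieldMap_fromSpecResidueField]
    · rw [Category.assoc, hc.lift_snd, ← Spec.map_comp_assoc, hbi,
        Scheme.Hom.SpecMap_residueFieldMap_fromSpecResidueField]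
  obtain ⟨z, c, hzc⟩ := exists_hom m
  rw [hzc, ← Spec.map_comp_assoc] at hm
  obtain ⟨e', hce⟩ := hom_inj (c ≫ i) (𝟙 _) (hm.trans (by rw [Spec.map_id]; exact (Category.id_comp _).symm))
  subst e'
  rw [eq_top_iff]
  intro v _
  have hce' : c ≫ i = 𝟙 _ := by simpa using hce
  have : i.hom (c.hom v) = v := congr(($hce').hom v)
  exact this ▸ (c v).2

theorem exists_point_resTr_ge (hc : IsPullback g' f' f g) (x : X) (t' : S') (h : f x = g t') :
    ∃ x' : X', g' x' = x ∧ f' x' = t' ∧ resTr f x ≤ resTr f' x' := by
  letI := (f.residueFieldMap x).hom.toAlgebra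
  letI : Algebra (S.residueField (f x)) (S'.residueField t') :=
    ((S.residueFieldCongr h).hom ≫ g.residueFieldMap t').hom.toAlgebra
  obtain ⟨L, _, _, j, hj, ι, y, hcard, hy⟩ :=
    exists_compositum (k := S.residueField (f x)) (k' := S'.residueField t') (K := X.residueField x)
  let a : X.residueField x ⟶ CommRingCat.of L := CommRingCat.ofHom j
  let b : S'.residueField t' ⟶ CommRingCat.of L := CommRingCat.ofHom (algebraMap ↑(S'.residueField t') L)
  have hab : f.residueFieldMap x ≫ a = ((S.residueFieldCongr h).hom ≫ g.residueFieldMap t') ≫ b :=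
    CommRingCat.hom_ext hj
  let m : Spec (CommRingCat.of L) ⟶ X' := hc.lift (Spec.map a ≫ X.fromSpecResidueField _)
    (Spec.map b ≫ S'.fromSpecResidueField _) (by
      rw [Category.assoc, Category.assoc, ← Scheme.Hom.SpecMap_residueFieldMap_fromSpecResidueField,
        ← Scheme.Hom.SpecMap_residueFieldMap_fromSpecResidueField, ← Spec.map_comp_assoc, hab,
        Category.assoc, Spec.map_comp, Category.assoc, Scheme.residueFieldCongr_fromSpecResidueField,
        Spec.map_comp, Category.assoc])
  obtain ⟨x', c, hx'⟩ := exists_hom m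
  have h1 : Spec.map (g'.residueFieldMap x' ≫ c) ≫ X.fromSpecResidueField (g' x') =
      Spec.map a ≫ X.fromSpecResidueField x := by
    rw [Spec.map_comp, Category.assoc, Scheme.Hom.SpecMap_residueFieldMap_fromSpecResidueField,
      ← Category.assoc, ← hx', hc.lift_fst]
  have h2 : Spec.map (f'.residueFieldMap x' ≫ c) ≫ S'.fromSpecResidueField (f' x') =
      Spec.map b ≫ S'.fromSpecResidueField t' := by
    rw [Spec.map_comp, Category.assoc, Scheme.Hom.SpecMap_residueFieldMap_fromSpecResidueField,
      ← Category.assoc, ← hx', hc.lift_snd]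
  obtain ⟨e1, ha⟩ := hom_inj _ _ h1
  obtain ⟨e2, hb⟩ := hom_inj _ _ h2
  refine ⟨x', e1, e2, ?_⟩
  subst e1 e2
  simp only [Scheme.residueFieldCongr_refl, Iso.refl_hom, Category.id_comp] at ha hb
  letI := (f'.residueFieldMap x').hom.toAlgebra
  letI : Algebra (X'.residueField x') L := c.hom.toAlgebra
  haveI : IsScalarTower (S'.residueField (f' x')) (X'.residueField x') L :=
    .of_algebraMap_eq fun r => congr(($hb).hom r).symm
  have hy' : AlgebraicIndependent (S'.residueField (f' x')) fun n => g'.residueFieldMap x' (y n) := by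
    refine AlgebraicIndependent.of_comp (IsScalarTower.toAlgHom (S'.residueField (f' x')) (X'.residueField x') L) ?_
    convert hy using 1
    all_goals first
      | rfl
      | exact funext fun n => congr(($ha).hom (y n))
  exact hcard.ge.trans hy'.cardinalMk_le_trdeg

end Groth.Agent.FlatFun4
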