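import Groth.Agent.FlatSyz5.Colim
import Mathlib.RingTheory.Extension.Presentation.Core

/-! Noetherian models of finitely presented modules over finitely presented algebras. -/

set_option linter.style.haveILetI false
set_option autoImplicit false
set_option backward.isDefEq.respectTransparency false
set_option backward.isDefEq.respectTransparency.types false

universe u

open TensorProduct

namespace Groth.Agent.FlatFun4.ApproxMod

/-- A model over a finitely generated ring of an algebra with a module. -/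
structure Model (A B : Type u) [CommRing A] [CommRing B] [Algebra A B] (M : Type u) [AddCommGroup M] [Module B M] where
  C : Type u
  [ringC : CommRing C]
  [algC : Algebra C A]
  B₀ : Type u
  [ringB₀ : CommRing B₀]
  [algB₀ : Algebra C B₀]
  M₀ : Type u
  [addM₀ : AddCommGroup M₀]
  [modM₀ : Module B₀ M₀]
  [fpB₀ : Algebra.FinitePresentation C B₀]
  [fpM₀ : Module.FinitePresentation B₀ M₀]
  [ftC : Algebra.FiniteType ℤ C]
  e : A ⊗[C] B₀ ≃ₐ[A] B
  iso : letI : Algebra B₀ B := (e.toRingEquiv.toRingHom.comp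
      (Algebra.TensorProduct.includeRight (R := C) (A := A) (B := B₀)).toRingHom).toAlgebra
    Nonempty (B ⊗[B₀] M₀ ≃ₗ[B] M)

attribute [instance] Model.ringC Model.algC Model.ringB₀ Model.algB₀ Model.addM₀ Model.modM₀ Model.fpB₀
  Model.fpM₀ Model.ftC

variable {A B : Type u} [CommRing A] [CommRing B] [Algebra A B]

theorem map_inclusion {C B₀ : Type u} [CommRing C] [Algebra C A] [CommRing B₀] [Algebra C B₀]
    {D E : Subalgebra C A} (h : D ≤ E) (z : D ⊗[C] B₀) :
    Algebra.TensorProduct.map E.val (AlgHom.id C B₀)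
      (Algebra.TensorProduct.map (Subalgebra.inclusion h) (AlgHom.id C B₀) z) =
    Algebra.TensorProduct.map D.val (AlgHom.id C B₀) z := by
  induction z with
  | zero => simp only [map_zero]
  | tmul a b => simp only [Algebra.TensorProduct.map_tmul]; rfl
  | add a b ha hb => simp only [map_add, ha, hb]

theorem exists_tensor_stage {C B₀ : Type u} [CommRing C] [Algebra C A] [CommRing B₀] [Algebra C B₀]
    (x : A ⊗[C] B₀) : ∃ s : Finset A, x ∈ (Algebra.TensorProduct.map (Algebra.adjoin C (s : Set A)).val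
      (AlgHom.id C B₀)).range := by
  classical
  induction x with
  | zero => exact ⟨∅, zero_mem _⟩
  | tmul a b => exact ⟨{a}, ⟨⟨a, Algebra.subset_adjoin (by simp)⟩ ⊗ₜ b, by simp⟩⟩
  | add x y hx hy =>
    obtain ⟨s, hx⟩ := hx
    obtain ⟨t, hy⟩ := hy
    rw [AlgHom.mem_range] at hx hy
    obtain ⟨x', hx'⟩ := hx
    obtain ⟨y', hy'⟩ := hy
    have h1 : Algebra.adjoin C (s : Set A) ≤ Algebra.adjoin C (↑(s ∪ t) : Set A) :=
      Algebra.adjoin_mono (Finset.coe_subset.mpr Finset.subset_union_left)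
    have h2 : Algebra.adjoin C (t : Set A) ≤ Algebra.adjoin C (↑(s ∪ t) : Set A) :=
      Algebra.adjoin_mono (Finset.coe_subset.mpr Finset.subset_union_right)
    exact ⟨s ∪ t, add_mem ⟨_, (map_inclusion h1 x').trans hx'⟩ ⟨_, (map_inclusion h2 y').trans hy'⟩⟩

theorem exists_tensor_stage_finset {C B₀ : Type u} [CommRing C] [Algebra C A] [CommRing B₀] [Algebra C B₀]
    (xs : Finset (A ⊗[C] B₀)) : ∃ s : Finset A, ∀ x ∈ xs,
      x ∈ (Algebra.TensorProduct.map (Algebra.adjoin C (s : Set A)).val (AlgHom.id C B₀)).range := by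
  classical
  choose s hs using fun x : A ⊗[C] B₀ => exists_tensor_stage x
  refine ⟨xs.biUnion s, fun x hx => ?_⟩
  have h := hs x
  rw [AlgHom.mem_range] at h ⊢
  obtain ⟨z, hz⟩ := h
  exact ⟨_, (map_inclusion (Algebra.adjoin_mono (Finset.coe_subset.mpr (Finset.subset_biUnion_of_mem s hx))) z).trans hz⟩

theorem baseChange_quotient {B₁ : Type u} [CommRing B₁] [Algebra B₁ B] {M : Type u} [AddCommGroup M] [Module B M]
    {a : ℕ} (π : (Fin a → B) →ₗ[B] M) (hπ : Function.Surjective π) (K : Submodule B₁ (Fin a → B₁))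
    (hK : LinearMap.ker π = Submodule.span B ((fun v j => algebraMap B₁ B (v j)) '' (K : Set (Fin a → B₁)))) :
    Nonempty (B ⊗[B₁] ((Fin a → B₁) ⧸ K) ≃ₗ[B] M) := by
  classical
  letI : Module B₁ M := Module.compHom M (algebraMap B₁ B)
  haveI : IsScalarTower B₁ B M := .of_algebraMap_smul fun _ _ => rfl
  let ι : (Fin a → B₁) →ₗ[B₁] (Fin a → B) :=
    LinearMap.pi fun j => (Algebra.linearMap B₁ B).comp (LinearMap.proj j)
  have hι : ∀ v, ι v = fun j => algebraMap B₁ B (v j) := fun v => rfl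
  let ψ : ((Fin a → B₁) ⧸ K) →ₗ[B₁] M := K.liftQ ((π.restrictScalars B₁).comp ι) fun v hv => by
    show π (ι v) = 0
    rw [← LinearMap.mem_ker, hK, hι]
    exact Submodule.subset_span ⟨v, hv, rfl⟩
  let F : B ⊗[B₁] ((Fin a → B₁) ⧸ K) →ₗ[B] M := LinearMap.liftBaseChange B ψ
  let G : (Fin a → B) →ₗ[B] B ⊗[B₁] ((Fin a → B₁) ⧸ K) :=
    Fintype.linearCombination B fun j => (1 : B) ⊗ₜ K.mkQ (Pi.single j 1)
  have hι1 : ∀ j, ι (Pi.single j 1) = Pi.single j 1 := fun j => by
    funext i
    rw [hι]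
    rcases eq_or_ne i j with rfl | h
    · simp
    · simp [Pi.single_eq_of_ne h]
  have hFG : ∀ c, F (G c) = π c := fun c => by
    simp only [G, Fintype.linearCombination_apply, map_sum, map_smul, F, LinearMap.liftBaseChange_tmul,
      one_smul]
    conv_rhs => rw [pi_eq_sum_univ' c]
    simp only [map_sum, map_smul]
    exact Finset.sum_congr rfl fun j _ => by rw [show ψ (K.mkQ (Pi.single j 1)) = π (ι (Pi.single j 1)) from rfl, hι1]
  have hGι : ∀ v, G (ι v) = (1 : B) ⊗ₜ K.mkQ v := fun v => by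
    simp only [G, Fintype.linearCombination_apply, hι, algebraMap_smul]
    conv_rhs => rw [pi_eq_sum_univ' v]
    simp only [map_sum, map_smul, tmul_sum, tmul_smul]
  have hGs : Function.Surjective G := fun z => by
    induction z with
    | zero => exact ⟨0, map_zero _⟩
    | add x y hx hy =>
      obtain ⟨x, rfl⟩ := hx
      obtain ⟨y, rfl⟩ := hy
      exact ⟨x + y, map_add _ _ _⟩
    | tmul b m =>
      obtain ⟨v, rfl⟩ := K.mkQ_surjective m
      exact ⟨b • ι v, by rw [map_smul, hGι, smul_tmul', smul_eq_mul, mul_one]⟩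
  refine ⟨LinearEquiv.ofBijective F ⟨(injective_iff_map_eq_zero _).2 fun z hz => ?_, fun m => ?_⟩⟩
  · obtain ⟨c, rfl⟩ := hGs z
    rw [hFG] at hz
    have hc : c ∈ LinearMap.ker π := hz
    rw [hK] at hc
    suffices h : Submodule.span B ((fun v j => algebraMap B₁ B (v j)) '' (K : Set (Fin a → B₁))) ≤ LinearMap.ker G from
      h hc
    rw [Submodule.span_le]
    rintro _ ⟨v, hv, rfl⟩
    show G (ι v) = 0
    rw [hGι, Submodule.mkQ_apply, (Submodule.Quotient.mk_eq_zero K).2 hv, tmul_zero]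
  · obtain ⟨c, rfl⟩ := hπ m
    exact ⟨G c, hFG c⟩

variable (M : Type u) [AddCommGroup M] [Module B M]

omit [Module B M] in
theorem cancel_one_tmul {C B₀ : Type u} [CommRing C] [Algebra C A] [CommRing B₀] [Algebra C B₀]
    (D : Subalgebra C A) (z : D ⊗[C] B₀) :
    Algebra.TensorProduct.cancelBaseChange C D A A B₀ ((1 : A) ⊗ₜ z) =
      Algebra.TensorProduct.map D.val (AlgHom.id C B₀) z := by
  induction z with
  | zero => simp only [tmul_zero, map_zero]
  | tmul d b =>
    rw [Algebra.TensorProduct.map_tmul, AlgHom.id_apply]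
    simp [Algebra.smul_def]
  | add x y hx hy => simp only [tmul_add, map_add, hx, hy]

theorem nonempty_model_of_lift {C B₀ : Type u} [CommRing C] [Algebra C A] [CommRing B₀] [Algebra C B₀]
    [Algebra.FiniteType ℤ C] [Algebra.FinitePresentation C B₀] (e₀ : A ⊗[C] B₀ ≃ₐ[A] B) (D : Subalgebra C A)
    (hD : D.FG) {a : ℕ} (π : (Fin a → B) →ₗ[B] M) (hπ : Function.Surjective π) (G : Finset (Fin a → B))
    (hG : Submodule.span B (G : Set (Fin a → B)) = LinearMap.ker π)
    (hlift : ∀ v ∈ G, ∀ j, e₀.symm (v j) ∈ (Algebra.TensorProduct.map D.val (AlgHom.id C B₀)).range) :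
    Nonempty (Model A B M) := by
  classical
  haveI : Algebra.FiniteType C D := (Subalgebra.fg_iff_finiteType D).1 hD
  haveI : Algebra.FiniteType ℤ D := Algebra.FiniteType.trans (R := ℤ) (S := C) inferInstance inferInstance
  haveI : Algebra.FinitePresentation D (D ⊗[C] B₀) := inferInstance
  let e : A ⊗[D] (D ⊗[C] B₀) ≃ₐ[A] B :=
    (Algebra.TensorProduct.cancelBaseChange C D A A B₀).trans e₀
  letI : Algebra (D ⊗[C] B₀) B := (e.toRingEquiv.toRingHom.comp
    (Algebra.TensorProduct.includeRight (R := D) (A := A) (B := D ⊗[C] B₀)).toRingHom).toAlgebra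
  have hmap : ∀ z : D ⊗[C] B₀,
      algebraMap (D ⊗[C] B₀) B z = e₀ (Algebra.TensorProduct.map D.val (AlgHom.id C B₀) z) :=
    fun z => congrArg e₀ (cancel_one_tmul D z)
  have hlift' : ∀ v ∈ G, ∃ w : Fin a → D ⊗[C] B₀, (fun j => algebraMap (D ⊗[C] B₀) B (w j)) = v := fun v hv => by
    choose w hw using fun j => (AlgHom.mem_range _).1 (hlift v hv j)
    exact ⟨w, funext fun j => by rw [hmap, hw j, e₀.apply_symm_apply]⟩
  choose! lv hlv using hlift'
  let K : Submodule (D ⊗[C] B₀) (Fin a → D ⊗[C] B₀) := Submodule.span _ (lv '' G)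
  haveI : Module.FinitePresentation (D ⊗[C] B₀) ((Fin a → D ⊗[C] B₀) ⧸ K) :=
    Module.finitePresentation_of_surjective K.mkQ K.mkQ_surjective (by
      rw [Submodule.ker_mkQ]
      exact Submodule.fg_span (G.finite_toSet.image lv))
  have hK : LinearMap.ker π = Submodule.span B
      ((fun v j => algebraMap (D ⊗[C] B₀) B (v j)) '' (K : Set (Fin a → D ⊗[C] B₀))) := by
    refine le_antisymm (hG ▸ Submodule.span_le.2 fun v hv => Submodule.subset_span
      ⟨lv v, Submodule.subset_span ⟨v, hv, rfl⟩, hlv v hv⟩) (Submodule.span_le.2 ?_)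
    rintro _ ⟨w, hw, rfl⟩
    show π _ = 0
    induction hw using Submodule.span_induction with
    | mem w hw =>
      obtain ⟨v, hv, rfl⟩ := hw
      show π (fun j => algebraMap (D ⊗[C] B₀) B (lv v j)) = 0
      rw [hlv v hv]
      exact hG.le (Submodule.subset_span hv)
    | zero => simp only [Pi.zero_apply, map_zero]; exact map_zero π
    | add x y _ _ hx hy =>
      simp only [Pi.add_apply, map_add]
      show π ((fun j => algebraMap (D ⊗[C] B₀) B (x j)) + fun j => algebraMap (D ⊗[C] B₀) B (y j)) = 0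
      rw [map_add, hx, hy, add_zero]
    | smul c x _ hx =>
      simp only [Pi.smul_apply, smul_eq_mul, map_mul]
      show π (algebraMap (D ⊗[C] B₀) B c • fun j => algebraMap (D ⊗[C] B₀) B (x j)) = 0
      rw [map_smul, hx, smul_zero]
  exact ⟨{ C := D, B₀ := D ⊗[C] B₀, M₀ := (Fin a → D ⊗[C] B₀) ⧸ K, e := e, iso := baseChange_quotient π hπ K hK }⟩

theorem nonempty_model [Algebra.FinitePresentation A B] [Module.FinitePresentation B M] :
    Nonempty (Model A B M) := by
  classical
  let P := Algebra.Presentation.ofFinitePresentation A B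
  obtain ⟨a, π, hπ⟩ := Module.Finite.exists_fin' B M
  obtain ⟨G, hG⟩ := Module.FinitePresentation.fg_ker π hπ
  obtain ⟨s, hs⟩ := exists_tensor_stage_finset (C := P.Core) (B₀ := P.ModelOfHasCoeffs P.Core)
    (G.biUnion fun v => Finset.univ.image fun j => (P.tensorModelOfHasCoeffsEquiv P.Core).symm (v j))
  exact nonempty_model_of_lift M (P.tensorModelOfHasCoeffsEquiv P.Core) _ (Subalgebra.fg_adjoin_finset s) π hπ G hG
    fun v hv j => hs _ (Finset.mem_biUnion.mpr ⟨v, hv, Finset.mem_image.mpr ⟨j, Finset.mem_univ j, rfl⟩⟩)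

variable {M} [Module A M] [IsScalarTower A B M]

omit [Module A M] [IsScalarTower A B M] in
theorem flat_model_of_pushout {C D B₀ B₁ M₀ : Type u} [CommRing C] [CommRing D] [Algebra C D] [Algebra D A]
    [Algebra.FiniteType ℤ D] [CommRing B₀] [Algebra C B₀] [CommRing B₁] [Algebra C B₁] [Algebra D B₁]
    [Algebra B₀ B₁] [IsScalarTower C D B₁] [IsScalarTower C B₀ B₁] [Algebra.IsPushout C D B₀ B₁]
    [Algebra.FinitePresentation D B₁] (e : A ⊗[D] B₁ ≃ₐ[A] B) [Algebra B₀ B]
    (he : ∀ b, algebraMap B₀ B b = e ((1 : A) ⊗ₜ algebraMap B₀ B₁ b)) [AddCommGroup M₀] [Module C M₀] [Module B₀ M₀]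
    [IsScalarTower C B₀ M₀] [Module.FinitePresentation B₀ M₀] (i : B ⊗[B₀] M₀ ≃ₗ[B] M)
    (hflat : Module.Flat D (D ⊗[C] M₀)) :
    ∃ (m' : Model A B M) (_ : Module m'.C m'.M₀) (_ : IsScalarTower m'.C m'.B₀ m'.M₀),
      Module.Flat m'.C m'.M₀ := by
  letI : Algebra B₁ B := (e.toRingEquiv.toRingHom.comp
    (Algebra.TensorProduct.includeRight (R := D) (A := A) (B := B₁)).toRingHom).toAlgebra
  haveI : IsScalarTower B₀ B₁ B := .of_algebraMap_eq fun b => he b
  refine ⟨{
      C := D
      B₀ := B₁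
      M₀ := B₁ ⊗[B₀] M₀
      e := e
      iso := ⟨(AlgebraTensorModule.cancelBaseChange B₀ B₁ B B M₀).trans i⟩ },
    (inferInstance : Module D (B₁ ⊗[B₀] M₀)), (inferInstance : IsScalarTower D B₁ (B₁ ⊗[B₀] M₀)), ?_⟩
  exact Module.Flat.of_linearEquiv (Algebra.IsPushout.cancelBaseChange C D B₀ B₁ M₀)

omit [Module A M] [IsScalarTower A B M] in
theorem flat_model_of_stage (m : Model A B M) [Module m.C m.M₀] [IsScalarTower m.C m.B₀ m.M₀]
    (D : Subalgebra m.C A) (hD : D.FG) (hflat : Module.Flat D (D ⊗[m.C] m.M₀)) :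
    ∃ (m' : Model A B M) (_ : Module m'.C m'.M₀) (_ : IsScalarTower m'.C m'.B₀ m'.M₀),
      Module.Flat m'.C m'.M₀ := by
  haveI : Algebra.FiniteType m.C D := (Subalgebra.fg_iff_finiteType D).1 hD
  haveI : Algebra.FiniteType ℤ D := Algebra.FiniteType.trans (R := ℤ) (S := m.C) inferInstance inferInstance
  letI : Algebra m.B₀ B := (m.e.toRingEquiv.toRingHom.comp
    (Algebra.TensorProduct.includeRight (R := m.C) (A := A) (B := m.B₀)).toRingHom).toAlgebra
  letI : Algebra m.B₀ (D ⊗[m.C] m.B₀) := Algebra.TensorProduct.rightAlgebra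
  obtain ⟨i⟩ := m.iso
  exact flat_model_of_pushout (C := m.C) (D := D) (B₀ := m.B₀) (B₁ := D ⊗[m.C] m.B₀)
    ((Algebra.TensorProduct.cancelBaseChange m.C D A A m.B₀).trans m.e)
    (fun b => (congrArg m.e (show Algebra.TensorProduct.cancelBaseChange m.C D A A m.B₀ ((1 : A) ⊗ₜ ((1 : D) ⊗ₜ b)) =
      (1 : A) ⊗ₜ b by simp)).symm) i hflat

set_option maxHeartbeats 1000000 in
theorem nonempty_flat_model [Algebra.FinitePresentation A B] [Module.FinitePresentation B M] [Module.Flat A M] :
    ∃ (m : Model A B M) (_ : Module m.C m.M₀) (_ : IsScalarTower m.C m.B₀ m.M₀), Module.Flat m.C m.M₀ := by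
  classical
  obtain ⟨m⟩ := nonempty_model (A := A) (B := B) M
  letI : Module m.C m.M₀ := Module.compHom m.M₀ (algebraMap m.C m.B₀)
  haveI : IsScalarTower m.C m.B₀ m.M₀ := .of_algebraMap_smul fun _ _ => rfl
  let incl := (Algebra.TensorProduct.includeRight (R := m.C) (A := A) (B := m.B₀)).toRingHom
  letI : Algebra m.B₀ B := (m.e.toRingEquiv.toRingHom.comp incl).toAlgebra
  letI : Algebra m.C B := ((algebraMap A B).comp (algebraMap m.C A)).toAlgebra
  haveI : IsScalarTower m.C A B := .of_algebraMap_eq fun _ => rfl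
  haveI : IsScalarTower m.C m.B₀ B := .of_algebraMap_eq fun c => by
    show algebraMap A B (algebraMap m.C A c) = m.e ((1 : A) ⊗ₜ algebraMap m.C m.B₀ c)
    rw [← m.e.commutes]
    congr 1
    rw [Algebra.TensorProduct.algebraMap_apply, Algebra.algebraMap_self, RingHom.id_apply,
      Algebra.algebraMap_eq_smul_one, Algebra.algebraMap_eq_smul_one, smul_tmul]
  haveI : Algebra.IsPushout m.C A m.B₀ B := by
    refine ⟨IsBaseChange.of_equiv m.e.toLinearEquiv fun b => ?_⟩
    show m.e ((1 : A) ⊗ₜ b) = _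
    rfl
  have hflat : Module.Flat A (A ⊗[m.C] m.M₀) := by
    obtain ⟨i⟩ := m.iso
    exact Module.Flat.of_linearEquiv
      ((Algebra.IsPushout.cancelBaseChange m.C A m.B₀ B m.M₀).symm.trans (i.restrictScalars A))
  let G : Finset A → Type u := fun s => Algebra.adjoin m.C (s : Set A)
  let g : ∀ s t, s ≤ t → G s →ₐ[m.C] G t := fun s t h =>
    Subalgebra.inclusion (Algebra.adjoin_mono (Finset.coe_subset.mpr h))
  have hG : FlatCA.IsDirectedColimitRing G (fun s t h => (g s t h).toRingHom) A := by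
    refine ⟨inferInstance, inferInstance, fun s => RingHom.ext fun x => rfl,
      fun s t r _ _ => RingHom.ext fun x => rfl, fun s t _ => RingHom.ext fun x => rfl,
      fun x => ⟨{x}, ⟨x, Algebra.subset_adjoin (by simp)⟩, rfl⟩,
      fun s x hx => ⟨s, le_rfl, Subtype.ext hx⟩⟩
  obtain ⟨s, hsflat⟩ := FlatSyz5.exists_flat_stage (B₀ := m.B₀) G g A hG m.M₀ hflat
  exact flat_model_of_stage m (Algebra.adjoin m.C (s : Set A)) (Subalgebra.fg_adjoin_finset s) hsflat

end Groth.Agent.FlatFun4.ApproxMod
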