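import Groth.Agent.FlatFun4.ApproxMod
import Groth.Agent.FlatFun4.FPPull
import Groth.Agent.GrFlat5.FlatAtIso
import Groth.Agent.QCoh.SpecFT
import Groth.Agent.QCoh.Support
import Groth.Agent.MorLib.FlatBC
import Groth.Agent.S2265
import Groth.Agent.S2394
import Mathlib.AlgebraicGeometry.Morphisms.FiniteType

/-! Noetherian models of finitely presented sheaves on affine schemes. -/

set_option linter.style.haveILetI false
set_option autoImplicit false
set_option backward.isDefEq.respectTransparency false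
set_option backward.isDefEq.respectTransparency.types false

universe u

open AlgebraicGeometry CategoryTheory Limits TensorProduct

namespace Groth.Agent.FlatFun4.ApproxScheme

variable {X S : Scheme.{u}} [IsAffine X] [IsAffine S]

/-- The module of a sheaf on an affine scheme, read on the spectrum of global sections. -/
noncomputable abbrev secMod (F : X.Modules) : ModuleCat.{u} Γ(X, ⊤) :=
  moduleSpecΓFunctor.obj ((Scheme.Modules.pullback X.isoSpec.inv).obj F)

theorem isQCoh_spec {F : X.Modules} (hF : CohB1.IsFP F) :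
    Coh.IsQCoh ((Scheme.Modules.pullback X.isoSpec.inv).obj F) :=
  QCoh.isQCoh_of_isFP (FlatFun4.isFP_pullback _ hF)

/-- The sheaf on the spectrum is the tilde of its sections. -/
noncomputable def tildeSecIso {F : X.Modules} (hF : CohB1.IsFP F) :
    tilde (secMod F) ≅ (Scheme.Modules.pullback X.isoSpec.inv).obj F :=
  haveI : IsIso ((tilde.adjunction (R := Γ(X, ⊤))).counit.app ((Scheme.Modules.pullback X.isoSpec.inv).obj F)) :=
    isIso_fromTildeΓ_iff.mpr (QCoh.isQCoh_spec_iff.mp (isQCoh_spec hF))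
  asIso ((tilde.adjunction (R := Γ(X, ⊤))).counit.app _)

theorem fp_secMod {F : X.Modules} (hF : CohB1.IsFP F) : Module.FinitePresentation Γ(X, ⊤) (secMod F) :=
  (QCoh.isFP_iff_finitePresentation _ (isQCoh_spec hF)).1 (FlatFun4.isFP_pullback _ hF)

theorem flat_secMod (f : X ⟶ S) {F : X.Modules} (hF : CohB1.IsFP F) (hfl : FlatMod.IsFlatOver f F) :
    (letI : Module Γ(S, ⊤) (secMod F) := Module.compHom _ f.appTop.hom
     Module.Flat Γ(S, ⊤) (secMod F)) := by
  letI : Algebra Γ(S, ⊤) Γ(X, ⊤) := f.appTop.hom.toAlgebra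
  letI : Module Γ(S, ⊤) (secMod F) := Module.compHom _ f.appTop.hom
  haveI : IsScalarTower Γ(S, ⊤) Γ(X, ⊤) (secMod F) := .of_algebraMap_smul fun _ _ => rfl
  refine (S2394.result Γ(S, ⊤) Γ(X, ⊤) (secMod F)).1 fun x => ?_
  exact GrFlat5.isFlatOverAt_of_iso _ (tildeSecIso hF).symm x
    (MorLib.FlatBC.isFlatOverAt_baseChange f (Spec.map f.appTop) X.isoSpec.inv S.isoSpec.inv
      (IsPullback.of_horiz_isIso ⟨(Scheme.isoSpec_inv_naturality f).symm⟩) F x (hfl _))

theorem isPullback_model (f : X ⟶ S) {C B₀ : Type u} [CommRing C] [Algebra C Γ(S, ⊤)] [CommRing B₀] [Algebra C B₀]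
    (e : letI := f.appTop.hom.toAlgebra
      Γ(S, ⊤) ⊗[C] B₀ ≃ₐ[Γ(S, ⊤)] Γ(X, ⊤)) :
    IsPullback (X.isoSpec.hom ≫ Spec.map (CommRingCat.ofHom (letI := f.appTop.hom.toAlgebra
        e.toRingEquiv.toRingHom.comp
          (Algebra.TensorProduct.includeRight (R := C) (A := Γ(S, ⊤)) (B := B₀)).toRingHom)))
      f (Spec.map (CommRingCat.ofHom (algebraMap C B₀)))
      (S.isoSpec.hom ≫ Spec.map (CommRingCat.ofHom (algebraMap C Γ(S, ⊤)))) := by
  letI := f.appTop.hom.toAlgebra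
  have h := isPullback_SpecMap_of_isPushout _ _ _ _ (CommRingCat.isPushout_tensorProduct C Γ(S, ⊤) B₀)
  let ei : CommRingCat.of (TensorProduct C Γ(S, ⊤) B₀) ≅ Γ(X, ⊤) :=
    RingEquiv.toCommRingCatIso (R := CommRingCat.of (TensorProduct C Γ(S, ⊤) B₀)) e.toRingEquiv
  let iX : X ≅ Spec (CommRingCat.of (TensorProduct C Γ(S, ⊤) B₀)) :=
    X.isoSpec ≪≫ Scheme.Spec.mapIso ei.op
  have he : CommRingCat.ofHom (Algebra.TensorProduct.includeLeftRingHom
      (R := C) (A := Γ(S, ⊤)) (B := B₀)) ≫ ei.hom = f.appTop := by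
    ext x
    exact e.commutes x
  have hcomm : f ≫ S.isoSpec.hom = iX.hom ≫ Spec.map (CommRingCat.ofHom
      (Algebra.TensorProduct.includeLeftRingHom (R := C) (A := Γ(S, ⊤)) (B := B₀))) := by
    rw [← Scheme.isoSpec_hom_naturality, ← he, Spec.map_comp]
    simp only [iX, Iso.trans_hom, Functor.mapIso_hom, Iso.op_hom, Category.assoc]
    rfl
  have hg : X.isoSpec.hom ≫ Spec.map (CommRingCat.ofHom (e.toRingEquiv.toRingHom.comp
      (Algebra.TensorProduct.includeRight (R := C) (A := Γ(S, ⊤)) (B := B₀)).toRingHom)) =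
      iX.hom ≫ Spec.map (CommRingCat.ofHom
        (Algebra.TensorProduct.includeRight (R := C) (A := Γ(S, ⊤)) (B := B₀)).toRingHom) := by
    simp only [iX, Iso.trans_hom, Functor.mapIso_hom, Iso.op_hom, Category.assoc]
    refine congrArg (X.isoSpec.hom ≫ ·) ?_
    show Spec.map (CommRingCat.ofHom (Algebra.TensorProduct.includeRight (R := C) (A := Γ(S, ⊤)) (B := B₀)).toRingHom ≫
      ei.hom) = Spec.map ei.hom ≫ _
    exact Spec.map_comp _ _
  rw [hg]
  exact h.flip.of_iso iX.symm (Iso.refl _) S.isoSpec.symm (Iso.refl _) (by simp) (by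
    simp only [Iso.symm_hom, Category.assoc]
    rw [Iso.eq_inv_comp, ← Category.assoc, Iso.comp_inv_eq]
    exact hcomm.symm) (by simp) (by simp)

/-- The pullback of the model sheaf is the given sheaf. -/
theorem nonempty_pullback_model_iso {F : X.Modules} (hF : CohB1.IsFP F) {B₀ : Type u} [CommRing B₀]
    (φ : B₀ →+* Γ(X, ⊤)) {M₀ : Type u} [AddCommGroup M₀] [Module B₀ M₀]
    (i : letI := φ.toAlgebra; Γ(X, ⊤) ⊗[B₀] M₀ ≃ₗ[Γ(X, ⊤)] secMod F) :
    Nonempty ((Scheme.Modules.pullback (X.isoSpec.hom ≫ Spec.map (CommRingCat.ofHom φ))).obj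
      (tilde (R := CommRingCat.of B₀) (ModuleCat.of B₀ M₀)) ≅ F) := by
  letI := φ.toAlgebra
  obtain ⟨j⟩ := S2265.result B₀ Γ(X, ⊤) M₀
  refine ⟨((Scheme.Modules.pullbackComp X.isoSpec.hom (Spec.map (CommRingCat.ofHom φ))).app _).symm ≪≫
    (Scheme.Modules.pullback X.isoSpec.hom).mapIso
      (j ≪≫ (tilde.functor Γ(X, ⊤)).mapIso i.toModuleIso ≪≫ tildeSecIso hF) ≪≫
    (Scheme.Modules.pullbackComp X.isoSpec.hom X.isoSpec.inv).app F ≪≫
    (Scheme.Modules.pullbackCongr X.isoSpec.hom_inv_id).app F ≪≫ (Scheme.Modules.pullbackId X).app F⟩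

theorem isCoh_tilde {B₀ : Type u} [CommRing B₀] [IsNoetherianRing B₀] (M₀ : Type u) [AddCommGroup M₀]
    [Module B₀ M₀] [Module.FinitePresentation B₀ M₀] :
    Coh.IsCoh (tilde (R := CommRingCat.of B₀) (ModuleCat.of B₀ M₀)) :=
  QCoh.isCoh_iff_isFP.2 ((QCoh.isFP_tilde_iff _).2 ‹_›)

theorem finiteType_Γ_Spec (C : Type u) [CommRing C] [h : Algebra.FiniteType ℤ C] :
    Algebra.FiniteType ℤ Γ(Spec (CommRingCat.of C), ⊤) :=
  Algebra.FiniteType.equiv h (Scheme.ΓSpecIso (CommRingCat.of C)).commRingCatIsoToRingEquiv.symm.toIntAlgEquiv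

end Groth.Agent.FlatFun4.ApproxScheme
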