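import Groth.Agent.AssPtX.Noeth
import Groth.Agent.DimFormula.DedekindFlat
import Groth.Agent.QCoh.VanIdeal

/-! Flatness over regular bases of dimension one, tested on associated points. -/

set_option linter.style.haveILetI false
set_option autoImplicit false
set_option backward.isDefEq.respectTransparency false
set_option backward.isDefEq.respectTransparency.types false

universe u

open AlgebraicGeometry CategoryTheory

namespace Groth.Agent.FlatFun4.AssFlat

variable {X Y : Scheme.{u}}

theorem isAssPoint_fromSpecStalk (x : X) (P : Ideal (X.presheaf.stalk x)) [hP : P.IsPrime]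
    (h : P ∈ FlatCA.weakAss (X.presheaf.stalk x) (X.presheaf.stalk x)) :
    Curv2.IsAssPoint (Coh.structureModule X) (X.fromSpecStalk x (⟨P, hP⟩ : PrimeSpectrum (X.presheaf.stalk x))) := by
  obtain ⟨V, hV, hxV, -⟩ := exists_isAffineOpen_mem_and_subset (x := x) (U := ⊤) trivial
  letI := QCoh.stalkAlg (X := X) hxV
  haveI := QCoh.isLocalization_stalk' hV hxV
  let S := (hV.primeIdealOf ⟨x, hxV⟩).asIdeal.primeCompl
  have hPc : P.comap (algebraMap Γ(X, V) (X.presheaf.stalk x)) ∈ FlatCA.weakAss Γ(X, V) Γ(X, V) := by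
    refine (WeakAss.mem_weakAss_iff_map S (R' := X.presheaf.stalk x)
      (Algebra.linearMap Γ(X, V) (X.presheaf.stalk x)) ?_).2 ?_
    · exact (IsLocalization.isPrime_iff_isPrime_disjoint S (X.presheaf.stalk x) P).1 hP |>.2
    · rw [IsLocalization.map_comap S]
      exact h
  obtain ⟨z, hz, hzq⟩ := QCoh.exists_point hV ⟨P.comap (algebraMap Γ(X, V) _), Ideal.IsPrime.comap _⟩
  have e : X.fromSpecStalk x (⟨P, hP⟩ : PrimeSpectrum (X.presheaf.stalk x)) = z := by
    rw [← hV.fromSpecStalk_eq_fromSpecStalk hxV, IsAffineOpen.fromSpecStalk, Scheme.Hom.comp_apply]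
    refine Eq.trans (congrArg hV.fromSpec ?_) (hV.fromSpec_primeIdealOf ⟨z, hz⟩)
    rw [hzq]
    rfl
  rw [e, AssPtX.isAssPoint_iff, AssPtX.isWeakAssPoint_iff_sections QCoh.isQCoh_structureModule hV hz, hzq]
  exact hPc

theorem maximalIdeal_mem_weakAss (z : X) (h : Curv2.IsAssPoint (Coh.structureModule X) z) :
    IsLocalRing.maximalIdeal (X.presheaf.stalk z) ∈ FlatCA.weakAss (X.presheaf.stalk z) (X.presheaf.stalk z) := by
  obtain ⟨V, hV, hzV, -⟩ := exists_isAffineOpen_mem_and_subset (x := z) (U := ⊤) trivial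
  letI := QCoh.stalkAlg (X := X) hzV
  haveI := QCoh.isLocalization_stalk' hV hzV
  have h1 : (hV.primeIdealOf ⟨z, hzV⟩).asIdeal ∈ FlatCA.weakAss Γ(X, V) Γ(X, V) :=
    (AssPtX.isWeakAssPoint_iff_sections QCoh.isQCoh_structureModule hV hzV).1 (AssPtX.isAssPoint_iff.1 h)
  have h2 := (WeakAss.mem_weakAss_iff_map (hV.primeIdealOf ⟨z, hzV⟩).asIdeal.primeCompl (R' := X.presheaf.stalk z)
    (Algebra.linearMap Γ(X, V) (X.presheaf.stalk z)) (Set.disjoint_left.2 fun _ h h' => h h')).1 h1
  rwa [IsLocalization.AtPrime.map_eq_maximalIdeal] at h2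

/-- Over regular local rings of dimension at most one, flat when associated points go to zero-dimensional ones. -/
theorem flat_of_assPoints (f : X ⟶ Y) (hreg : ∀ y : Y, IsRegularLocalRing (Y.presheaf.stalk y))
    (hdim : ∀ y : Y, ringKrullDim (Y.presheaf.stalk y) ≤ 1)
    (h : ∀ x : X, Curv2.IsAssPoint (Coh.structureModule X) x → IsField (Y.presheaf.stalk (f x))) : Flat f := by
  refine Flat.of_stalkMap f fun x => ?_
  haveI := hreg (f x)
  haveI := RegLoc6.isDomain_of_isRegularLocalRing (Y.presheaf.stalk (f x))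
  haveI := DimFormula.isPrincipalIdealRing_of_regular_dim_le_one (hdim (f x))
  letI := (f.stalkMap x).hom.toAlgebra
  show Module.Flat (Y.presheaf.stalk (f x)) (X.presheaf.stalk x)
  rw [Module.Flat.flat_iff_torsion_eq_bot_of_isBezout, eq_bot_iff]
  rintro b ⟨⟨r, hr⟩, hrb⟩
  replace hrb : algebraMap (Y.presheaf.stalk (f x)) (X.presheaf.stalk x) r * b = 0 := by rw [← Algebra.smul_def]; exact hrb
  by_contra hb0
  have hmem : algebraMap (Y.presheaf.stalk (f x)) (X.presheaf.stalk x) r ∈
      ⋃ q ∈ FlatCA.weakAss (X.presheaf.stalk x) (X.presheaf.stalk x), (q : Set (X.presheaf.stalk x)) := by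
    rw [WeakAss.biUnion_weakAss]
    exact fun hreg => hb0 (hreg (show _ • b = _ • (0 : X.presheaf.stalk x) by simp only [smul_eq_mul, hrb, mul_zero]))
  obtain ⟨P, hP, hrP⟩ := Set.mem_iUnion₂.1 hmem
  haveI hPp : P.IsPrime := (WeakAss.mem_weakAss_iff.1 hP).choose_spec.1.1
  have hass := h _ (isAssPoint_fromSpecStalk x P hP)
  let q := P.comap (algebraMap (Y.presheaf.stalk (f x)) (X.presheaf.stalk x))
  have hq0 : q ≠ ⊥ := fun e => nonZeroDivisors.ne_zero hr (by
    have : r ∈ q := hrP
    rwa [e] at this)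
  have hqmax : q.IsMaximal := (Ideal.IsPrime.comap _ : q.IsPrime).isMaximal_of_ne_bot hq0
  have e : f (X.fromSpecStalk x (⟨P, hPp⟩ : PrimeSpectrum (X.presheaf.stalk x))) = f x := by
    have h1 : f (X.fromSpecStalk x (⟨P, hPp⟩ : PrimeSpectrum (X.presheaf.stalk x))) =
        Y.fromSpecStalk (f x) (⟨q, Ideal.IsPrime.comap _⟩ : PrimeSpectrum (Y.presheaf.stalk (f x))) := by
      show (X.fromSpecStalk x ≫ f) _ = _
      rw [← Scheme.SpecMap_stalkMap_fromSpecStalk f]
      rfl
    rw [h1]
    refine Eq.trans (congrArg _ (PrimeSpectrum.ext ?_)) Scheme.fromSpecStalk_closedPoint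
    exact IsLocalRing.eq_maximalIdeal hqmax
  rw [e] at hass
  exact hq0 ((IsLocalRing.eq_maximalIdeal hqmax).trans (IsLocalRing.isField_iff_maximalIdeal_eq.1 hass))

/-- A flat morphism to a scheme with domain stalks sends associated points to zero-dimensional ones. -/
theorem isField_of_flat (f : X ⟶ Y) [Flat f] (z : X) (h : Curv2.IsAssPoint (Coh.structureModule X) z)
    [IsDomain (Y.presheaf.stalk (f z))] : IsField (Y.presheaf.stalk (f z)) := by
  rw [IsLocalRing.isField_iff_maximalIdeal_eq]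
  letI := (f.stalkMap z).hom.toAlgebra
  haveI : Module.Flat (Y.presheaf.stalk (f z)) (X.presheaf.stalk z) := Flat.stalkMap f z
  refine (Submodule.eq_bot_iff _).2 fun r hr => by_contra fun hr0 => ?_
  have hreg : IsSMulRegular (Y.presheaf.stalk (f z)) r := fun a b hab => mul_left_cancel₀ hr0 hab
  have hmem : algebraMap (Y.presheaf.stalk (f z)) (X.presheaf.stalk z) r ∈
      ⋃ q ∈ FlatCA.weakAss (X.presheaf.stalk z) (X.presheaf.stalk z), (q : Set (X.presheaf.stalk z)) :=
    Set.mem_iUnion₂.2 ⟨_, maximalIdeal_mem_weakAss z h, map_nonunit (f.stalkMap z).hom r hr⟩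
  rw [WeakAss.biUnion_weakAss] at hmem
  exact hmem (hreg.of_flat (S := X.presheaf.stalk z))

/-- Finite type over a locally noetherian scheme is locally of finite presentation. -/
theorem lfp_of_noetherian (f : X ⟶ Y) [IsLocallyNoetherian Y] [LocallyOfFiniteType f] :
    LocallyOfFinitePresentation f := by
  rw [HasRingHomProperty.iff_appLE (P := @LocallyOfFinitePresentation)]
  intro U V e
  have hU : IsNoetherianRing Γ(Y, U) := IsLocallyNoetherian.component_noetherian U
  exact (RingHom.FinitePresentation.of_finiteType).1 (HasRingHomProperty.appLE @LocallyOfFiniteType f ‹_› U V e)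

end Groth.Agent.FlatFun4.AssFlat
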