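import Mathlib.RingTheory.IsTensorProduct
import Mathlib.LinearAlgebra.TensorProduct.RightExactness
import Mathlib.LinearAlgebra.Basis.Basic
import Mathlib.RingTheory.TensorProduct.Free

/-! Base change of a cokernel presentation and of a map bijective at a field point. -/

set_option linter.style.haveILetI false
set_option autoImplicit false
set_option backward.isDefEq.respectTransparency false
set_option backward.isDefEq.respectTransparency.types false

universe u

open TensorProduct

namespace Groth.Agent.FlatFun4.CokerBC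

variable {B B' : Type u} [CommRing B] [CommRing B'] [Algebra B B']
  {F M P M' P' : Type u} [AddCommGroup F] [Module B F] [AddCommGroup M] [Module B M]
  [AddCommGroup P] [Module B P] [AddCommGroup M'] [Module B' M'] [Module B M'] [IsScalarTower B B' M']
  [AddCommGroup P'] [Module B' P'] [Module B P'] [IsScalarTower B B' P']

/-- Right exactness, for chosen base changes. -/
theorem ker_lift {α : F →ₗ[B] M} {q : M →ₗ[B] P} (hex : Function.Exact α q) (hq : Function.Surjective q)
    {f : M →ₗ[B] M'} (hf : IsBaseChange B' f) {g : P →ₗ[B] P'} (hg : IsBaseChange B' g) :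
    LinearMap.ker (hf.lift (g ∘ₗ q)) = Submodule.span B' (f '' (LinearMap.range α : Set M)) ∧
      Function.Surjective (hf.lift (g ∘ₗ q)) := by
  have key : ∀ z, hf.lift (g ∘ₗ q) (hf.equiv z) = hg.equiv (q.lTensor B' z) := by
    intro z
    induction z using TensorProduct.induction_on with
    | zero => simp
    | tmul b m => simp [IsBaseChange.equiv_tmul, IsBaseChange.lift_eq]
    | add x y hx hy => simp only [map_add, hx, hy]
  refine ⟨le_antisymm (fun x hx => ?_) (Submodule.span_le.mpr ?_), fun y => ?_⟩
  · obtain ⟨z, rfl⟩ := hf.equiv.surjective x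
    rw [LinearMap.mem_ker, key, LinearEquiv.map_eq_zero_iff] at hx
    obtain ⟨w, rfl⟩ := (lTensor_exact B' hex hq z).mp hx
    clear hx
    induction w using TensorProduct.induction_on with
    | zero => simp
    | tmul b m =>
      rw [LinearMap.lTensor_tmul, IsBaseChange.equiv_tmul]
      exact Submodule.smul_mem _ _ (Submodule.subset_span ⟨α m, ⟨m, rfl⟩, rfl⟩)
    | add x y hx hy => rw [map_add, map_add]; exact add_mem hx hy
  · rintro _ ⟨_, ⟨m, rfl⟩, rfl⟩
    show hf.lift (g ∘ₗ q) (f (α m)) = 0
    simp [IsBaseChange.lift_eq, hex.apply_apply_eq_zero]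
  · obtain ⟨z, rfl⟩ := hg.equiv.surjective y
    obtain ⟨w, rfl⟩ := LinearMap.lTensor_surjective B' hq z
    exact ⟨hf.equiv w, key w⟩

/-- A map from a finite free module which is bijective at a field point stays so after base change. -/
theorem bijective_baseChange {L L' : Type u} [Field L] [Field L'] [Algebra B L] [Algebra B' L']
    [Algebra L L'] (hcomm : ∀ b, algebraMap L L' (algebraMap B L b) = algebraMap B' L' (algebraMap B B' b))
    {r : ℕ} (α : (Fin r → B) →ₗ[B] M) (hα : Function.Bijective (α.baseChange L))
    {f : M →ₗ[B] M'} (hf : IsBaseChange B' f) (α' : (Fin r → B') →ₗ[B'] M')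
    (hα' : ∀ j, α' (Pi.single j 1) = f (α (Pi.single j 1))) :
    Function.Bijective (α'.baseChange L') := by
  letI : Algebra B L' := ((algebraMap B' L').comp (algebraMap B B')).toAlgebra
  haveI : IsScalarTower B B' L' := .of_algebraMap_eq fun _ => rfl
  haveI : IsScalarTower B L L' := .of_algebraMap_eq fun b => (hcomm b).symm
  let b : Module.Basis (Fin r) L (L ⊗[B] M) :=
    ((Pi.basisFun B (Fin r)).baseChange L).map (LinearEquiv.ofBijective (α.baseChange L) hα)
  let Φ : L' ⊗[L] (L ⊗[B] M) ≃ₗ[L'] L' ⊗[B'] M' :=
    AlgebraTensorModule.cancelBaseChange B L L' L' M ≪≫ₗ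
      (AlgebraTensorModule.cancelBaseChange B B' L' L' M).symm ≪≫ₗ
      AlgebraTensorModule.congr (LinearEquiv.refl L' L') hf.equiv
  let b' : Module.Basis (Fin r) L' (L' ⊗[B'] M') := (b.baseChange L').map Φ
  have h : α'.baseChange L' = (((Pi.basisFun B' (Fin r)).baseChange L').equiv b' (Equiv.refl _)).toLinearMap := by
    refine ((Pi.basisFun B' (Fin r)).baseChange L').ext fun j => ?_
    rw [LinearEquiv.coe_coe, Module.Basis.equiv_apply]
    simp [b', b, Φ, hα', IsBaseChange.equiv_tmul]
  rw [h]
  exact LinearEquiv.bijective _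

end Groth.Agent.FlatFun4.CokerBC
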