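import Groth.Prelude.Def_FlatCA
import Groth.Agent.GrpSchLib.SmoothReduced
import Mathlib.RingTheory.TensorProduct.Quotient
import Mathlib.RingTheory.Smooth.Flat

/-! Smooth algebras with geometrically irreducible fibres: the fibre ideals are prime. -/

set_option linter.style.haveILetI false
set_option autoImplicit false
set_option backward.isDefEq.respectTransparency false
set_option backward.isDefEq.respectTransparency.types false

universe u

open TensorProduct AlgebraicGeometry CategoryTheory Limits

namespace Groth.Agent.FlatFun4.IrredFibre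

variable {A B : Type u} [CommRing A] [CommRing B] [Algebra A B]

theorem isDomain_tensor [Algebra.Smooth A B] (h : FlatCA.GeomIrredFibres A B) (K : Type u) [Field K]
    [Algebra A K] : IsDomain (K ⊗[A] B) := by
  let f := Spec.map (CommRingCat.ofHom (algebraMap A B))
  let g := Spec.map (CommRingCat.ofHom (algebraMap A K))
  have : GeometricallyIrreducible f := h
  haveI : IrreducibleSpace ↥(pullback f g) :=
    GeometricallyIrreducible.geometrically_irreducibleSpace (f := f) g (pullback.fst f g) (pullback.snd f g)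
      (IsPullback.of_hasPullback f g)
  let X := Spec (CommRingCat.of (K ⊗[A] B))
  let e : pullback f g ≅ X := pullbackSymmetry f g ≪≫ pullbackSpecIso A K B
  haveI : IrreducibleSpace ↥X :=
    e.hom.homeomorph.symm.irreducibleSpace_iff.mpr inferInstance
  haveI : Smooth (Spec.map (CommRingCat.ofHom (algebraMap K (K ⊗[A] B)))) :=
    (HasRingHomProperty.Spec_iff (P := @Smooth)).mpr (RingHom.smooth_algebraMap.mpr inferInstance)
  haveI : IsReduced X := GrpSchLib.isReduced_of_smooth_field (Spec.map (CommRingCat.ofHom (algebraMap K (K ⊗[A] B))))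
  exact (affine_isIntegral_iff (CommRingCat.of (K ⊗[A] B))).1 (isIntegral_of_irreducibleSpace_of_isReduced X)

theorem one_tmul_eq_zero_iff [Module.Flat A B] (p : Ideal A) [p.IsPrime] (b : B) :
    (1 : p.ResidueField) ⊗ₜ[A] b = 0 ↔ b ∈ p.map (algebraMap A B) := by
  let j : A ⧸ p →ₗ[A] p.ResidueField := (IsScalarTower.toAlgHom A (A ⧸ p) p.ResidueField).toLinearMap
  have hj : Function.Injective j := IsFractionRing.injective (A ⧸ p) p.ResidueField
  have h1 : (1 : p.ResidueField) ⊗ₜ[A] b = j.rTensor B ((1 : A ⧸ p) ⊗ₜ[A] b) := by simp [j]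
  rw [h1, map_eq_zero_iff _ (Module.Flat.rTensor_preserves_injective_linearMap (M := B) j hj),
    ← Algebra.TensorProduct.quotIdealMapEquivQuotTensor_mk (B := B) p b]
  exact ((Algebra.TensorProduct.quotIdealMapEquivQuotTensor B p).map_eq_zero_iff).trans
    Ideal.Quotient.eq_zero_iff_mem

theorem map_eq_ker [Module.Flat A B] (p : Ideal A) [p.IsPrime] :
    p.map (algebraMap A B) =
      RingHom.ker (Algebra.TensorProduct.includeRight : B →ₐ[A] p.ResidueField ⊗[A] B).toRingHom :=
  Ideal.ext fun b => (one_tmul_eq_zero_iff p b).symm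

theorem isPrime_map [Algebra.Smooth A B] (h : FlatCA.GeomIrredFibres A B) (p : Ideal A) [p.IsPrime] :
    (p.map (algebraMap A B)).IsPrime := by
  haveI := isDomain_tensor h p.ResidueField
  rw [map_eq_ker]
  exact RingHom.ker_isPrime _

theorem comap_map [Algebra.Smooth A B] (h : FlatCA.GeomIrredFibres A B) (p : Ideal A) [p.IsPrime] :
    (p.map (algebraMap A B)).comap (algebraMap A B) = p := by
  haveI := isDomain_tensor h p.ResidueField
  ext a
  rw [Ideal.mem_comap, ← one_tmul_eq_zero_iff, Algebra.algebraMap_eq_smul_one, ← smul_tmul,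
    show (a • (1 : p.ResidueField)) ⊗ₜ[A] (1 : B) = algebraMap p.ResidueField (p.ResidueField ⊗[A] B)
      (algebraMap A p.ResidueField a) by rw [← Algebra.algebraMap_eq_smul_one]; rfl,
    map_eq_zero_iff _ (RingHom.injective _), Ideal.algebraMap_residueField_eq_zero]

variable {A' B' : Type u} [CommRing A'] [CommRing B'] [Algebra A A'] [Algebra A' B'] [Algebra A B']
  [Algebra B B'] [IsScalarTower A A' B'] [IsScalarTower A B B'] [Algebra.IsPushout A A' B B']

theorem comap_map_baseChange [Module.Flat A B] [Module.Flat A' B'] (p : Ideal A) [p.IsPrime]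
    (p' : Ideal A') [p'.IsPrime] [hp : p'.LiesOver p] :
    (p'.map (algebraMap A' B')).comap (algebraMap B B') = p.map (algebraMap A B) := by
  ext b
  rw [Ideal.mem_comap, ← one_tmul_eq_zero_iff, ← one_tmul_eq_zero_iff (p := p)]
  let e : p'.ResidueField ⊗[A'] B' ≃ₗ[p'.ResidueField] p'.ResidueField ⊗[A] B :=
    AlgebraTensorModule.congr (LinearEquiv.refl p'.ResidueField p'.ResidueField)
        (Algebra.IsPushout.equiv A A' B B').symm.toLinearEquiv ≪≫ₗ
      AlgebraTensorModule.cancelBaseChange A A' p'.ResidueField p'.ResidueField B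
  have he : e ((1 : p'.ResidueField) ⊗ₜ[A'] algebraMap B B' b) = 1 ⊗ₜ[A] b := by
    simp [e, Algebra.IsPushout.equiv_symm_algebraMap_right]
  rw [← e.map_eq_zero_iff, he]
  let j : p.ResidueField →ₗ[A] p'.ResidueField :=
    { toFun := Ideal.ResidueField.mapₐ p p' (Algebra.ofId A A') hp.over
      map_add' := map_add _
      map_smul' := fun a x => by
        rw [RingHom.id_apply, Algebra.smul_def, map_mul, AlgHom.commutes, Algebra.smul_def] }
  have hj : Function.Injective j :=
    (Ideal.ResidueField.mapₐ p p' (Algebra.ofId A A') hp.over).toRingHom.injective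
  have h1 : (1 : p'.ResidueField) ⊗ₜ[A] b = j.rTensor B ((1 : p.ResidueField) ⊗ₜ[A] b) := by simp [j]
  rw [h1, map_eq_zero_iff _ (Module.Flat.rTensor_preserves_injective_linearMap (M := B) j hj)]

end Groth.Agent.FlatFun4.IrredFibre
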