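import Groth.Agent.FlatFun4.OneStepBC
import Groth.Agent.FlatFun4.IrredFibre
import Groth.Agent.FlatFun4.CokerBC

/-!
The rings and modules of a base-changed complete dévissage.

The families of a complete dévissage run over all naturals, and beyond the length the base change of
`rr·B i` need not be prime, so the unconstrained tail is replaced: `B' i` is `R'/p'` and `A' i` is
the zero ring there.
-/

set_option linter.style.haveILetI false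
set_option autoImplicit false
set_option backward.isDefEq.respectTransparency false
set_option backward.isDefEq.respectTransparency.types false

universe u

open TensorProduct

set_option linter.unusedSectionVars false

namespace Groth.Agent.FlatFun4.CompleteDevBC

attribute [local instance] Algebra.TensorProduct.rightAlgebra

variable {R S : Type u} [CommRing R] [CommRing S] [Algebra R S] {N : Type u} [AddCommGroup N]
  [Module S N] {p : Ideal R} [p.IsPrime] (𝒟 : FlatCA.CompleteDevissage R S N p)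
  {R' : Type u} [CommRing R'] [Algebra R R'] (p' : Ideal R')

/-- The kernel selecting the base change for a step and `R'/p'` on the tail. -/
noncomputable def JB (i : ℕ) : Ideal ((R' ⊗[R] 𝒟.B i) × R') :=
  if i < 𝒟.n then Ideal.prod ⊥ ⊤ else Ideal.prod ⊤ p'

/-- The kernel selecting the base change for a step and zero on the tail. -/
noncomputable def JA (R' : Type u) [CommRing R'] [Algebra R R'] (i : ℕ) : Ideal (R' ⊗[R] 𝒟.A i) :=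
  if i < 𝒟.n then ⊥ else ⊤

/-- The base-changed smooth algebras. -/
def B' (i : ℕ) : Type u := ((R' ⊗[R] 𝒟.B i) × R') ⧸ JB 𝒟 p' i

noncomputable instance instCommRingB' (i : ℕ) : CommRing (B' 𝒟 p' i) := inferInstanceAs (CommRing (_ ⧸ _))
noncomputable instance instAlgR'B' (i : ℕ) : Algebra R' (B' 𝒟 p' i) := inferInstanceAs (Algebra R' (_ ⧸ _))
noncomputable instance instAlgRB' (i : ℕ) : Algebra R (B' 𝒟 p' i) :=
  ((algebraMap R' (B' 𝒟 p' i)).comp (algebraMap R R')).toAlgebra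
instance instTowB' (i : ℕ) : IsScalarTower R R' (B' 𝒟 p' i) := .of_algebraMap_eq fun _ => rfl

/-- The base-changed rings carrying the modules. -/
def A' (R' : Type u) [CommRing R'] [Algebra R R'] (i : ℕ) : Type u := (R' ⊗[R] 𝒟.A i) ⧸ JA 𝒟 R' i

noncomputable instance instCommRingA' (i : ℕ) : CommRing (A' 𝒟 R' i) := inferInstanceAs (CommRing (_ ⧸ _))
noncomputable instance instAlgR'A' (i : ℕ) : Algebra R' (A' 𝒟 R' i) := inferInstanceAs (Algebra R' (_ ⧸ _))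
noncomputable instance instAlgAA' (i : ℕ) : Algebra (𝒟.A i) (A' 𝒟 R' i) :=
  inferInstanceAs (Algebra (𝒟.A i) (_ ⧸ _))
noncomputable instance instAlgRA' (i : ℕ) : Algebra R (A' 𝒟 R' i) :=
  ((algebraMap R' (A' 𝒟 R' i)).comp (algebraMap R R')).toAlgebra
instance instTowA' (i : ℕ) : IsScalarTower R R' (A' 𝒟 R' i) := .of_algebraMap_eq fun _ => rfl

/-- The projection to `A' i`. -/
noncomputable def mkA (i : ℕ) : R' ⊗[R] 𝒟.A i →ₐ[R'] A' 𝒟 R' i := Ideal.Quotient.mkₐ R' (JA 𝒟 R' i)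

theorem algebraMap_A' (i : ℕ) (a : 𝒟.A i) : algebraMap (𝒟.A i) (A' 𝒟 R' i) a = mkA 𝒟 i (1 ⊗ₜ a) := rfl

instance instTowA'2 (i : ℕ) : IsScalarTower R (𝒟.A i) (A' 𝒟 R' i) := .of_algebraMap_eq fun r => by
  rw [algebraMap_A', Algebra.algebraMap_eq_smul_one (A := 𝒟.A i), ← smul_tmul]
  show algebraMap R' (A' 𝒟 R' i) (algebraMap R R' r) = mkA 𝒟 i ((r • 1 : R') ⊗ₜ (1 : 𝒟.A i))
  rw [← Algebra.algebraMap_eq_smul_one, show (algebraMap R R' r) ⊗ₜ[R] (1 : 𝒟.A i) =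
    algebraMap R' (R' ⊗[R] 𝒟.A i) (algebraMap R R' r) from rfl, AlgHom.commutes]

theorem mem_JB {i : ℕ} (h : i < 𝒟.n) (x : (R' ⊗[R] 𝒟.B i) × R') : x ∈ JB 𝒟 p' i ↔ x.1 = 0 := by
  rw [JB, if_pos h]; simp [Ideal.mem_prod]

theorem mkA_eq_zero {i : ℕ} (h : ¬ i < 𝒟.n) (x : R' ⊗[R] 𝒟.A i) : mkA 𝒟 i x = 0 :=
  Ideal.Quotient.eq_zero_iff_mem.mpr (by rw [JA, if_neg h]; trivial)

/-- `B' i → A' i`. -/
noncomputable def toA (i : ℕ) : B' 𝒟 p' i →ₐ[R'] A' 𝒟 R' i :=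
  Ideal.Quotient.liftₐ (JB 𝒟 p' i)
    (((mkA 𝒟 i).comp (Algebra.TensorProduct.map (AlgHom.id R' R') (IsScalarTower.toAlgHom R (𝒟.B i) (𝒟.A i)))).comp
      (AlgHom.fst R' (R' ⊗[R] 𝒟.B i) R'))
    fun x hx => by
      by_cases h : i < 𝒟.n
      · rw [mem_JB 𝒟 p' h] at hx
        simp [hx]
      · exact mkA_eq_zero 𝒟 h _

/-- `B' i → A' (i + 1)`. -/
noncomputable def toA' (i : ℕ) : B' 𝒟 p' i →ₐ[R'] A' 𝒟 R' (i + 1) :=
  Ideal.Quotient.liftₐ (JB 𝒟 p' i)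
    (((mkA 𝒟 (i + 1)).comp
      (Algebra.TensorProduct.map (AlgHom.id R' R') (IsScalarTower.toAlgHom R (𝒟.B i) (𝒟.A (i + 1))))).comp
      (AlgHom.fst R' (R' ⊗[R] 𝒟.B i) R'))
    fun x hx => by
      by_cases h : i < 𝒟.n
      · rw [mem_JB 𝒟 p' h] at hx
        simp [hx]
      · exact mkA_eq_zero 𝒟 (fun h' => h (by omega)) _

noncomputable instance instAlgB'A' (i : ℕ) : Algebra (B' 𝒟 p' i) (A' 𝒟 R' i) := (toA 𝒟 p' i).toRingHom.toAlgebra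
noncomputable instance instAlgB'A'succ (i : ℕ) : Algebra (B' 𝒟 p' i) (A' 𝒟 R' (i + 1)) :=
  (toA' 𝒟 p' i).toRingHom.toAlgebra
instance instTowR'B'A' (i : ℕ) : IsScalarTower R' (B' 𝒟 p' i) (A' 𝒟 R' i) :=
  .of_algebraMap_eq fun r => ((toA 𝒟 p' i).commutes r).symm
instance instTowR'B'A'succ (i : ℕ) : IsScalarTower R' (B' 𝒟 p' i) (A' 𝒟 R' (i + 1)) :=
  .of_algebraMap_eq fun r => ((toA' 𝒟 p' i).commutes r).symm

/-- The base-changed modules. -/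
def M' (R' : Type u) [CommRing R'] [Algebra R R'] (i : ℕ) : Type u := A' 𝒟 R' i ⊗[𝒟.A i] 𝒟.M i

noncomputable instance instGrpM' (i : ℕ) : AddCommGroup (M' 𝒟 R' i) := inferInstanceAs (AddCommGroup (_ ⊗[_] _))
noncomputable instance instA'M' (i : ℕ) : Module (A' 𝒟 R' i) (M' 𝒟 R' i) :=
  inferInstanceAs (Module (A' 𝒟 R' i) (_ ⊗[_] _))
noncomputable instance instAM' (i : ℕ) : Module (𝒟.A i) (M' 𝒟 R' i) := inferInstanceAs (Module (𝒟.A i) (_ ⊗[_] _))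
instance instTowAM' (i : ℕ) : IsScalarTower (𝒟.A i) (A' 𝒟 R' i) (M' 𝒟 R' i) :=
  inferInstanceAs (IsScalarTower (𝒟.A i) (A' 𝒟 R' i) (_ ⊗[_] _))
noncomputable instance instR'M' (i : ℕ) : Module R' (M' 𝒟 R' i) := Module.compHom _ (algebraMap R' (A' 𝒟 R' i))
noncomputable instance instB'M' (i : ℕ) : Module (B' 𝒟 p' i) (M' 𝒟 R' i) := Module.compHom _ (toA 𝒟 p' i).toRingHom
noncomputable instance instB'M'succ (i : ℕ) : Module (B' 𝒟 p' i) (M' 𝒟 R' (i + 1)) :=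
  Module.compHom _ (toA' 𝒟 p' i).toRingHom
instance instTowB'M' (i : ℕ) : IsScalarTower (B' 𝒟 p' i) (A' 𝒟 R' i) (M' 𝒟 R' i) :=
  .of_algebraMap_smul fun _ _ => rfl
instance instTowB'M'succ (i : ℕ) : IsScalarTower (B' 𝒟 p' i) (A' 𝒟 R' (i + 1)) (M' 𝒟 R' (i + 1)) :=
  .of_algebraMap_smul fun _ _ => rfl
instance instTowR'M' (i : ℕ) : IsScalarTower R' (B' 𝒟 p' i) (M' 𝒟 R' i) :=
  .of_algebraMap_smul fun r x => by
    show toA 𝒟 p' i (algebraMap R' (B' 𝒟 p' i) r) • x = algebraMap R' (A' 𝒟 R' i) r • x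
    rw [AlgHom.commutes]

/-- The canonical map `M i → M' i`. -/
noncomputable def gM (i : ℕ) : 𝒟.M i →ₗ[𝒟.A i] M' 𝒟 R' i := TensorProduct.mk (𝒟.A i) (A' 𝒟 R' i) (𝒟.M i) 1

theorem isBaseChange_gM (i : ℕ) : IsBaseChange (A' 𝒟 R' i) (gM 𝒟 i (R' := R')) :=
  TensorProduct.isBaseChange (𝒟.A i) (𝒟.M i) (A' 𝒟 R' i)

/-- The maps from finite free modules: the standard basis goes to the base changed generators. -/
noncomputable def α' (i : ℕ) : (Fin (𝒟.r i) → B' 𝒟 p' i) →ₗ[B' 𝒟 p' i] M' 𝒟 R' i :=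
  (Pi.basisFun (B' 𝒟 p' i) (Fin (𝒟.r i))).constr ℕ fun j => gM 𝒟 i (𝒟.α i (Pi.single j 1))

theorem isPushout_A {i : ℕ} (h : i < 𝒟.n) : Algebra.IsPushout R R' (𝒟.A i) (A' 𝒟 R' i) := by
  haveI : Algebra.IsPushout R R' (𝒟.A i) (R' ⊗[R] 𝒟.A i) := inferInstance
  refine Algebra.IsPushout.of_equiv (AlgEquiv.ofBijective (mkA 𝒟 i) ⟨fun x y hxy => ?_, ?_⟩) rfl
  · have := Ideal.Quotient.eq.mp hxy
    rw [JA, if_pos h] at this
    exact sub_eq_zero.mp this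
  · exact Ideal.Quotient.mk_surjective

/-- For a step, `B' i` is the tensor product. -/
noncomputable def eB {i : ℕ} (h : i < 𝒟.n) : B' 𝒟 p' i ≃ₐ[R'] R' ⊗[R] 𝒟.B i :=
  AlgEquiv.ofBijective (Ideal.Quotient.liftₐ (JB 𝒟 p' i) (AlgHom.fst R' (R' ⊗[R] 𝒟.B i) R')
      fun x hx => (mem_JB 𝒟 p' h x).mp hx)
    ⟨fun a b hab => by
      obtain ⟨x, rfl⟩ := Ideal.Quotient.mk_surjective (I := JB 𝒟 p' i) a
      obtain ⟨y, rfl⟩ := Ideal.Quotient.mk_surjective (I := JB 𝒟 p' i) b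
      refine Ideal.Quotient.eq.mpr ((mem_JB 𝒟 p' h _).mpr ?_)
      rw [Prod.fst_sub, sub_eq_zero]
      exact hab,
    fun x => ⟨Ideal.Quotient.mk (JB 𝒟 p' i) (x, 0), rfl⟩⟩

theorem toA_eq {i : ℕ} (h : i < 𝒟.n) (z : B' 𝒟 p' i) :
    toA 𝒟 p' i z =
      mkA 𝒟 i (Algebra.TensorProduct.map (AlgHom.id R' R') (IsScalarTower.toAlgHom R (𝒟.B i) (𝒟.A i)) (eB 𝒟 p' h z)) := by
  obtain ⟨x, rfl⟩ := Ideal.Quotient.mk_surjective (I := JB 𝒟 p' i) z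
  rfl

theorem toA'_eq {i : ℕ} (h : i < 𝒟.n) (z : B' 𝒟 p' i) :
    toA' 𝒟 p' i z =
      mkA 𝒟 (i + 1) (Algebra.TensorProduct.map (AlgHom.id R' R') (IsScalarTower.toAlgHom R (𝒟.B i) (𝒟.A (i + 1)))
        (eB 𝒟 p' h z)) := by
  obtain ⟨x, rfl⟩ := Ideal.Quotient.mk_surjective (I := JB 𝒟 p' i) z
  rfl

/-- The map `B i → B' i` of a step. -/
noncomputable abbrev algBB' {i : ℕ} (h : i < 𝒟.n) : Algebra (𝒟.B i) (B' 𝒟 p' i) :=
  ((eB 𝒟 p' h).symm.toRingHom.comp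
    (Algebra.TensorProduct.includeRight (R := R) (A := R') (B := 𝒟.B i)).toRingHom).toAlgebra

theorem algebraMap_BB' {i : ℕ} (h : i < 𝒟.n) (b : 𝒟.B i) :
    (algBB' 𝒟 p' h).algebraMap b = (eB 𝒟 p' h).symm (1 ⊗ₜ b) := rfl

theorem tower_RBB' {i : ℕ} (h : i < 𝒟.n) :
    letI := algBB' 𝒟 p' h; IsScalarTower R (𝒟.B i) (B' 𝒟 p' i) := by
  letI := algBB' 𝒟 p' h
  refine .of_algebraMap_eq fun r => ?_
  apply (eB 𝒟 p' h).injective
  show eB 𝒟 p' h (algebraMap R' (B' 𝒟 p' i) (algebraMap R R' r)) = eB 𝒟 p' h ((eB 𝒟 p' h).symm (1 ⊗ₜ algebraMap R (𝒟.B i) r))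
  rw [AlgEquiv.commutes, AlgEquiv.apply_symm_apply, Algebra.algebraMap_eq_smul_one (A := 𝒟.B i), ← smul_tmul,
    ← Algebra.algebraMap_eq_smul_one]
  rfl

theorem isPushout_B {i : ℕ} (h : i < 𝒟.n) :
    letI := algBB' 𝒟 p' h; haveI := tower_RBB' 𝒟 p' h
    Algebra.IsPushout R R' (𝒟.B i) (B' 𝒟 p' i) := by
  letI := algBB' 𝒟 p' h
  haveI := tower_RBB' 𝒟 p' h
  exact Algebra.IsPushout.of_equiv (eB 𝒟 p' h).symm rfl

theorem toA_algebraMap {i : ℕ} (h : i < 𝒟.n) (b : 𝒟.B i) :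
    toA 𝒟 p' i ((algBB' 𝒟 p' h).algebraMap b) =
      algebraMap (𝒟.A i) (A' 𝒟 R' i) (algebraMap (𝒟.B i) (𝒟.A i) b) := by
  rw [toA_eq 𝒟 p' h, algebraMap_BB', AlgEquiv.apply_symm_apply, algebraMap_A']
  rfl

theorem toA'_algebraMap {i : ℕ} (h : i < 𝒟.n) (b : 𝒟.B i) :
    toA' 𝒟 p' i ((algBB' 𝒟 p' h).algebraMap b) =
      algebraMap (𝒟.A (i + 1)) (A' 𝒟 R' (i + 1)) (algebraMap (𝒟.B i) (𝒟.A (i + 1)) b) := by
  rw [toA'_eq 𝒟 p' h, algebraMap_BB', AlgEquiv.apply_symm_apply, algebraMap_A']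
  rfl

end Groth.Agent.FlatFun4.CompleteDevBC

set_option linter.unusedSectionVars false

namespace Groth.Agent.FlatFun4.CompleteDevBC

variable {R S : Type u} [CommRing R] [CommRing S] [Algebra R S] {N : Type u} [AddCommGroup N]
  [Module S N] {p : Ideal R} [p.IsPrime] (𝒟 : FlatCA.CompleteDevissage R S N p)
  {R' : Type u} [CommRing R'] [Algebra R R'] (p' : Ideal R') [p'.IsPrime]

section Step

variable {i : ℕ} (h : i < 𝒟.n)

theorem isPrime_map_B' (i : ℕ) : (p'.map (algebraMap R' (B' 𝒟 p' i))).IsPrime := by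
  by_cases h : i < 𝒟.n
  · letI := algBB' 𝒟 p' h
    haveI := tower_RBB' 𝒟 p' h
    haveI := isPushout_B 𝒟 p' h
    haveI := 𝒟.smooth i h
    haveI : Algebra.Smooth R' (B' 𝒟 p' i) := Algebra.Smooth.of_equiv (eB 𝒟 p' h).symm
    exact IrredFibre.isPrime_map (OneStepBC.geomIrredFibres (R := R) (S := 𝒟.B i) (𝒟.geomIrred i h)) p'
  · haveI hJ : (JB 𝒟 p' i).IsPrime := by
      rw [JB, if_neg h]
      exact Ideal.isPrime_ideal_prod_top'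
    haveI : IsDomain (B' 𝒟 p' i) :=
      show IsDomain (((R' ⊗[R] 𝒟.B i) × R') ⧸ JB 𝒟 p' i) from inferInstance
    have h0 : p'.map (algebraMap R' (B' 𝒟 p' i)) = ⊥ := by
      rw [eq_bot_iff, Ideal.map_le_iff_le_comap]
      intro r hr
      refine Ideal.Quotient.eq_zero_iff_mem.mpr ?_
      rw [JB, if_neg h]
      exact ⟨trivial, hr⟩
    rw [h0]
    exact Ideal.isPrime_bot

include h

theorem smooth_B' : Algebra.Smooth R' (B' 𝒟 p' i) := by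
  haveI := 𝒟.smooth i h
  exact Algebra.Smooth.of_equiv (eB 𝒟 p' h).symm

theorem geomIrred_B' : FlatCA.GeomIrredFibres R' (B' 𝒟 p' i) := by
  letI := algBB' 𝒟 p' h
  haveI := tower_RBB' 𝒟 p' h
  haveI := isPushout_B 𝒟 p' h
  exact OneStepBC.geomIrredFibres (R := R) (S := 𝒟.B i) (𝒟.geomIrred i h)

theorem isBaseChange_B :
    letI := algBB' 𝒟 p' h
    letI : Module (𝒟.B i) (M' 𝒟 R' i) := Module.compHom _ (algebraMap (𝒟.B i) (B' 𝒟 p' i))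
    haveI : IsScalarTower (𝒟.B i) (B' 𝒟 p' i) (M' 𝒟 R' i) := .of_algebraMap_smul fun _ _ => rfl
    ∃ f : 𝒟.M i →ₗ[𝒟.B i] M' 𝒟 R' i, (∀ m, f m = gM 𝒟 i m) ∧ IsBaseChange (B' 𝒟 p' i) f := by
  letI := algBB' 𝒟 p' h
  haveI := tower_RBB' 𝒟 p' h
  haveI := isPushout_B 𝒟 p' h
  haveI := isPushout_A 𝒟 (R' := R') h
  letI : Module (𝒟.B i) (M' 𝒟 R' i) := Module.compHom _ (algebraMap (𝒟.B i) (B' 𝒟 p' i))
  letI : Algebra (𝒟.B i) (A' 𝒟 R' i) :=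
    ((algebraMap (B' 𝒟 p' i) (A' 𝒟 R' i)).comp (algebraMap (𝒟.B i) (B' 𝒟 p' i))).toAlgebra
  haveI : IsScalarTower (𝒟.B i) (B' 𝒟 p' i) (A' 𝒟 R' i) := .of_algebraMap_eq fun _ => rfl
  haveI : IsScalarTower (𝒟.B i) (𝒟.A i) (A' 𝒟 R' i) := .of_algebraMap_eq fun b => toA_algebraMap 𝒟 p' h b
  haveI : IsScalarTower (𝒟.B i) (B' 𝒟 p' i) (M' 𝒟 R' i) := .of_algebraMap_smul fun _ _ => rfl
  haveI : IsScalarTower (𝒟.B i) (𝒟.A i) (M' 𝒟 R' i) := .of_algebraMap_smul fun b x => by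
    show _ = toA 𝒟 p' i (algebraMap (𝒟.B i) (B' 𝒟 p' i) b) • x
    rw [show toA 𝒟 p' i (algebraMap (𝒟.B i) (B' 𝒟 p' i) b) = _ from toA_algebraMap 𝒟 p' h b, algebraMap_smul (A' 𝒟 R' i)]
  exact ⟨(gM 𝒟 i).restrictScalars (𝒟.B i), fun m => rfl,
    OneStepBC.isBaseChange_restrict (R := R) (R' := R') (gM 𝒟 i) (isBaseChange_gM 𝒟 i)⟩

theorem isBaseChange_B_succ (h' : i + 1 < 𝒟.n) :
    letI := algBB' 𝒟 p' h
    letI : Module (𝒟.B i) (M' 𝒟 R' (i + 1)) := Module.compHom _ (algebraMap (𝒟.B i) (B' 𝒟 p' i))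
    haveI : IsScalarTower (𝒟.B i) (B' 𝒟 p' i) (M' 𝒟 R' (i + 1)) := .of_algebraMap_smul fun _ _ => rfl
    ∃ f : 𝒟.M (i + 1) →ₗ[𝒟.B i] M' 𝒟 R' (i + 1),
      (∀ m, f m = gM 𝒟 (i + 1) m) ∧ IsBaseChange (B' 𝒟 p' i) f := by
  letI := algBB' 𝒟 p' h
  haveI := tower_RBB' 𝒟 p' h
  haveI := isPushout_B 𝒟 p' h
  haveI := isPushout_A 𝒟 (R' := R') h'
  letI : Module (𝒟.B i) (M' 𝒟 R' (i + 1)) := Module.compHom _ (algebraMap (𝒟.B i) (B' 𝒟 p' i))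
  letI : Algebra (𝒟.B i) (A' 𝒟 R' (i + 1)) :=
    ((algebraMap (B' 𝒟 p' i) (A' 𝒟 R' (i + 1))).comp (algebraMap (𝒟.B i) (B' 𝒟 p' i))).toAlgebra
  haveI : IsScalarTower (𝒟.B i) (B' 𝒟 p' i) (A' 𝒟 R' (i + 1)) := .of_algebraMap_eq fun _ => rfl
  haveI : IsScalarTower (𝒟.B i) (𝒟.A (i + 1)) (A' 𝒟 R' (i + 1)) :=
    .of_algebraMap_eq fun b => toA'_algebraMap 𝒟 p' h b
  haveI : IsScalarTower (𝒟.B i) (B' 𝒟 p' i) (M' 𝒟 R' (i + 1)) := .of_algebraMap_smul fun _ _ => rfl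
  haveI : IsScalarTower (𝒟.B i) (𝒟.A (i + 1)) (M' 𝒟 R' (i + 1)) := .of_algebraMap_smul fun b x => by
    show _ = toA' 𝒟 p' i (algebraMap (𝒟.B i) (B' 𝒟 p' i) b) • x
    rw [show toA' 𝒟 p' i (algebraMap (𝒟.B i) (B' 𝒟 p' i) b) = _ from toA'_algebraMap 𝒟 p' h b,
      algebraMap_smul (A' 𝒟 R' (i + 1))]
  exact ⟨(gM 𝒟 (i + 1)).restrictScalars (𝒟.B i), fun m => rfl,
    OneStepBC.isBaseChange_restrict (R := R) (R' := R') (gM 𝒟 (i + 1)) (isBaseChange_gM 𝒟 (i + 1))⟩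

theorem range_α' :
    LinearMap.range (α' 𝒟 p' i) =
      Submodule.span (B' 𝒟 p' i) (gM 𝒟 i '' (LinearMap.range (𝒟.α i) : Set (𝒟.M i))) := by
  rw [α', Module.Basis.constr_range]
  refine le_antisymm (Submodule.span_mono ?_) (Submodule.span_le.mpr ?_)
  · rintro _ ⟨j, rfl⟩
    exact ⟨_, ⟨_, rfl⟩, rfl⟩
  · rintro _ ⟨_, ⟨x, rfl⟩, rfl⟩
    obtain ⟨f, hf, -⟩ := isBaseChange_B 𝒟 p' h
    rw [← (Pi.basisFun (𝒟.B i) (Fin (𝒟.r i))).sum_repr x, map_sum, SetLike.mem_coe, ← hf, map_sum]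
    refine Submodule.sum_mem _ fun j _ => ?_
    letI := algBB' 𝒟 p' h
    letI : Module (𝒟.B i) (M' 𝒟 R' i) := Module.compHom _ (algebraMap (𝒟.B i) (B' 𝒟 p' i))
    rw [map_smul, map_smul]
    refine Submodule.smul_mem _ (algebraMap (𝒟.B i) (B' 𝒟 p' i) _) (Submodule.subset_span ⟨j, ?_⟩)
    rw [hf, Pi.basisFun_apply]

theorem bijective_fibre [p'.LiesOver p] :
    haveI := isPrime_map_B' 𝒟 p' i
    Function.Bijective ((α' 𝒟 p' i).baseChange (p'.map (algebraMap R' (B' 𝒟 p' i))).ResidueField) := by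
  letI := algBB' 𝒟 p' h
  haveI := tower_RBB' 𝒟 p' h
  haveI := isPushout_B 𝒟 p' h
  haveI := 𝒟.smooth i h
  haveI := smooth_B' 𝒟 p' h
  haveI := isPrime_map_B' 𝒟 p' i
  letI : Module (𝒟.B i) (M' 𝒟 R' i) := Module.compHom _ (algebraMap (𝒟.B i) (B' 𝒟 p' i))
  haveI : IsScalarTower (𝒟.B i) (B' 𝒟 p' i) (M' 𝒟 R' i) := .of_algebraMap_smul fun _ _ => rfl
  obtain ⟨f, hf, hbc⟩ := isBaseChange_B 𝒟 p' h
  letI : Algebra (p.map (algebraMap R (𝒟.B i))).ResidueField (p'.map (algebraMap R' (B' 𝒟 p' i))).ResidueField :=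
    (Ideal.ResidueField.mapₐ _ _ (Algebra.ofId (𝒟.B i) (B' 𝒟 p' i))
      (IrredFibre.comap_map_baseChange (A := R) (B := 𝒟.B i) p p').symm).toRingHom.toAlgebra
  refine CokerBC.bijective_baseChange (fun b => ?_) (𝒟.α i) (𝒟.fibreIso i h) hbc _ fun j => ?_
  · rw [RingHom.algebraMap_toAlgebra, AlgHom.toRingHom_eq_coe, RingHom.coe_coe, AlgHom.commutes]
    exact IsScalarTower.algebraMap_apply (𝒟.B i) (B' 𝒟 p' i) _ b
  · rw [hf, α', ← Pi.basisFun_apply (B' 𝒟 p' i), Module.Basis.constr_basis]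

/-- The cokernels are the next modules. -/
theorem isoCoker' (h' : i + 1 < 𝒟.n) :
    Nonempty ((M' 𝒟 R' i ⧸ LinearMap.range (α' 𝒟 p' i)) ≃ₗ[B' 𝒟 p' i] M' 𝒟 R' (i + 1)) := by
  letI := algBB' 𝒟 p' h
  letI : Module (𝒟.B i) (M' 𝒟 R' i) := Module.compHom _ (algebraMap (𝒟.B i) (B' 𝒟 p' i))
  haveI : IsScalarTower (𝒟.B i) (B' 𝒟 p' i) (M' 𝒟 R' i) := .of_algebraMap_smul fun _ _ => rfl
  letI : Module (𝒟.B i) (M' 𝒟 R' (i + 1)) := Module.compHom _ (algebraMap (𝒟.B i) (B' 𝒟 p' i))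
  haveI : IsScalarTower (𝒟.B i) (B' 𝒟 p' i) (M' 𝒟 R' (i + 1)) := .of_algebraMap_smul fun _ _ => rfl
  obtain ⟨f, hf, hbc⟩ := isBaseChange_B 𝒟 p' h
  obtain ⟨g, hg, hbc'⟩ := isBaseChange_B_succ 𝒟 p' h h'
  have hex : Function.Exact (𝒟.α i) ((𝒟.isoCoker i h').toLinearMap ∘ₗ (LinearMap.range (𝒟.α i)).mkQ) := by
    intro x
    rw [LinearMap.comp_apply, LinearEquiv.coe_coe, LinearEquiv.map_eq_zero_iff, Submodule.mkQ_apply,
      Submodule.Quotient.mk_eq_zero]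
    rfl
  obtain ⟨hker, hsurj⟩ := CokerBC.ker_lift hex
    ((𝒟.isoCoker i h').surjective.comp (LinearMap.range (𝒟.α i)).mkQ_surjective) hbc hbc'
  have hr : LinearMap.range (α' 𝒟 p' i) = _ := range_α' 𝒟 p' h
  rw [show (f '' (LinearMap.range (𝒟.α i) : Set (𝒟.M i))) = gM 𝒟 i '' (LinearMap.range (𝒟.α i) : Set _) from
    Set.image_congr fun m _ => hf m, ← hr] at hker
  exact ⟨Submodule.quotEquivOfEq _ _ hker.symm ≪≫ₗ LinearMap.quotKerEquivOfSurjective _ hsurj⟩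

omit h in
theorem surjective_α'_last : Function.Surjective (α' 𝒟 p' (𝒟.n - 1)) := by
  have h : 𝒟.n - 1 < 𝒟.n := by have := 𝒟.pos; omega
  rw [← LinearMap.range_eq_top, range_α' 𝒟 p' h, LinearMap.range_eq_top.mpr 𝒟.cokerLast, eq_top_iff]
  letI := algBB' 𝒟 p' h
  letI : Module (𝒟.B (𝒟.n - 1)) (M' 𝒟 R' (𝒟.n - 1)) :=
    Module.compHom _ (algebraMap (𝒟.B (𝒟.n - 1)) (B' 𝒟 p' (𝒟.n - 1)))
  haveI : IsScalarTower (𝒟.B (𝒟.n - 1)) (B' 𝒟 p' (𝒟.n - 1)) (M' 𝒟 R' (𝒟.n - 1)) :=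
    .of_algebraMap_smul fun _ _ => rfl
  obtain ⟨f, hf, hbc⟩ := isBaseChange_B 𝒟 p' h
  intro x _
  refine hbc.inductionOn x _ (zero_mem _) (fun m => ?_) (fun c y hy => Submodule.smul_mem _ c hy)
    (fun a b ha hb => add_mem ha hb)
  exact Submodule.subset_span ⟨m, trivial, (hf m).symm⟩

theorem finite_B'A' : Module.Finite (B' 𝒟 p' i) (A' 𝒟 R' i) := by
  letI := algBB' 𝒟 p' h
  haveI := tower_RBB' 𝒟 p' h
  haveI := isPushout_B 𝒟 p' h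
  haveI := isPushout_A 𝒟 (R' := R') h
  letI : Algebra (𝒟.B i) (A' 𝒟 R' i) :=
    ((algebraMap (B' 𝒟 p' i) (A' 𝒟 R' i)).comp (algebraMap (𝒟.B i) (B' 𝒟 p' i))).toAlgebra
  haveI : IsScalarTower (𝒟.B i) (B' 𝒟 p' i) (A' 𝒟 R' i) := .of_algebraMap_eq fun _ => rfl
  haveI : IsScalarTower (𝒟.B i) (𝒟.A i) (A' 𝒟 R' i) := .of_algebraMap_eq fun b => toA_algebraMap 𝒟 p' h b
  haveI := 𝒟.finiteBA i h
  exact OneStepBC.finite (R := R) (R' := R') (S := 𝒟.B i) (C := 𝒟.A i)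

theorem surj_fp_succ (h' : i + 1 < 𝒟.n) :
    Function.Surjective (algebraMap (B' 𝒟 p' i) (A' 𝒟 R' (i + 1))) ∧
      Algebra.FinitePresentation (B' 𝒟 p' i) (A' 𝒟 R' (i + 1)) := by
  letI := algBB' 𝒟 p' h
  haveI := tower_RBB' 𝒟 p' h
  haveI := isPushout_B 𝒟 p' h
  haveI := isPushout_A 𝒟 (R' := R') h'
  letI : Algebra (𝒟.B i) (A' 𝒟 R' (i + 1)) :=
    ((algebraMap (B' 𝒟 p' i) (A' 𝒟 R' (i + 1))).comp (algebraMap (𝒟.B i) (B' 𝒟 p' i))).toAlgebra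
  haveI : IsScalarTower (𝒟.B i) (B' 𝒟 p' i) (A' 𝒟 R' (i + 1)) := .of_algebraMap_eq fun _ => rfl
  haveI : IsScalarTower (𝒟.B i) (𝒟.A (i + 1)) (A' 𝒟 R' (i + 1)) :=
    .of_algebraMap_eq fun b => toA'_algebraMap 𝒟 p' h b
  haveI := 𝒟.fpBA' i h'
  exact ⟨OneStepBC.surjective_algebraMap (R := R) (R' := R') (S := 𝒟.B i) (C := 𝒟.A (i + 1)) (𝒟.surjBA' i h'),
    OneStepBC.finitePresentation (R := R) (R' := R') (S := 𝒟.B i) (C := 𝒟.A (i + 1))⟩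

end Step

end Groth.Agent.FlatFun4.CompleteDevBC
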