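import Mathlib
import Groth.Agent.EtFound.LiftEtale

/-!
# Lifting standard étale algebras from a fibre
-/

set_option autoImplicit false
set_option linter.style.haveILetI false
set_option backward.isDefEq.respectTransparency false
set_option backward.isDefEq.respectTransparency.types false

universe u
open scoped TensorProduct
open Polynomial

namespace Groth.Agent.FlatFun4.EtLiftFibre

/-- A standard étale algebra whose defining polynomials lift, lifts. -/
theorem exists_lift {A T C : Type u} [CommRing A] [CommRing T] [CommRing C] [Algebra A T] [Algebra T C]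
    (Q : StandardEtalePresentation T C) (hf : Q.f ∈ Polynomial.lifts (algebraMap A T))
    (hg : Q.g ∈ Polynomial.lifts (algebraMap A T)) :
    ∃ (P : StandardEtalePair A), Nonempty (T ⊗[A] P.Ring ≃ₐ[T] C) := by
  obtain ⟨f, hf', -, hfm⟩ := Polynomial.lifts_and_natDegree_eq_and_monic hf Q.monic_f
  obtain ⟨g, hg'⟩ := (Polynomial.mem_lifts _).1 hg
  let P : StandardEtalePair A :=
    ⟨f, hfm, g * derivative f, g, 0, 1, by rw [mul_zero, add_zero, pow_one]; ring⟩
  let R' : StandardEtalePair T := P.map (algebraMap A T)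
  have hfR : R'.f = Q.f := hf'
  have hgR : R'.g = Q.g * derivative Q.f := by
    change (g * derivative f).map _ = _
    rw [Polynomial.map_mul, hg', ← derivative_map, hf']
  have hQ : R'.HasMap Q.x := ⟨by rw [hfR]; exact Q.hasMap.1, by
    rw [hgR, map_mul]; exact Q.hasMap.2.mul Q.hasMap.isUnit_derivative_f⟩
  have hR : Q.P.HasMap R'.X := by
    have h := R'.hasMap_X
    rw [StandardEtalePair.HasMap, hfR, hgR, map_mul, IsUnit.mul_iff] at h
    exact ⟨h.1, h.2.1⟩
  let e : R'.Ring ≃ₐ[T] C := AlgEquiv.ofAlgHom (R'.lift Q.x hQ)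
    ((Q.P.lift R'.X hR).comp Q.equivRing.toAlgHom)
    (Q.hom_ext (by simp)) (R'.hom_ext (by simp))
  let Pp : StandardEtalePresentation A P.Ring :=
    ⟨P, P.X, P.hasMap_X, by simpa [StandardEtalePair.lift_X_left] using Function.bijective_id⟩
  exact ⟨P, ⟨(Pp.baseChange (T := T)).equivRing.trans e⟩⟩

/-- Finitely many elements of a fibre ring have a common denominator from the base. -/
theorem exists_denom {A κ B : Type u} [CommRing A] [Field κ] [CommRing B] [Algebra A κ] [Algebra A B]
    (hκ : ∀ c : κ, ∃ a : A, algebraMap A κ a ≠ 0 ∧ a • c ∈ Set.range (algebraMap A κ))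
    (F : Finset (κ ⊗[A] B)) :
    ∃ a : A, algebraMap A κ a ≠ 0 ∧ ∀ t ∈ F, a • t ∈
      Set.range (Algebra.TensorProduct.includeRight : B →ₐ[A] κ ⊗[A] B) := by
  classical
  have h1 : ∀ t : κ ⊗[A] B, ∃ a : A, algebraMap A κ a ≠ 0 ∧ a • t ∈
      Set.range (Algebra.TensorProduct.includeRight : B →ₐ[A] κ ⊗[A] B) := by
    intro t
    induction t using TensorProduct.induction_on with
    | zero => exact ⟨1, by simp, 0, by simp⟩
    | tmul c b =>
      obtain ⟨a, ha, r, hr⟩ := hκ c
      refine ⟨a, ha, r • b, ?_⟩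
      rw [TensorProduct.smul_tmul', ← hr, Algebra.TensorProduct.includeRight_apply, ← TensorProduct.smul_tmul,
        Algebra.smul_def, mul_one]
    | add x y hx hy =>
      obtain ⟨a, ha, x', hx'⟩ := hx
      obtain ⟨a', ha', y', hy'⟩ := hy
      refine ⟨a * a', by rw [map_mul]; exact mul_ne_zero ha ha', a' • x' + a • y', ?_⟩
      rw [map_add, map_smul, map_smul, hx', hy', smul_add, smul_smul, smul_smul, mul_comm a' a]
  choose a ha hr using h1
  refine ⟨∏ t ∈ F, a t, by rw [map_prod]; exact Finset.prod_ne_zero_iff.2 fun t _ => ha t, fun t ht => ?_⟩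
  obtain ⟨z, hz⟩ := hr t
  refine ⟨(∏ s ∈ F.erase t, a s) • z, ?_⟩
  rw [map_smul, hz, smul_smul, Finset.prod_erase_mul F a ht]

/-- A standard étale algebra over a fibre lifts to a basic open neighbourhood. -/
theorem exists_fibre_lift {A κ B C : Type u} [CommRing A] [Field κ] [CommRing B] [CommRing C]
    [Algebra A κ] [Algebra A B]
    (hκ : ∀ c : κ, ∃ a : A, algebraMap A κ a ≠ 0 ∧ a • c ∈ Set.range (algebraMap A κ))
    [Algebra (κ ⊗[A] B) C] [Algebra.IsStandardEtale (κ ⊗[A] B) C] :
    ∃ (b : B) (l : Localization.Away b →+* κ ⊗[A] B),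
      l.comp (algebraMap B (Localization.Away b)) = (Algebra.TensorProduct.includeRight : B →ₐ[A] κ ⊗[A] B).toRingHom ∧
      letI := l.toAlgebra
      ∃ (P : StandardEtalePair (Localization.Away b)),
        Nonempty ((κ ⊗[A] B) ⊗[Localization.Away b] P.Ring ≃ₐ[κ ⊗[A] B] C) := by
  classical
  obtain ⟨Q⟩ : Nonempty (StandardEtalePresentation (κ ⊗[A] B) C) := inferInstance
  obtain ⟨a, ha, hF⟩ := exists_denom (B := B) hκ
    ((Finset.range (Q.f.natDegree + 1)).image Q.f.coeff ∪ (Finset.range (Q.g.natDegree + 1)).image Q.g.coeff)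
  let ι : B →+* κ ⊗[A] B := (Algebra.TensorProduct.includeRight : B →ₐ[A] κ ⊗[A] B).toRingHom
  have hu : IsUnit (ι (algebraMap A B a)) := by
    show IsUnit ((Algebra.TensorProduct.includeRight : B →ₐ[A] κ ⊗[A] B) (algebraMap A B a))
    rw [AlgHom.commutes, IsScalarTower.algebraMap_apply A κ (κ ⊗[A] B)]
    exact (isUnit_iff_ne_zero.2 ha).map _
  let l : Localization.Away (algebraMap A B a) →+* κ ⊗[A] B := IsLocalization.Away.lift (algebraMap A B a) hu
  have hl : l.comp (algebraMap B (Localization.Away (algebraMap A B a))) = ι :=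
    IsLocalization.Away.lift_comp _ hu
  refine ⟨algebraMap A B a, l, hl, ?_⟩
  letI := l.toAlgebra
  have hmem : ∀ p : (κ ⊗[A] B)[X], (∀ n ∈ Finset.range (p.natDegree + 1), a • p.coeff n ∈
      Set.range (Algebra.TensorProduct.includeRight : B →ₐ[A] κ ⊗[A] B)) →
      p ∈ Polynomial.lifts (algebraMap (Localization.Away (algebraMap A B a)) (κ ⊗[A] B)) := by
    intro p hp
    refine (Polynomial.lifts_iff_coeff_lifts p).2 fun n => ?_
    by_cases hn : n ∈ Finset.range (p.natDegree + 1)
    · obtain ⟨z, hz⟩ := hp n hn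
      refine ⟨IsLocalization.mk' _ z (⟨algebraMap A B a, 1, pow_one _⟩ : Submonoid.powers (algebraMap A B a)), ?_⟩
      refine (hu.mul_left_injective) ?_
      show l _ * _ = _
      rw [← show l (algebraMap B _ (algebraMap A B a)) = ι (algebraMap A B a) from RingHom.congr_fun hl _,
        ← map_mul, IsLocalization.mk'_spec, show l (algebraMap B _ z) = ι z from RingHom.congr_fun hl _]
      show ι z = p.coeff n * l (algebraMap B _ (algebraMap A B a))
      rw [show l (algebraMap B _ (algebraMap A B a)) = ι (algebraMap A B a) from RingHom.congr_fun hl _]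
      show (Algebra.TensorProduct.includeRight : B →ₐ[A] κ ⊗[A] B) z =
        p.coeff n * (Algebra.TensorProduct.includeRight : B →ₐ[A] κ ⊗[A] B) (algebraMap A B a)
      rw [hz, AlgHom.commutes, Algebra.smul_def, mul_comm]
    · exact ⟨0, by rw [map_zero, Polynomial.coeff_eq_zero_of_natDegree_lt]; rw [Finset.mem_range] at hn; omega⟩
  exact exists_lift Q
    (hmem _ fun n hn => hF _ (Finset.mem_union_left _ (Finset.mem_image_of_mem _ hn)))
    (hmem _ fun n hn => hF _ (Finset.mem_union_right _ (Finset.mem_image_of_mem _ hn)))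

end Groth.Agent.FlatFun4.EtLiftFibre
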