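import Groth.Prelude.Def_FlatFun
import Groth.Prelude.Def_QuotSh
import Groth.Agent.HilbDLib.Diagonal
import Mathlib.AlgebraicGeometry.Sites.Fpqc

/-! A criterion for generated sub-presheaves of the final presheaf to be fpqc sheaves. -/

set_option linter.style.haveILetI false
set_option autoImplicit false
set_option backward.isDefEq.respectTransparency false
set_option backward.isDefEq.respectTransparency.types false

universe u

open CategoryTheory CategoryTheory.Limits AlgebraicGeometry Opposite

namespace Groth.Agent.FlatFun4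

variable {S : Scheme.{u}}

/-- A fpqc covering sieve has, through each point, a flat arrow. -/
theorem exists_flat_arrow {T : Over S} {R : Sieve T} (hR : R ∈ QuotSh.J Scheme.fpqcPrecoverage S T)
    (t : T.left) : ∃ (T' : Over S) (g : T' ⟶ T) (t' : T'.left), R g ∧ Flat g.left ∧ g.left t' = t := by
  have hR' := (GrothendieckTopology.mem_over_iff _ R).mp hR
  obtain ⟨R', hR', hle⟩ := (Precoverage.mem_toGrothendieck_iff_of_isStableUnderComposition).mp hR'
  have hP : R' ∈ Scheme.precoverage @Flat T.left := Scheme.propQCPrecoverage_le_precoverage _ hR'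
  obtain ⟨Y, g, hg, y, hy⟩ := Scheme.JointlySurjective.exists_eq (K := Scheme.precoverage @Flat) R' hP t
  have hflat : Flat g := hP.2 hg
  exact ⟨Over.mk (g ≫ T.hom), Over.homMk g, y, (Sieve.overEquiv_iff R g).mp (hle _ _ hg), hflat, hy⟩

/-- Sheaf criterion for `genPSp`. -/
theorem isSheaf_genPSp (P : Over S → Prop) (hst : ∀ ⦃T T₀ : Over S⦄ (_ : T ⟶ T₀), P T₀ → P T)
    (hdesc : ∀ (T : Over S) {ι : Type u} (Ti : ι → Over S) (g : ∀ i, Ti i ⟶ T),
      (∀ i, Flat (g i).left) → (∀ t : T.left, ∃ i t', (g i).left t' = t) → (∀ i, P (Ti i)) → P T) :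
    Presheaf.IsSheaf (QuotSh.J Scheme.fpqcPrecoverage S) (FlatFun.genPSp S P) := by
  rw [isSheaf_iff_isSheaf_of_type]
  intro T R hR x _
  choose Ti g t' hRg hflat ht' using exists_flat_arrow hR
  have hP : P T := hdesc T Ti g hflat (fun t => ⟨t, t' t, ht' t⟩) fun t =>
    (FlatFun.genPSp_nonempty_iff_of_stable P hst _).mp ⟨x (g t) (hRg t)⟩
  obtain ⟨z⟩ := (FlatFun.genPSp_nonempty_iff_of_stable P hst T).mpr hP
  exact ⟨z, fun _ _ _ => Subsingleton.elim _ _, fun _ _ => Subsingleton.elim _ _⟩

variable {X : Scheme.{u}} (f : X ⟶ S)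

theorem flat_XTmap {T T' : Over S} (g : T' ⟶ T) [Flat g.left] : Flat (PicF.XTmap f g) :=
  MorphismProperty.of_isPullback (P := @Flat) (HilbDLib.isPullback_XTmap f g).flip inferInstance

theorem XTmap_jointly_surjective {T : Over S} {ι : Type u} {Ti : ι → Over S} (g : ∀ i, Ti i ⟶ T)
    (h : ∀ t : T.left, ∃ i t', (g i).left t' = t) (x : PicF.XT f T) :
    ∃ i x', PicF.XTmap f (g i) x' = x := by
  obtain ⟨i, t', ht⟩ := h (PicF.XTproj f T x)
  obtain ⟨x', hx, -⟩ := Scheme.Pullback.exists_preimage_pullback (f := PicF.XTproj f T) (g := (g i).left) x t' ht.symm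
  let e := (HilbDLib.isPullback_XTmap f (g i)).isoPullback
  refine ⟨i, e.inv x', ?_⟩
  rw [← hx, ← Scheme.Hom.comp_apply, IsPullback.isoPullback_inv_fst]

/-- `u_{T'}` is the pullback of `u_T` up to isomorphisms. -/
noncomputable def arrowIso {T T' : Over S} (g : T' ⟶ T) {F G : X.Modules} (a : F ⟶ G) :
    Arrow.mk ((Scheme.Modules.pullback (PicF.XTmap f g)).map ((Scheme.Modules.pullback (pullback.fst f T.hom)).map a)) ≅
      Arrow.mk ((Scheme.Modules.pullback (pullback.fst f T'.hom)).map a) :=
  Arrow.isoMk (FGA.ETiso f F g) (FGA.ETiso f G g) (by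
    simp only [FGA.ETiso, Iso.trans_hom, Iso.app_hom, Arrow.mk_left, Arrow.mk_right, Arrow.mk_hom]
    have h1 := (Scheme.Modules.pullbackComp (PicF.XTmap f g) (pullback.fst f T.hom)).hom.naturality a
    have h2 := (Scheme.Modules.pullbackCongr (FGA.XTmap_fst f g)).hom.naturality a
    simp only [Functor.comp_map] at h1
    rw [Category.assoc, ← h2, ← Category.assoc, ← h1, Category.assoc])

theorem map_fst_eq_zero_iff {T T' : Over S} (g : T' ⟶ T) {F G : X.Modules} (a : F ⟶ G) :
    (Scheme.Modules.pullback (pullback.fst f T'.hom)).map a = 0 ↔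
      (Scheme.Modules.pullback (PicF.XTmap f g)).map ((Scheme.Modules.pullback (pullback.fst f T.hom)).map a) = 0 := by
  have h := (arrowIso f g a).hom.w
  simp only [arrowIso, Arrow.mk_left, Arrow.mk_right, Arrow.mk_hom] at h
  constructor
  · intro h0
    rw [← cancel_mono (FGA.ETiso f G g).hom, zero_comp]
    have h' : (FGA.ETiso f F g).hom ≫ (Scheme.Modules.pullback (pullback.fst f T'.hom)).map a = 0 := by
      rw [h0, comp_zero]
    exact h.symm.trans h'
  · intro h0
    rw [← cancel_epi (FGA.ETiso f F g).hom, comp_zero]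
    have h' : (Scheme.Modules.pullback (PicF.XTmap f g)).map ((Scheme.Modules.pullback (pullback.fst f T.hom)).map a) ≫
        (FGA.ETiso f G g).hom = 0 := by rw [h0, zero_comp]
    exact h.trans h'

end Groth.Agent.FlatFun4
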