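import Groth.Agent.FlatFun4.StalkFlat
import Groth.Agent.FlatFun4.SheafCrit
import Groth.Agent.FlatFun4.ResTrdeg
import Groth.Agent.MorLib.FlatBC
import Groth.Agent.GrFlat5.FlatAtIso

/-! The flattening conditions: stability and fpqc descent. -/

set_option linter.style.haveILetI false
set_option autoImplicit false
set_option backward.isDefEq.respectTransparency false
set_option backward.isDefEq.respectTransparency.types false

universe u

open CategoryTheory CategoryTheory.Limits AlgebraicGeometry Opposite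

namespace Groth.Agent.FlatFun4

variable {X S : Scheme.{u}} (f : X ⟶ S)

/-- `u_T`. -/
noncomputable abbrev uT {F G : X.Modules} (a : F ⟶ G) (T : Over S) :=
  (Scheme.Modules.pullback (pullback.fst f T.hom)).map a

theorem isIso_uT_iff {T T' : Over S} (g : T' ⟶ T) {F G : X.Modules} (a : F ⟶ G) :
    IsIso (uT f a T') ↔ IsIso ((Scheme.Modules.pullback (PicF.XTmap f g)).map (uT f a T)) :=
  ((MorphismProperty.isomorphisms _).arrow_mk_iso_iff (arrowIso f g a)).symm

theorem epi_uT_iff {T T' : Over S} (g : T' ⟶ T) {F G : X.Modules} (a : F ⟶ G) :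
    Epi (uT f a T') ↔ Epi ((Scheme.Modules.pullback (PicF.XTmap f g)).map (uT f a T)) :=
  ((MorphismProperty.epimorphisms _).arrow_mk_iso_iff (arrowIso f g a)).symm

theorem mono_uT_iff {T T' : Over S} (g : T' ⟶ T) {F G : X.Modules} (a : F ⟶ G) :
    Mono (uT f a T') ↔ Mono ((Scheme.Modules.pullback (PicF.XTmap f g)).map (uT f a T)) :=
  ((MorphismProperty.monomorphisms _).arrow_mk_iso_iff (arrowIso f g a)).symm

instance preservesEpi_pullback {Y Z : Scheme.{u}} (h : Y ⟶ Z) :
    (Scheme.Modules.pullback h).PreservesEpimorphisms :=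
  (Scheme.Modules.pullback h).preservesEpimorphisms_of_adjunction
    (Scheme.Modules.pullbackPushforwardAdjunction h)

theorem isIso_uT_of_hom {T T' : Over S} (g : T' ⟶ T) {F G : X.Modules} (a : F ⟶ G)
    (h : IsIso (uT f a T)) : IsIso (uT f a T') :=
  (isIso_uT_iff f g a).mpr inferInstance

theorem epi_uT_of_hom {T T' : Over S} (g : T' ⟶ T) {F G : X.Modules} (a : F ⟶ G)
    (h : Epi (uT f a T)) : Epi (uT f a T') :=
  (epi_uT_iff f g a).mpr ((Scheme.Modules.pullback (PicF.XTmap f g)).map_epi (uT f a T))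

theorem uT_eq_zero_of_hom {T T' : Over S} (g : T' ⟶ T) {F G : X.Modules} (a : F ⟶ G)
    (h : uT f a T = 0) : uT f a T' = 0 := by
  refine (map_fst_eq_zero_iff f g a).mpr ?_
  haveI := (Scheme.Modules.pullbackPushforwardAdjunction (PicF.XTmap f g)).left_adjoint_additive
  rw [show (Scheme.Modules.pullback (pullback.fst f T.hom)).map a = 0 from h, Functor.map_zero]

theorem isFlatOverAt_of_hom {T T' : Over S} (g : T' ⟶ T) (F : X.Modules) (x : PicF.XT f T')
    (h : FlatMod.IsFlatOverAt (PicF.XTproj f T) (FGA.ET f F T) (PicF.XTmap f g x)) :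
    FlatMod.IsFlatOverAt (PicF.XTproj f T') (FGA.ET f F T') x :=
  GrFlat5.isFlatOverAt_of_iso _ (FGA.ETiso f F g) x
    (MorLib.FlatBC.isFlatOverAt_baseChange (PicF.XTproj f T) (PicF.XTproj f T') (PicF.XTmap f g) g.left
      (HilbDLib.isPullback_XTmap f g) _ x h)

theorem isFlatOverAt_descend {T T' : Over S} (g : T' ⟶ T) [Flat g.left] (F : X.Modules) (x : PicF.XT f T')
    (h : FlatMod.IsFlatOverAt (PicF.XTproj f T') (FGA.ET f F T') x) :
    FlatMod.IsFlatOverAt (PicF.XTproj f T) (FGA.ET f F T) (PicF.XTmap f g x) := by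
  haveI := flat_XTmap f g
  exact isFlatOverAt_of_pullback (PicF.XTproj f T) (PicF.XTproj f T') (PicF.XTmap f g) g.left
    (HilbDLib.isPullback_XTmap f g).w _ x (GrFlat5.isFlatOverAt_of_iso _ (FGA.ETiso f F g).symm x h)

/-- flatness in dimensions `≥ n` -/
abbrev FlatDim (F : X.Modules) (n : ℕ) (T : Over S) : Prop :=
  FlatFun.DimFibresLT n (PicF.XTproj f T) {x | ¬ FlatMod.IsFlatOverAt (PicF.XTproj f T) (FGA.ET f F T) x}

theorem flatDim_iff (F : X.Modules) (n : ℕ) (T : Over S) :
    FlatDim f F n T ↔ ∀ x, ¬ FlatMod.IsFlatOverAt (PicF.XTproj f T) (FGA.ET f F T) x →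
      resTr (PicF.XTproj f T) x < n := Iff.rfl

theorem flatDim_of_hom {T T' : Over S} (g : T' ⟶ T) (F : X.Modules) (n : ℕ)
    (h : FlatDim f F n T) : FlatDim f F n T' := fun x hx =>
  (resTr_baseChange_le (HilbDLib.isPullback_XTmap f g) x).trans_lt
    (h _ fun h' => hx (isFlatOverAt_of_hom f g F x h'))

theorem flatDim_descend {T : Over S} {ι : Type u} {Ti : ι → Over S} (g : ∀ i, Ti i ⟶ T)
    (hg : ∀ i, Flat (g i).left) (hsurj : ∀ t : T.left, ∃ i t', (g i).left t' = t) (F : X.Modules) (n : ℕ)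
    (h : ∀ i, FlatDim f F n (Ti i)) : FlatDim f F n T := fun x hx => by
  obtain ⟨i, t', ht⟩ := hsurj (PicF.XTproj f T x)
  obtain ⟨x', hx', -, hle⟩ := exists_point_resTr_ge (HilbDLib.isPullback_XTmap f (g i)) x t' ht.symm
  haveI := hg i
  exact hle.trans_lt (h i x' fun h' => hx (hx' ▸ isFlatOverAt_descend f (g i) F x' h'))

end Groth.Agent.FlatFun4
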