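import Groth.Agent.FlatFun4.FlatPullAt
import Groth.Agent.FlatFun4.SheafConds
import Groth.Agent.AlgSpLib.EtLocalInst

/-! Base change of an étale map of the source. -/

set_option linter.style.haveILetI false
set_option autoImplicit false
set_option backward.isDefEq.respectTransparency false
set_option backward.isDefEq.respectTransparency.types false

universe u

open CategoryTheory CategoryTheory.Limits AlgebraicGeometry Opposite

namespace Groth.Agent.FlatFun4

variable {X X' S : Scheme.{u}} (f : X ⟶ S) (h : X' ⟶ X) (T : Over S)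

/-- `X'_T ⟶ X_T`. -/
noncomputable def srcMap : PicF.XT (h ≫ f) T ⟶ PicF.XT f T :=
  pullback.lift (pullback.fst (h ≫ f) T.hom ≫ h) (pullback.snd (h ≫ f) T.hom)
    (by rw [Category.assoc]; exact pullback.condition)

theorem srcMap_fst : srcMap f h T ≫ pullback.fst f T.hom = pullback.fst (h ≫ f) T.hom ≫ h :=
  pullback.lift_fst _ _ _

theorem srcMap_proj : srcMap f h T ≫ PicF.XTproj f T = PicF.XTproj (h ≫ f) T :=
  pullback.lift_snd _ _ _

theorem isPullback_srcMap :
    IsPullback (srcMap f h T) (pullback.fst (h ≫ f) T.hom) (pullback.fst f T.hom) h :=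
  IsPullback.flip <| IsPullback.of_right (h₁₂ := PicF.XTproj f T) (h₂₂ := f)
    (by erw [srcMap_proj]; exact (IsPullback.of_hasPullback (h ≫ f) T.hom).flip)
    (srcMap_fst f h T) (IsPullback.of_hasPullback f T.hom).flip |>.flip

theorem etale_srcMap [Etale h] : Etale (srcMap f h T) :=
  MorphismProperty.of_isPullback (P := @Etale) (isPullback_srcMap f h T).flip ‹_›

/-- `(h^*F)_T ≅ e^* (F_T)`. -/
noncomputable def srcIso (F : X.Modules) :
    (Scheme.Modules.pullback (srcMap f h T)).obj (FGA.ET f F T) ≅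
      FGA.ET (h ≫ f) ((Scheme.Modules.pullback h).obj F) T :=
  (Scheme.Modules.pullbackComp (srcMap f h T) (pullback.fst f T.hom)).app F ≪≫
    (Scheme.Modules.pullbackCongr (srcMap_fst f h T)).app F ≪≫
    ((Scheme.Modules.pullbackComp (pullback.fst (h ≫ f) T.hom) h).app F).symm

theorem isFlatOverAt_src [Etale h] (F : X.Modules) (x : PicF.XT (h ≫ f) T)
    (hx : FlatMod.IsFlatOverAt (PicF.XTproj f T) (FGA.ET f F T) (srcMap f h T x)) :
    FlatMod.IsFlatOverAt (PicF.XTproj (h ≫ f) T) (FGA.ET (h ≫ f) ((Scheme.Modules.pullback h).obj F) T) x := by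
  haveI := etale_srcMap f h T
  refine GrFlat5.isFlatOverAt_of_iso _ (srcIso f h T F) x ?_
  rw [← srcMap_proj]
  exact isFlatOverAt_comp _ _ _ x hx

theorem resTr_src [Etale h] (x : PicF.XT (h ≫ f) T) :
    resTr (PicF.XTproj (h ≫ f) T) x = resTr (PicF.XTproj f T) (srcMap f h T x) := by
  haveI := etale_srcMap f h T
  rw [← srcMap_proj f h T]
  haveI := AlgSpLib.locallyQuasiFinite_of_formallyUnramified (srcMap f h T)
  exact resTr_comp_of_finite _ _ x (MorLib.GF.finite_residueFieldMap _ x)

end Groth.Agent.FlatFun4
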