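import Groth.Agent.FlatFun4.RelAssFlat
import Groth.Agent.FibDim.BaseField
import Groth.Agent.DimFormula.Fibre
import Groth.Agent.S1262

/-! The flat locus is open in every fibre, and dimensions of its complement. -/

set_option linter.style.haveILetI false
set_option autoImplicit false
set_option backward.isDefEq.respectTransparency false
set_option backward.isDefEq.respectTransparency.types false

universe u

open AlgebraicGeometry CategoryTheory TensorProduct TopologicalSpace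

namespace Groth.Agent.FlatFun4.RelAss

variable {X S : Scheme.{u}} (f : X ⟶ S) [LocallyOfFiniteType f] {F : X.Modules}

/-- Flatness at a point holds near it in the fibre. -/
theorem exists_nhd_flat_in_fibre (hF : Coh.IsQCoh F) (hft : CohB1.IsFT F) {x : X}
    (h : FlatMod.IsFlatOverAt f F x) :
    ∃ N : X.Opens, x ∈ N ∧ ∀ z ∈ N, f z = f x → FlatMod.IsFlatOverAt f F z := by
  obtain ⟨V, hV, hsV, -⟩ := exists_isAffineOpen_mem_and_subset (x := f x) (U := ⊤) trivial
  obtain ⟨U, hU, hxU, hle⟩ := exists_isAffineOpen_mem_and_subset (x := x) (U := f ⁻¹ᵁ V) hsV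
  letI := (f.appLE V U hle).hom.toAlgebra
  letI : Module Γ(S, V) Γ(F, U) := Module.compHom _ (f.appLE V U hle).hom
  haveI : IsScalarTower Γ(S, V) Γ(X, U) Γ(F, U) := .of_algebraMap_smul fun _ _ => rfl
  haveI : Algebra.FiniteType Γ(S, V) Γ(X, U) := f.finiteType_appLE hV hU hle
  haveI : Module.Finite Γ(X, U) Γ(F, U) := QCoh.finite_of_isFT hF hft hU
  let P : PrimeSpectrum Γ(S, V) := hV.primeIdealOf ⟨f x, hle hxU⟩
  have hover : ∀ z (hz : z ∈ U), f z = f x →
      hU.primeIdealOf ⟨z, hz⟩ ∈ PrimeSpectrum.comap (algebraMap Γ(S, V) Γ(X, U)) ⁻¹' {P} := fun z hz he => by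
    refine (IsAffineOpen.comap_primeIdealOf_appLE V hV U hU hle hz).trans ?_
    exact congrArg hV.primeIdealOf (Subtype.ext he)
  let e := PrimeSpectrum.preimageHomeomorphFiber Γ(S, V) Γ(X, U) P
  obtain ⟨W, hW, hWe⟩ := isOpen_induced_iff.1
    ((S1262.result (R := Γ(S, V)) (S := Γ(X, U)) Γ(F, U) P.asIdeal).preimage e.continuous)
  have hmem : ∀ z (hz : z ∈ U), f z = f x →
      (hU.primeIdealOf ⟨z, hz⟩ ∈ W ↔ FlatMod.IsFlatOverAt f F z) := fun z hz he => by
    have hsub := Set.ext_iff.1 hWe ⟨hU.primeIdealOf ⟨z, hz⟩, hover z hz he⟩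
    rw [isFlatOverAt_iff_flatAt f hF hV hU hle hz]
    refine hsub.trans ?_
    have hq : PrimeSpectrum.comap (Algebra.TensorProduct.includeRight (R := Γ(S, V)) (A := P.asIdeal.ResidueField)
        (B := Γ(X, U))).toRingHom (e ⟨hU.primeIdealOf ⟨z, hz⟩, hover z hz he⟩) = hU.primeIdealOf ⟨z, hz⟩ :=
      congrArg Subtype.val (e.symm_apply_apply ⟨hU.primeIdealOf ⟨z, hz⟩, hover z hz he⟩)
    have hcongr : ∀ q q' : PrimeSpectrum Γ(X, U), q = q' →
        (FlatCA.FlatAt Γ(S, V) q.asIdeal Γ(F, U) ↔ FlatCA.FlatAt Γ(S, V) q'.asIdeal Γ(F, U)) := by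
      rintro q _ rfl; rfl
    exact hcongr _ _ hq
  refine ⟨hU.fromSpec ''ᵁ ⟨W, hW⟩, ⟨_, (hmem x hxU rfl).2 h, hU.fromSpec_primeIdealOf _⟩, ?_⟩
  rintro z ⟨w, hw, rfl⟩ he
  have hz : hU.fromSpec w ∈ U := by
    have : hU.fromSpec w ∈ Set.range hU.fromSpec := ⟨w, rfl⟩
    rwa [hU.range_fromSpec] at this
  refine (hmem _ hz he).1 ?_
  rwa [show hU.primeIdealOf ⟨hU.fromSpec w, hz⟩ = w from
    hU.fromSpec.isOpenEmbedding.injective (hU.fromSpec_primeIdealOf _)]

/-- The non-flat locus of a fibre has dimension `< n` exactly when its points have relative degree `< n`. -/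
theorem dim_nonflat_fibre_lt_iff (hF : Coh.IsQCoh F) (hft : CohB1.IsFT F) (n : ℕ) (s : S) :
    topologicalKrullDim {x : X // f x = s ∧ ¬ FlatMod.IsFlatOverAt f F x} < (n : WithBot ℕ∞) ↔
      ∀ x : X, f x = s → ¬ FlatMod.IsFlatOverAt f F x → FibDim.rd f x < n := by
  let Z : Set ↥(f.fiber s) := {w | ¬ FlatMod.IsFlatOverAt f F (f.fiberι s w)}
  have hZ : IsClosed Z := by
    rw [← isOpen_compl_iff, isOpen_iff_forall_mem_open]
    intro w hw
    obtain ⟨N, hN, hNf⟩ := exists_nhd_flat_in_fibre f hF hft (not_not.1 hw)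
    refine ⟨f.fiberι s ⁻¹' N, fun v hv hv' => hv' (hNf _ hv ?_), N.2.preimage (f.fiberι s).continuous, hN⟩
    rw [FibDim.fiber_apply_fiberι, FibDim.fiber_apply_fiberι]
  haveI : LocallyOfFiniteType (f.fiberToSpecResidueField s) := MorphismProperty.pullback_snd _ _ inferInstance
  haveI : Subsingleton ↥(Spec (CommRingCat.of (S.residueField s))) := inferInstanceAs (Subsingleton (PrimeSpectrum _))
  let pt : ↥(Spec (CommRingCat.of (S.residueField s))) := ⟨⊥, Ideal.isPrime_bot⟩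
  let g : f.fiber s ⟶ Spec (CommRingCat.of (S.residueField s)) := f.fiberToSpecResidueField s
  have hdim := FibDim.dim_closed_inter_eq_iSup g pt hZ
  have hall : Z ∩ g ⁻¹' {pt} = Z := Set.inter_eq_left.2 fun _ _ => Subsingleton.elim _ _
  rw [(Homeomorph.setCongr hall).isHomeomorph.topologicalKrullDim_eq] at hdim
  have hmap : ∀ w : Z, f (f.fiberι s w.1) = s ∧ ¬ FlatMod.IsFlatOverAt f F (f.fiberι s w.1) :=
    fun w => ⟨FibDim.fiber_apply_fiberι f w.1, w.2⟩
  let φ : Z → {x : X // f x = s ∧ ¬ FlatMod.IsFlatOverAt f F x} := fun w => ⟨f.fiberι s w.1, hmap w⟩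
  have hφemb : Topology.IsEmbedding φ :=
    Topology.IsEmbedding.of_comp (f := φ) (g := Subtype.val) (((f.fiberι s).continuous.comp continuous_subtype_val).subtype_mk hmap)
      continuous_subtype_val ((f.fiberι s).isEmbedding.comp Topology.IsEmbedding.subtypeVal)
  have hφs : Function.Surjective φ := fun ⟨x, hx, hnf⟩ => by
    obtain ⟨w, rfl⟩ : x ∈ Set.range (f.fiberι s) := by rw [Scheme.Hom.range_fiberι]; exact hx
    exact ⟨⟨w, hnf⟩, rfl⟩
  rw [← (hφemb.toHomeomorphOfSurjective hφs).isHomeomorph.topologicalKrullDim_eq, hdim]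
  constructor
  · intro h x hx hnf
    obtain ⟨w, rfl⟩ : x ∈ Set.range (f.fiberι s) := by rw [Scheme.Hom.range_fiberι]; exact hx
    have h' := lt_of_le_of_lt (le_iSup (fun z : ↥(Z ∩ g ⁻¹' {pt}) => ((FibDim.rd g z.1 : ℕ∞) : WithBot ℕ∞))
      ⟨w, hnf, Subsingleton.elim _ _⟩) h
    rw [← DimFormula.rd_fiberToSpec]
    exact_mod_cast h'
  · intro h
    have hlt : ∀ z : ↥(Z ∩ g ⁻¹' {pt}), FibDim.rd g z.1 < n := fun z => by
      rw [DimFormula.rd_fiberToSpec]
      exact h _ (FibDim.fiber_apply_fiberι f z.1) z.2.1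
    cases n with
    | zero =>
      haveI : IsEmpty ↥(Z ∩ g ⁻¹' {pt}) := ⟨fun z => Nat.not_lt_zero _ (hlt z)⟩
      rw [iSup_of_empty]
      exact WithBot.bot_lt_coe _
    | succ m =>
      refine lt_of_le_of_lt (iSup_le fun z => ?_) (show ((m : ℕ) : WithBot ℕ∞) < ((m + 1 : ℕ) : WithBot ℕ∞) from
        Nat.cast_lt.2 m.lt_succ_self)
      exact_mod_cast Nat.lt_succ_iff.1 (hlt z)

end Groth.Agent.FlatFun4.RelAss
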