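import Groth.Agent.RGCore.UnivInjAt
import Groth.Agent.Sga3xB.DenseKey
import Groth.Agent.GrpSchLib.SmoothRegular
import Groth.Agent.RegLoc6.Basic
import Groth.Agent.FlatDvr.FibreStalk
import Groth.Agent.QCoh.Stalk

/-! A smooth morphism: the local ring at a point embeds into that at a generization in the same fibre. -/

set_option linter.style.haveILetI false
set_option autoImplicit false
set_option backward.isDefEq.respectTransparency false
set_option backward.isDefEq.respectTransparency.types false

universe u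

open CategoryTheory AlgebraicGeometry TopologicalSpace TensorProduct IsLocalRing

namespace Groth.Agent.FlatFun4

theorem exists_one_tmul {A N : Type u} [CommRing A] [AddCommGroup N] [Module A N] (p : Ideal A) [p.IsPrime]
    (hunit : ∀ s : A, s ∉ p → Function.Surjective fun n : N => s • n) (w : p.ResidueField ⊗[A] N) :
    ∃ n : N, (1 : p.ResidueField) ⊗ₜ[A] n = w := by
  induction w with
  | zero => exact ⟨0, tmul_zero _ _⟩
  | add a b ha hb =>
    obtain ⟨m, rfl⟩ := ha
    obtain ⟨n, rfl⟩ := hb
    exact ⟨m + n, tmul_add _ _ _⟩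
  | tmul c n =>
    obtain ⟨c', rfl⟩ := IsLocalRing.residue_surjective (R := Localization.AtPrime p) c
    obtain ⟨r, s, rfl⟩ := IsLocalization.exists_mk'_eq p.primeCompl c'
    obtain ⟨n', rfl⟩ := hunit s.1 s.2 n
    refine ⟨r • n', ?_⟩
    show (1 : p.ResidueField) ⊗ₜ[A] (r • n') =
      IsLocalRing.residue (Localization.AtPrime p) (IsLocalization.mk' _ r s) ⊗ₜ[A] (s.1 • n')
    rw [tmul_smul, tmul_smul, smul_tmul', smul_tmul']
    congr 1
    rw [Algebra.smul_def, Algebra.smul_def, mul_one,
      IsScalarTower.algebraMap_apply A (Localization.AtPrime p) p.ResidueField,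
      IsScalarTower.algebraMap_apply A (Localization.AtPrime p) p.ResidueField]
    show residue _ (algebraMap A (Localization.AtPrime p) r) = _
    rw [← IsLocalization.mk'_spec' (Localization.AtPrime p) r s, map_mul]
    rfl

theorem injective_stalkSpecializes_of_smooth {X T : Scheme.{u}} (q : X ⟶ T) [Smooth q] {η x : X} (h : η ⤳ x)
    (he : q η = q x) : Function.Injective (X.presheaf.stalkSpecializes h).hom := by
  obtain ⟨V, hV, hxV, -⟩ := exists_isAffineOpen_mem_and_subset (x := q x) (U := ⊤) trivial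
  obtain ⟨U, hU, hxU, hle⟩ := exists_isAffineOpen_mem_and_subset (x := x) (U := q ⁻¹ᵁ V) hxV
  have hηU : η ∈ U := h.mem_open U.2 hxU
  letI : Algebra Γ(T, V) Γ(X, U) := (q.appLE V U hle).hom.toAlgebra
  haveI : Algebra.FinitePresentation Γ(T, V) Γ(X, U) := q.finitePresentation_appLE hV hU hle
  haveI : Module.Flat Γ(T, V) Γ(X, U) := q.flat_appLE hV hU hle
  letI := QCoh.stalkAlg (X := X) hxU
  letI := QCoh.stalkAlg (X := X) hηU
  haveI := QCoh.isLocalization_stalk' hU hxU
  haveI := QCoh.isLocalization_stalk' hU hηU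
  let y := (hU.primeIdealOf ⟨x, hxU⟩).asIdeal
  let yη := (hU.primeIdealOf ⟨η, hηU⟩).asIdeal
  let p : Ideal Γ(T, V) := y.under Γ(T, V)
  letI : Algebra Γ(T, V) (X.presheaf.stalk x) :=
    ((algebraMap Γ(X, U) (X.presheaf.stalk x)).comp (algebraMap Γ(T, V) Γ(X, U))).toAlgebra
  haveI : IsScalarTower Γ(T, V) Γ(X, U) (X.presheaf.stalk x) := .of_algebraMap_eq fun _ => rfl
  haveI : Module.Flat Γ(X, U) (X.presheaf.stalk x) := IsLocalization.flat (X.presheaf.stalk x) y.primeCompl
  haveI : Module.Flat Γ(T, V) (X.presheaf.stalk x) := Module.Flat.trans Γ(T, V) Γ(X, U) (X.presheaf.stalk x)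
  have hsp : ∀ s : Γ(X, U), (X.presheaf.stalkSpecializes h).hom (algebraMap Γ(X, U) (X.presheaf.stalk x) s) =
      algebraMap Γ(X, U) (X.presheaf.stalk η) s := fun s =>
    congr(($(X.presheaf.germ_stalkSpecializes hxU h)).hom s)
  rw [injective_iff_map_eq_zero]
  intro a ha
  obtain ⟨s, t, rfl⟩ := IsLocalization.exists_mk'_eq y.primeCompl a
  have hs : algebraMap Γ(X, U) (X.presheaf.stalk η) s = 0 := by
    rw [← hsp, ← IsLocalization.mk'_spec' (X.presheaf.stalk x) s t, map_mul, ha, mul_zero]
  obtain ⟨⟨g, hg⟩, hgs⟩ := (IsLocalization.map_eq_zero_iff yη.primeCompl (X.presheaf.stalk η) s).mp hs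
  -- the fibre
  let w := q.asFiber x
  haveI : Smooth (q.fiberToSpecResidueField (q x)) := MorphismProperty.pullback_snd _ _ inferInstance
  haveI : IsRegularLocalRing ((q.fiber (q x)).presheaf.stalk w) :=
    GrpSchLib.isRegularLocalRing_stalk_of_smooth (K := T.residueField (q x)) (q.fiberToSpecResidueField (q x)) w
  haveI : IsDomain ((q.fiber (q x)).presheaf.stalk w) := RegLoc6.isDomain_of_isRegularLocalRing _
  suffices hinj : Function.Injective fun n : X.presheaf.stalk x => g • n by
    have h0 : g • algebraMap Γ(X, U) (X.presheaf.stalk x) s = g • (0 : X.presheaf.stalk x) := by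
      rw [smul_zero, Algebra.smul_def, ← map_mul, show g * s = 0 from hgs, map_zero]
    rw [IsLocalization.mk'_eq_iff_eq_mul, zero_mul]
    exact hinj h0
  let l : Γ(X, U) →ₗ[Γ(X, U)] X.presheaf.stalk x := Algebra.linearMap Γ(X, U) (X.presheaf.stalk x)
  haveI : IsLocalizedModule y.primeCompl l := inferInstanceAs (IsLocalizedModule y.primeCompl (Algebra.linearMap _ _))
  have huniv := RGCore.univInj_localized (A := Γ(T, V)) y p l (LinearMap.lsmul Γ(X, U) (X.presheaf.stalk x) g) ?_
  · have := huniv Γ(T, V)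
    intro m n hmn
    have := this (a₁ := (1 : Γ(T, V)) ⊗ₜ m) (a₂ := (1 : Γ(T, V)) ⊗ₜ n) (by
      simp only [LinearMap.lTensor_tmul]
      exact congrArg _ hmn)
    simpa using congrArg (TensorProduct.lid Γ(T, V) (X.presheaf.stalk x)) this
  have hunit : ∀ r : Γ(T, V), r ∉ p → Function.Surjective fun n : X.presheaf.stalk x => r • n := fun r hr n => by
    have hu : IsUnit (algebraMap Γ(X, U) (X.presheaf.stalk x) (algebraMap Γ(T, V) Γ(X, U) r)) :=
      IsLocalization.map_units (X.presheaf.stalk x) (⟨_, hr⟩ : y.primeCompl)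
    exact ⟨hu.unit⁻¹.val * n, by
      show r • _ = n
      rw [Algebra.smul_def, ← mul_assoc]
      exact (congrArg (· * n) hu.mul_val_inv).trans (one_mul n)⟩
  rw [injective_iff_map_eq_zero]
  intro z hz
  obtain ⟨n, rfl⟩ := exists_one_tmul p hunit z
  rw [LinearMap.lTensor_tmul] at hz
  obtain ⟨r, hr, hrn⟩ := Sga3xB.exists_smul_mem_of_one_tmul_eq_zero p _ hz
  let ι := q.fiberι (q x)
  have hιw : ι w = x := q.fiberι_asFiber x
  let L := (q.fiber (q x)).presheaf.stalk w
  let π : X.presheaf.stalk x →+* L :=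
    ((X.presheaf.stalkCongr (.of_eq hιw)).inv ≫ ι.stalkMap w).hom
  have hπker : RingHom.ker π = p.map (algebraMap Γ(T, V) (X.presheaf.stalk x)) := by
    have key : ∀ (z : X) (hz : z ∈ U), ι w = z → ∀ (e : ι w = z),
        RingHom.ker ((X.presheaf.stalkCongr (.of_eq e)).inv ≫ ι.stalkMap w).hom =
          ((hU.primeIdealOf ⟨z, hz⟩).asIdeal.under Γ(T, V)).map
            ((X.presheaf.germ U z hz).hom.comp (algebraMap Γ(T, V) Γ(X, U))) := by
      rintro _ hz rfl e
      rw [show (X.presheaf.stalkCongr (.of_eq e)).inv = 𝟙 _ from by simp [TopCat.Presheaf.stalkCongr],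
        Category.id_comp, FlatDvr.ker_stalkMap_fiberι q w]
      letI := QCoh.stalkAlg (X := T) (hle hz)
      haveI := QCoh.isLocalization_stalk' hV (hle hz)
      rw [← IsLocalization.AtPrime.map_eq_maximalIdeal (hV.primeIdealOf ⟨q (ι w), hle hz⟩).asIdeal
        (T.presheaf.stalk (q (ι w))), Ideal.map_map]
      congr 1
      · exact RingHom.ext fun a => (Scheme.Hom.germ_stalkMap_apply q V (ι w) (hle hz) a).trans
          (X.presheaf.germ_res_apply (homOfLE hle) (ι w) hz _).symm
      · exact congrArg PrimeSpectrum.asIdeal (IsAffineOpen.comap_primeIdealOf_appLE V hV U hU hle hz).symm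
    exact key x hxU hιw hιw
  have hgn : π (r • g • n) = 0 := by
    rw [← RingHom.mem_ker, hπker]
    have := hrn
    rwa [Ideal.smul_top_eq_map, Submodule.restrictScalars_mem] at this
  have hzero : π n = 0 := by
    rw [Algebra.smul_def, Algebra.smul_def, map_mul, map_mul] at hgn
    have hr0 : π (algebraMap Γ(T, V) (X.presheaf.stalk x) r) ≠ 0 := by
      have hu : IsUnit (algebraMap Γ(T, V) (X.presheaf.stalk x) r) :=
        IsLocalization.map_units (X.presheaf.stalk x) (⟨_, hr⟩ : y.primeCompl)
      exact (hu.map π).ne_zero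
    have hg0 : π (algebraMap Γ(X, U) (X.presheaf.stalk x) g) ≠ 0 := by
      intro h0
      rw [← RingHom.mem_ker, hπker] at h0
      have h1 : (X.presheaf.stalkSpecializes h).hom (algebraMap Γ(X, U) (X.presheaf.stalk x) g) ∈
          (IsLocalRing.maximalIdeal (X.presheaf.stalk η)) := by
        have h2 := Ideal.mem_map_of_mem (X.presheaf.stalkSpecializes h).hom h0
        rw [Ideal.map_map] at h2
        refine Ideal.map_le_iff_le_comap.2 ?_ h2
        intro a hap
        have hc : p = yη.under Γ(T, V) := by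
          show y.comap _ = yη.comap _
          exact (congrArg PrimeSpectrum.asIdeal (IsAffineOpen.comap_primeIdealOf_appLE V hV U hU hle hxU)).trans
            ((congrArg (fun z => (hV.primeIdealOf z).asIdeal) (Subtype.ext he.symm)).trans
              (congrArg PrimeSpectrum.asIdeal (IsAffineOpen.comap_primeIdealOf_appLE V hV U hU hle hηU)).symm)
        rw [Ideal.mem_comap, RingHom.comp_apply]
        show (X.presheaf.stalkSpecializes h).hom (algebraMap Γ(X, U) (X.presheaf.stalk x) _) ∈ _
        rw [hsp]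
        exact (IsLocalization.AtPrime.to_map_mem_maximal_iff (X.presheaf.stalk η) yη _).2 (hc ▸ hap :)
      rw [hsp] at h1
      exact hg ((IsLocalization.AtPrime.to_map_mem_maximal_iff (X.presheaf.stalk η) yη _).1 h1)
    rcases mul_eq_zero.mp hgn with h' | h'
    · exact absurd h' hr0
    · exact (mul_eq_zero.mp h').resolve_left hg0
  have hn : n ∈ p • (⊤ : Submodule Γ(T, V) (X.presheaf.stalk x)) := by
    rw [Ideal.smul_top_eq_map, Submodule.restrictScalars_mem, ← hπker]
    exact hzero
  clear hzero hgn hz hrn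
  induction hn using Submodule.smul_induction_on' with
  | smul b hb m _ =>
    rw [tmul_smul, smul_tmul', Algebra.smul_def, mul_one, Ideal.algebraMap_residueField_eq_zero.2 hb, zero_tmul]
  | add a _ b _ h1 h2 => rw [tmul_add, h1, h2, add_zero]

end Groth.Agent.FlatFun4
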