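import Groth.Agent.FibDim.BaseField
import Groth.Agent.DimFormula.Fibre
import Groth.Agent.FibDim.FlatBC
import Groth.Agent.FibDim.Comp

/-! Dimensions of fibres of flat morphisms of algebraic schemes over a field. -/

set_option linter.style.haveILetI false
set_option autoImplicit false
set_option backward.isDefEq.respectTransparency false
set_option backward.isDefEq.respectTransparency.types false

universe u

open CategoryTheory CategoryTheory.Limits AlgebraicGeometry TopologicalSpace Topology Order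

namespace Groth.Agent.FlatFun4.FlatDimField

variable {k : Type u} [Field k] {X Y : Scheme.{u}} {qX : X ⟶ Spec (CommRingCat.of k)}
  {qY : Y ⟶ Spec (CommRingCat.of k)} (f : X ⟶ Y)

theorem maximal_image [Flat f] {η : X} (hη : ∀ z, z ⤳ η → z = η) : ∀ y, y ⤳ f η → y = f η := fun y hy => by
  obtain ⟨v, hv, rfl⟩ := Flat.generalizingMap f hy
  rw [hη v hv]

theorem exists_maximal (x : X) : ∃ η, η ⤳ x ∧ ∀ z, z ⤳ η → z = η :=
  let ⟨η, h1, h2⟩ := FibDim.exists_maximal_generization x
  ⟨η, h1, fun z hz => h2 z hz⟩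

theorem dim_closed_irreducible (q : X ⟶ Spec (CommRingCat.of k)) [LocallyOfFiniteType q] {V : Set X}
    (hV : IsClosed V) (hVi : IsIrreducible V) :
    ∃ v, IsGenericPoint v V ∧ topologicalKrullDim ↥V = ((FibDim.rd q v : ℕ∞) : WithBot ℕ∞) := by
  haveI := FibDim.subsingleton_spec_field k
  obtain ⟨v, hv⟩ := QuasiSober.sober hVi hV
  refine ⟨v, hv, ?_⟩
  rw [← (Homeomorph.setCongr hv.def).isHomeomorph.topologicalKrullDim_eq, FibDim.topologicalKrullDim_closure q]

theorem dim_eq_rd_genericPoint [IrreducibleSpace X] (q : X ⟶ Spec (CommRingCat.of k)) [LocallyOfFiniteType q] :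
    topologicalKrullDim ↥X = ((FibDim.rd q (genericPoint X) : ℕ∞) : WithBot ℕ∞) := by
  haveI := FibDim.subsingleton_spec_field k
  rw [← FibDim.topologicalKrullDim_closure q (genericPoint X), (genericPoint_spec X).def]
  exact (Homeomorph.Set.univ X).symm.isHomeomorph.topologicalKrullDim_eq

theorem maximal_eq_genericPoint [IrreducibleSpace X] {η : X} (hη : ∀ z, z ⤳ η → z = η) : η = genericPoint X :=
  (hη _ ((genericPoint_spec X).specializes (Set.mem_univ η))).symm

/-- Components of a closed subset, read on maximal points. -/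
theorem component_dim_closed (q : X ⟶ Spec (CommRingCat.of k)) [LocallyOfFiniteType q] {P : Set X} (hP : IsClosed P)
    {W : Set ↥P} (hW : W ∈ irreducibleComponents ↥P) :
    ∃ w ∈ P, (∀ t ∈ P, t ⤳ w → t = w) ∧ topologicalKrullDim ↥W = ((FibDim.rd q w : ℕ∞) : WithBot ℕ∞) := by
  haveI := FibDim.subsingleton_spec_field k
  haveI : QuasiSober ↥P := hP.isClosedEmbedding_subtypeVal.quasiSober
  obtain ⟨ξ, rfl, hξ⟩ := FDescent.exists_maximal_of_mem_irreducibleComponents hW
  refine ⟨ξ.1, ξ.2, fun t ht hs => congrArg Subtype.val (hξ ⟨t, ht⟩ ((subtype_specializes_iff _ _).2 hs)), ?_⟩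
  rw [(IsEmbedding.subtypeVal.homeomorphImage (closure ({ξ} : Set ↥P))).isHomeomorph.topologicalKrullDim_eq,
    (Homeomorph.setCongr (show Subtype.val '' closure ({ξ} : Set ↥P) = closure {ξ.1} by
      rw [← hP.isClosedEmbedding_subtypeVal.closure_image_eq, Set.image_singleton])).isHomeomorph.topologicalKrullDim_eq,
    FibDim.topologicalKrullDim_closure q]

theorem components_iff (q : X ⟶ Spec (CommRingCat.of k)) [LocallyOfFiniteType q] (d : ℕ) :
    (∀ Z ∈ irreducibleComponents (X : Type u), topologicalKrullDim Z = (d : WithBot ℕ∞)) ↔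
      ∀ η : X, (∀ z, z ⤳ η → z = η) → FibDim.rd q η = d := by
  haveI := FibDim.subsingleton_spec_field k
  constructor
  · intro h η hη
    have := h _ (FDescent.closure_mem_irreducibleComponents hη)
    rw [FibDim.topologicalKrullDim_closure q] at this
    exact_mod_cast this
  · intro h Z hZ
    obtain ⟨η, rfl, hη⟩ := FDescent.exists_maximal_of_mem_irreducibleComponents hZ
    rw [FibDim.topologicalKrullDim_closure q, h η hη]
    rfl

theorem fibre_components_iff {Y : Scheme.{u}} (f : X ⟶ Y) [LocallyOfFiniteType f] (y : Y) (n : ℕ) :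
    (∀ Z ∈ irreducibleComponents (f.fiber y : Type u), topologicalKrullDim Z = (n : WithBot ℕ∞)) ↔
      ∀ z, f z = y → FibDim.FibMax f z → FibDim.rd f z = n := by
  haveI : LocallyOfFiniteType (f.fiberToSpecResidueField y) := MorphismProperty.pullback_snd _ _ inferInstance
  rw [components_iff (k := Y.residueField y) (f.fiberToSpecResidueField y)]
  constructor
  · intro h z hz hm
    obtain ⟨a, rfl⟩ : z ∈ Set.range (f.fiberι y) := by rw [Scheme.Hom.range_fiberι]; exact hz
    rw [← DimFormula.rd_fiberToSpec]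
    exact h a fun b hb => (FibDim.fibMax_fiberι_iff f a).1 hm b hb
  · intro h a ha
    rw [DimFormula.rd_fiberToSpec]
    exact h _ (FibDim.fiber_apply_fiberι f a) ((FibDim.fibMax_fiberι_iff f a).2 fun b hb => ha b hb)

/-- A flat map lifts chains of generizations. -/
theorem cd_image_le [Flat f] [IsLocallyNoetherian X] [IsLocallyNoetherian Y] (z : X) {ξ : Y} (h : ξ ⤳ f z) :
    ∃ η, η ⤳ z ∧ (∀ t, t ⤳ η → t = η) ∧ DimFormula.cd ξ (f z) ≤ DimFormula.cd η z := by
  classical
  obtain ⟨l, hl0, -, hl⟩ := DimFormula.exists_cd_series h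
  have step : ∀ (i : Fin l.length) (v : {v : X // f v = l i.castSucc}),
      ∃ w : {w : X // f w = l i.succ}, w.1 ⤳ v.1 ∧ w.1 ≠ v.1 := fun i ⟨v, hv⟩ => by
    have hlt : l i.castSucc < l i.succ := l.step i
    have hs : l i.succ ⤳ f v := hv ▸ DimFormula.le_def'.1 hlt.le
    obtain ⟨w, hw, hfw⟩ := Flat.generalizingMap f hs
    exact ⟨⟨w, hfw⟩, hw, fun e => hlt.ne (by rw [← hv, ← hfw]; exact congrArg f e.symm)⟩
  let g : ∀ i, {v : X // f v = l i} :=
    Fin.induction ⟨z, hl0.symm⟩ fun i v => (step i v).choose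
  have hg : ∀ i : Fin l.length, (g i.castSucc).1 < (g i.succ).1 := fun i => by
    have e : g i.succ = (step i (g i.castSucc)).choose := Fin.induction_succ ..
    have h' := (step i (g i.castSucc)).choose_spec
    rw [← e] at h'
    exact lt_of_le_not_ge (α := X) h'.1 fun hle =>
      h'.2 (DimFormula.eq_of_specializes_of_specializes h'.1 hle)
  let l' : LTSeries X := ⟨l.length, fun i => (g i).1, hg⟩
  have h0 : l'.head = z := rfl
  obtain ⟨η, hη, hmax⟩ := exists_maximal (l'.last)
  have hz : η ⤳ z := hη.trans (show l'.last ⤳ z from h0 ▸ LTSeries.head_le_last l')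
  refine ⟨η, hz, hmax, ?_⟩
  rw [← hl]
  exact DimFormula.le_cd hz l' h0 hη

variable [LocallyOfFiniteType qX] [LocallyOfFiniteType qY] [LocallyOfFiniteType f]

/-- Over a field: fibres of a flat map between equidimensional schemes are equidimensional. -/
theorem fibres_iff (hf : f ≫ qY = qX) [Flat f] (d n : ℕ) (hY : ∀ ξ : Y, (∀ z, z ⤳ ξ → z = ξ) → FibDim.rd qY ξ = d) :
    (∀ η : X, (∀ z, z ⤳ η → z = η) → FibDim.rd qX η = d + n) ↔ ∀ z, FibDim.FibMax f z → FibDim.rd f z = n := by
  haveI := FibDim.subsingleton_spec_field k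
  haveI : IsLocallyNoetherian X := LocallyOfFiniteType.isLocallyNoetherian qX
  haveI : IsLocallyNoetherian Y := LocallyOfFiniteType.isLocallyNoetherian qY
  subst hf
  constructor
  · intro h z hz
    have key : ∀ η : X, (∀ t, t ⤳ η → t = η) → FibDim.rd f η = n := fun η hη => by
      have h1 := h η hη
      rw [FibDim.rd_comp, hY _ (maximal_image f hη)] at h1
      omega
    obtain ⟨ξ, hξ, hξm⟩ := exists_maximal (f z)
    obtain ⟨η, hη, hηm, hcd⟩ := cd_image_le f z hξ
    have h1 := DimFormula.cd_add_rd_of_fibre (f ≫ qY) hη (Subsingleton.elim _ _)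
    rw [FibDim.rd_comp, FibDim.rd_comp, hY _ (maximal_image f hηm), key η hηm] at h1
    have h2 := DimFormula.cd_add_rd_of_fibre qY hξ (Subsingleton.elim _ _)
    rw [hY ξ hξm] at h2
    have h3 := DimFormula.rd_le_of_specializes' f hη
    rw [key η hηm, (DimFormula.fb_eq_zero_iff f z).2 hz] at h3
    omega
  · intro h η hη
    rw [FibDim.rd_comp, hY _ (maximal_image f hη), h η (FibDim.fibMax_of_maximal f hη)]

/-- The same, in terms of irreducible components. -/
theorem components_iff_fibres (hf : f ≫ qY = qX) [Flat f] (d n : ℕ)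
    (hY : ∀ ξ : Y, (∀ z, z ⤳ ξ → z = ξ) → FibDim.rd qY ξ = d) :
    (∀ Z ∈ irreducibleComponents (X : Type u), topologicalKrullDim Z = ((d + n : ℕ) : WithBot ℕ∞)) ↔
      ∀ (y : Y), ∀ Z ∈ irreducibleComponents (f.fiber y : Type u), topologicalKrullDim Z = (n : WithBot ℕ∞) := by
  rw [components_iff qX, fibres_iff f hf d n hY]
  exact ⟨fun h y => (fibre_components_iff f y n).2 fun z _ => h z, fun h z hz => (fibre_components_iff f (f z) n).1 (h _) z rfl hz⟩

/-- Flat base change keeps the dimension of the components of fibres. -/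
theorem rd_baseChange_fibMax {X' Y' : Scheme.{u}} {p : X' ⟶ X} {q : X' ⟶ Y'} {g : Y' ⟶ Y} [Flat f]
    [LocallyOfFiniteType q] (h : IsPullback p q f g) (n : ℕ) (hn : ∀ z, FibDim.FibMax f z → FibDim.rd f z = n)
    {w : X'} (hw : FibDim.FibMax q w) : FibDim.rd q w = n := by
  have h1 : FibDim.rd q w = FibDim.rd f (p w) :=
    FibDim.rd_baseChange_eq_of_minimal h w fun v hv _ hqv => hw v hv hqv
  rw [h1]
  exact hn _ (FibDim.fibMax_of_baseChange h hw)

end Groth.Agent.FlatFun4.FlatDimField
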