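import Groth.Agent.FlatModel.Open
import Groth.Agent.QCoh.FlatOver
import Groth.Agent.QCoh.FT
import Mathlib.AlgebraicGeometry.Morphisms.FinitePresentation

/-! The flat locus of a finitely presented module is open. -/

set_option linter.style.haveILetI false
set_option autoImplicit false
set_option backward.isDefEq.respectTransparency false
set_option backward.isDefEq.respectTransparency.types false

universe u

open CategoryTheory AlgebraicGeometry TopologicalSpace

namespace Groth.Agent.FlatFun4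

theorem isOpen_isFlatOverAt {X S : Scheme.{u}} (f : X ⟶ S) [LocallyOfFinitePresentation f]
    {M : X.Modules} (hq : Coh.IsQCoh M) (hM : CohB1.IsFP M) :
    IsOpen {x : X | FlatMod.IsFlatOverAt f M x} := by
  rw [isOpen_iff_forall_mem_open]
  intro x hx
  obtain ⟨V, hV, hxV, -⟩ := exists_isAffineOpen_mem_and_subset (x := f x) (U := ⊤) trivial
  obtain ⟨U, hU, hxU, hle⟩ := exists_isAffineOpen_mem_and_subset (x := x) (U := f ⁻¹ᵁ V) hxV
  letI : Algebra Γ(S, V) Γ(X, U) := (f.appLE V U hle).hom.toAlgebra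
  letI : Module Γ(S, V) Γ(M, U) := Module.compHom _ (f.appLE V U hle).hom
  haveI : IsScalarTower Γ(S, V) Γ(X, U) Γ(M, U) := .of_algebraMap_smul fun _ _ => rfl
  haveI : Algebra.FinitePresentation Γ(S, V) Γ(X, U) := f.finitePresentation_appLE hV hU hle
  haveI := QCoh.finitePresentation_of_isFP hM hU
  have key : ∀ (y : X) (hy : y ∈ U), FlatMod.IsFlatOverAt f M y ↔
      Module.Flat Γ(S, V) (LocalizedModule (hU.primeIdealOf ⟨y, hy⟩).asIdeal.primeCompl Γ(M, U)) := by
    intro y hy
    rw [QCoh.isFlatOverAt_iff f hV hle hy]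
    letI := QCoh.stalkModule M hy
    letI : Module Γ(S, V) (M.presheaf.stalk y) :=
      Module.compHom _ ((f.appLE V U hle) ≫ X.presheaf.germ U y hy).hom
    haveI : IsScalarTower Γ(S, V) Γ(X, U) (M.presheaf.stalk y) := .of_algebraMap_smul fun _ _ => rfl
    haveI := QCoh.isLocalizedModule_germLin hq hU hy
    let e : LocalizedModule (hU.primeIdealOf ⟨y, hy⟩).asIdeal.primeCompl Γ(M, U) ≃ₗ[Γ(X, U)]
        M.presheaf.stalk y := IsLocalizedModule.iso _ (QCoh.germLin M hy)
    exact ⟨fun _ => Module.Flat.of_linearEquiv (e.restrictScalars Γ(S, V)),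
      fun _ => Module.Flat.of_linearEquiv (e.restrictScalars Γ(S, V)).symm⟩
  obtain ⟨g, hg, hflat⟩ := FlatModel.exists_flat_nhd (R := Γ(S, V)) Γ(M, U) _ ((key x hxU).mp hx)
  refine ⟨X.basicOpen g, fun y hy => ?_, (X.basicOpen g).2, (QCoh.mem_basicOpen_iff_notMem hU hxU g).2 hg⟩
  have hyU := X.basicOpen_le g hy
  exact (key y hyU).mpr (hflat _ ((QCoh.mem_basicOpen_iff_notMem hU hyU g).1 hy))

end Groth.Agent.FlatFun4
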