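import Groth.Agent.FlatFun4.StalkDesc
import Groth.Agent.FlatFun4.ResTrdeg
import Groth.Agent.MorLib.FlatBC
import Groth.Agent.MorLib.GeomFibre
import Groth.Prelude.Def_FlatMod2
import Mathlib.AlgebraicGeometry.Morphisms.Etale

/-! Flatness and transcendence degree along a flat, resp. quasi-finite, map of the source. -/

set_option linter.style.haveILetI false
set_option autoImplicit false
set_option backward.isDefEq.respectTransparency false
set_option backward.isDefEq.respectTransparency.types false

universe u

open CategoryTheory CategoryTheory.Limits AlgebraicGeometry TensorProduct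

namespace Groth.Agent.FlatFun4

variable {X' X S : Scheme.{u}} (e : X' ⟶ X) (f : X ⟶ S)

theorem isFlatOverAt_comp [Flat e] (M : X.Modules) (x : X') (h : FlatMod.IsFlatOverAt f M (e x)) :
    FlatMod.IsFlatOverAt (e ≫ f) ((Scheme.Modules.pullback e).obj M) x := by
  letI : Algebra (X.presheaf.stalk (e x)) (X'.presheaf.stalk x) := (e.stalkMap x).hom.toAlgebra
  haveI : Module.Flat (X.presheaf.stalk (e x)) (X'.presheaf.stalk x) := Flat.stalkMap e x
  letI : Algebra (S.presheaf.stalk (f (e x))) (X.presheaf.stalk (e x)) := (f.stalkMap (e x)).hom.toAlgebra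
  letI : Algebra (S.presheaf.stalk (f (e x))) (X'.presheaf.stalk x) := ((e ≫ f).stalkMap x).hom.toAlgebra
  haveI : IsScalarTower (S.presheaf.stalk (f (e x))) (X.presheaf.stalk (e x)) (X'.presheaf.stalk x) :=
    .of_algebraMap_eq fun r => congr($(Scheme.Hom.stalkMap_comp e f x).hom r)
  letI := FlatMod.moduleStalkOver f M (e x)
  haveI : IsScalarTower (S.presheaf.stalk (f (e x))) (X.presheaf.stalk (e x)) (M.presheaf.stalk (e x)) :=
    .of_algebraMap_smul fun _ _ => rfl
  haveI : Module.Flat (S.presheaf.stalk (f (e x))) (M.presheaf.stalk (e x)) := h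
  let N := ((Scheme.Modules.pullback e).obj M).presheaf.stalk x
  letI : Module (S.presheaf.stalk (f (e x))) N := FlatMod.moduleStalkOver (e ≫ f) _ x
  haveI : IsScalarTower (S.presheaf.stalk (f (e x))) (X'.presheaf.stalk x) N :=
    .of_algebraMap_smul fun _ _ => rfl
  haveI := MorLib.FlatBC.flat_tensor_of_flat (R' := S.presheaf.stalk (f (e x)))
    (B' := X.presheaf.stalk (e x)) (L := X'.presheaf.stalk x) (P := M.presheaf.stalk (e x))
  let i := ((KFlatLib.stalkPullbackIso e x).app M).toLinearEquiv
  let i' : N ≃ₗ[S.presheaf.stalk (f (e x))]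
      X'.presheaf.stalk x ⊗[X.presheaf.stalk (e x)] M.presheaf.stalk (e x) :=
    { toFun := i
      invFun := i.symm
      left_inv := i.left_inv
      right_inv := i.right_inv
      map_add' := i.map_add
      map_smul' := fun r m => by
        rw [RingHom.id_apply, ← algebraMap_smul (X'.presheaf.stalk x) r, ← algebraMap_smul (X'.presheaf.stalk x) r]
        exact i.map_smul _ m }
  exact (Module.Flat.of_linearEquiv i' : Module.Flat (S.presheaf.stalk (f (e x))) N)

theorem resTr_comp_of_finite (x : X') (hfin : (e.residueFieldMap x).hom.Finite) :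
    resTr (e ≫ f) x = resTr f (e x) := by
  letI := (f.residueFieldMap (e x)).hom.toAlgebra
  letI := (e.residueFieldMap x).hom.toAlgebra
  letI : Algebra (S.residueField (f (e x))) (X'.residueField x) :=
    ((e ≫ f).residueFieldMap x).hom.toAlgebra
  haveI : IsScalarTower (S.residueField (f (e x))) (X.residueField (e x)) (X'.residueField x) :=
    .of_algebraMap_eq fun r => congr($(Scheme.residueFieldMap_comp (f := e) (g := f) x).hom r)
  haveI : Module.Finite (X.residueField (e x)) (X'.residueField x) := hfin
  haveI : Algebra.IsAlgebraic (X.residueField (e x)) (X'.residueField x) := Algebra.IsAlgebraic.of_finite _ _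
  have h := trdeg_add_eq (R := S.residueField (f (e x))) (S := X.residueField (e x)) (A := X'.residueField x)
  rw [trdeg_eq_zero (R := X.residueField (e x)) (A := X'.residueField x), add_zero] at h
  exact h.symm

end Groth.Agent.FlatFun4
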