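import Groth.Agent.FlatFun4.FreeFun
import Groth.Agent.S2768
import Mathlib.AlgebraicGeometry.FunctionField

/-! Flatness in the top relative dimension of a smooth morphism with geometrically irreducible fibres. -/

set_option linter.style.haveILetI false
set_option autoImplicit false
set_option backward.isDefEq.respectTransparency false
set_option backward.isDefEq.respectTransparency.types false

universe u

open CategoryTheory CategoryTheory.Limits AlgebraicGeometry Opposite TopologicalSpace

namespace Groth.Agent.FlatFun4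

section Fibre

variable {X T : Scheme.{u}} (q : X ⟶ T)

theorem rd_of_isGenericPtOfFibre (d : ℕ) [SmoothOfRelativeDimension d q] {η : X}
    (hη : FlatFun.IsGenericPtOfFibre q η) : FibDim.rd q η = d := by
  haveI : Smooth q := SmoothOfRelativeDimension.smooth d q
  have hmax : FibDim.FibMax q η := fun z hz he => ((hη z he).antisymm hz).eq.symm
  have h := (FibDim.fibreDimAt_eq_rd q hmax).symm.trans (S2768.result d q η)
  exact_mod_cast h

theorem rd_lt_of_not_generic (d : ℕ) [SmoothOfRelativeDimension d q] [GeometricallyIrreducible q] {x : X}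
    (hx : ¬ FlatFun.IsGenericPtOfFibre q x) : FibDim.rd q x < d := by
  haveI : Smooth q := SmoothOfRelativeDimension.smooth d q
  obtain ⟨η, hη, hgen⟩ := exists_isGenericPtOfFibre q (q x)
  rw [← rd_of_isGenericPtOfFibre q d hgen]
  exact FibDim.rd_lt q (hgen x hη.symm) (fun e => hx (e ▸ hgen)) hη

theorem freeAt_of_flat_of_generic [Smooth q] [GeometricallyIrreducible q] {M : X.Modules} (hM : CohB1.IsFP M)
    {η : X} (hη : FlatFun.IsGenericPtOfFibre q η) (hfl : FlatMod.IsFlatOverAt q M η) : FreeAt M η := by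
  let G := q.fiber (q η)
  haveI : Smooth (q.fiberToSpecResidueField (q η)) := MorphismProperty.pullback_snd _ _ inferInstance
  haveI : ∀ w : G, _root_.IsReduced (G.presheaf.stalk w) := fun w => by
    haveI : IsRegularLocalRing (G.presheaf.stalk w) :=
      GrpSchLib.isRegularLocalRing_stalk_of_smooth (K := T.residueField (q η)) (q.fiberToSpecResidueField (q η)) w
    haveI := RegLoc6.isDomain_of_isRegularLocalRing (G.presheaf.stalk w)
    infer_instance
  haveI : AlgebraicGeometry.IsReduced G := isReduced_of_isReduced_stalk G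
  haveI : IsIntegral G := isIntegral_of_irreducibleSpace_of_isReduced G
  let w := genericPoint ↥G
  have e : q.fiberι (q η) w = η := by
    have h1 : q.fiberι (q η) w ⤳ η := by
      have := (genericPoint_specializes (q.asFiber η)).map (q.fiberι (q η)).continuous
      rwa [q.fiberι_asFiber] at this
    exact (h1.antisymm (hη _ (FlatDvr.fiberι_apply_eq q w))).eq
  have hfree : FreeAt ((Scheme.Modules.pullback (q.fiberι (q η))).obj M) w := by
    letI : Field (G.presheaf.stalk w) := inferInstanceAs (Field G.functionField)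
    exact Module.Free.of_divisionRing _ _
  exact e ▸ (freeAt_fibre_iff q hM _ w (e.symm ▸ hfl)).mp hfree

end Fibre

variable {X S : Scheme.{u}} (f : X ⟶ S)

theorem exists_rank_bound [CompactSpace X] {F : X.Modules} (hq : Coh.IsQCoh F) (hft : CohB1.IsFT F) :
    ∃ c : ℕ, ∀ (T : Over S) (y : PicF.XT f T), FreeAt (FGA.ET f F T) y →
      Module.finrank ↑((PicF.XT f T).presheaf.stalk y) ↑((FGA.ET f F T).presheaf.stalk y) ≤ c := by
  classical
  have key : ∀ U : X.affineOpens, ∃ c : ℕ, ∀ x (hx : x ∈ U.1),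
      ∃ π : (Fin c → X.presheaf.stalk x) →ₗ[X.presheaf.stalk x] F.presheaf.stalk x, Function.Surjective π := by
    intro U
    haveI := QCoh.finite_of_isFT hq hft U.2
    obtain ⟨c, π, hπ⟩ := Module.Finite.exists_fin' Γ(X, U.1) Γ(F, U.1)
    refine ⟨c, fun x hx => ⟨Fintype.linearCombination _ fun i => QCoh.germLin F hx (π (Pi.single i 1)), fun z => ?_⟩⟩
    letI := QCoh.stalkAlg (X := X) hx
    letI := QCoh.stalkModule F hx
    haveI := QCoh.isScalarTower_stalk F hx
    haveI := QCoh.isLocalization_stalk' U.2 hx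
    haveI := QCoh.isLocalizedModule_germLin hq U.2 hx
    obtain ⟨⟨n, u⟩, hu⟩ := IsLocalizedModule.surj (U.2.primeIdealOf ⟨x, hx⟩).asIdeal.primeCompl (QCoh.germLin F hx) z
    obtain ⟨a, rfl⟩ := hπ n
    have hunit : IsUnit (algebraMap Γ(X, U.1) (X.presheaf.stalk x) u) := IsLocalization.map_units _ u
    refine ⟨hunit.unit⁻¹.val • fun i => algebraMap Γ(X, U.1) (X.presheaf.stalk x) (a i), ?_⟩
    rw [map_smul, Fintype.linearCombination_apply]
    simp only [algebraMap_smul, ← map_smul, ← map_sum]
    rw [← pi_eq_sum_univ' a, ← hu, Submonoid.smul_def, ← algebraMap_smul (X.presheaf.stalk x) (u : Γ(X, U.1)) z,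
      smul_smul, IsUnit.val_inv_mul, one_smul]
  choose c hc using key
  obtain ⟨s, hs⟩ := isCompact_univ.elim_finite_subcover (fun U : X.affineOpens => (U.1 : Set X))
    (fun U => U.1.2) (fun x _ => by
      obtain ⟨U, hU, hx, -⟩ := exists_isAffineOpen_mem_and_subset (x := x) (U := ⊤) trivial
      exact Set.mem_iUnion.mpr ⟨⟨U, hU⟩, hx⟩)
  refine ⟨s.sup c, fun T y hy => ?_⟩
  let g := pullback.fst f T.hom
  obtain ⟨U, hU, hgU⟩ := Set.mem_iUnion₂.mp (hs (Set.mem_univ (g y)))
  obtain ⟨π, hπ⟩ := hc U (g y) hgU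
  letI := (g.stalkMap y).hom.toAlgebra
  let e : ((Scheme.Modules.pullback g).obj F).presheaf.stalk y ≃ₗ[(PicF.XT f T).presheaf.stalk y]
      TensorProduct (X.presheaf.stalk (g y)) ((PicF.XT f T).presheaf.stalk y) (F.presheaf.stalk (g y)) :=
    ((KFlatLib.stalkPullbackIso g y).app F).toLinearEquiv
  haveI : Module.Free ((PicF.XT f T).presheaf.stalk y) (((Scheme.Modules.pullback g).obj F).presheaf.stalk y) := hy
  haveI := Module.Free.of_equiv e
  have hs' : Function.Surjective (π.baseChange ((PicF.XT f T).presheaf.stalk y)) :=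
    LinearMap.lTensor_surjective _ hπ
  refine le_trans ?_ (Finset.le_sup hU)
  change Module.finrank _ (((Scheme.Modules.pullback g).obj F).presheaf.stalk y) ≤ _
  rw [e.finrank_eq]
  exact (LinearMap.finrank_le_finrank_of_surjective hs').trans (by simp)

theorem flatDim_top_iff (d : ℕ) [SmoothOfRelativeDimension d f] [GeometricallyIrreducible f] {F : X.Modules}
    (hF : CohB1.IsFP F) (T : Over S) :
    FlatDim f F d T ↔ ∀ η, FlatFun.IsGenericPtOfFibre (PicF.XTproj f T) η → FreeAt (FGA.ET f F T) η := by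
  haveI : Smooth f := SmoothOfRelativeDimension.smooth d f
  haveI := smooth_XTproj f T
  haveI := geometricallyIrreducible_XTproj f T
  haveI := smoothOfRelativeDimension_isStableUnderBaseChange d
  haveI : SmoothOfRelativeDimension d (PicF.XTproj f T) :=
    MorphismProperty.pullback_snd (P := @SmoothOfRelativeDimension d) f T.hom ‹_›
  rw [flatDim_iff]
  constructor
  · intro h η hη
    refine freeAt_of_flat_of_generic _ (isFP_pullback _ hF) hη ?_
    by_contra hfl
    have := h η hfl
    rw [resTr_eq_rd, rd_of_isGenericPtOfFibre _ d hη] at this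
    exact lt_irrefl _ this
  · intro h x hx
    rw [resTr_eq_rd, Nat.cast_lt]
    exact rd_lt_of_not_generic _ d fun hgen => hx (isFlatOverAt_of_freeAt f T (h x hgen))

theorem exists_flatDim_top_iff [CompactSpace X] (d : ℕ) [SmoothOfRelativeDimension d f]
    [GeometricallyIrreducible f] {F : X.Modules} (hF : CohB1.IsFP F) :
    ∃ c : ℕ, ∀ T : Over S, FlatDim f F d T ↔
      ∀ t : T.left, ∃ (V : T.left.Opens) (p : ℕ), t ∈ V ∧ p ≤ c ∧
        FlatFun.FreeAtGenericPts (PicF.XTproj f (Over.mk (V.ι ≫ T.hom)))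
          (FGA.ET f F (Over.mk (V.ι ≫ T.hom))) p := by
  haveI : Smooth f := SmoothOfRelativeDimension.smooth d f
  have hq := QCoh.isQCoh_of_isFP hF
  obtain ⟨c, hc⟩ := exists_rank_bound f hq (QCoh.isFT_of_isFP hF)
  refine ⟨c, fun T => ?_⟩
  haveI := smooth_XTproj f T
  haveI := geometricallyIrreducible_XTproj f T
  rw [flatDim_top_iff f d hF T]
  constructor
  · intro h t
    obtain ⟨η, hη, hgen⟩ := exists_isGenericPtOfFibre (PicF.XTproj f T) t
    let p := Module.finrank ↑((PicF.XT f T).presheaf.stalk η) ↑((FGA.ET f F T).presheaf.stalk η)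
    obtain ⟨U, hηU, e⟩ := near_of_freeRankAt (isFP_pullback _ hF) (p := p) ⟨h η hgen, rfl⟩
    let q := PicF.XTproj f T
    let V : T.left.Opens := ⟨q '' U, q.isOpenMap _ U.2⟩
    let T' : Over S := Over.mk (V.ι ≫ T.hom)
    let g : T' ⟶ T := Over.homMk V.ι
    refine ⟨V, p, ⟨η, hηU, hη⟩, hc T η (h η hgen), ?_⟩
    haveI := geometricallyIrreducible_XTproj f T'
    rw [freeAtGenericPts_iff]
    intro t'
    obtain ⟨x, hx, hxt⟩ := (t'.2 : V.ι t' ∈ q '' U)
    obtain ⟨x', hxx, hxt', -⟩ := exists_point_resTr_ge (HilbDLib.isPullback_XTmap f g) x t' hxt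
    exact ⟨x', hxt', near_of_iso (FGA.ETiso f F g)
      (near_pullback (PicF.XTmap f g) (QCoh.isQCoh_pullback _ hq) x' (hxx.symm ▸ ⟨U, hx, e⟩))⟩
  · intro h η hη
    obtain ⟨V, p, hV, -, hfree⟩ := h (PicF.XTproj f T η)
    let T' : Over S := Over.mk (V.ι ≫ T.hom)
    let g : T' ⟶ T := Over.homMk V.ι
    obtain ⟨x', hx', -, hnear⟩ := hfree ⟨_, hV⟩
    haveI : Flat g.left := inferInstanceAs (Flat V.ι)
    haveI := flat_XTmap f g
    have h1 : FreeRankAt (FGA.ET f F T) p (PicF.XTmap f g x') :=
      freeRankAt_of_flat_pullback _ (QCoh.isQCoh_pullback _ hq) (FittX.isFT_pullback _ hq (QCoh.isFT_of_isFP hF)) _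
        (freeRankAt_of_iso (FGA.ETiso f F g).symm (freeRankAt_of_near (QCoh.isQCoh_pullback _ hq) hnear))
    have hsp : η ⤳ PicF.XTmap f g x' := hη _ (by
      rw [← Scheme.Hom.comp_apply, (HilbDLib.isPullback_XTmap f g).w, Scheme.Hom.comp_apply, hx']
      rfl)
    exact (freeRankAt_of_near (QCoh.isQCoh_pullback _ hq)
      (near_generalize hsp (near_of_freeRankAt (isFP_pullback _ hF) h1))).1

end Groth.Agent.FlatFun4
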