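import Groth.Agent.KFlatLib.Scheme.Pullback
import Groth.Agent.KFlatLib.Scheme.Exact
import Groth.Agent.Synt29.OmegaStalk
import Groth.Agent.Synt29.ConormalExact
import Mathlib.RingTheory.Flat.FaithfullyFlat.Basic
import Mathlib.AlgebraicGeometry.Morphisms.Flat

/-! Properties of morphisms of modules reflected by flat pullback, stalk by stalk. -/

set_option linter.style.haveILetI false
set_option autoImplicit false

universe u

open CategoryTheory CategoryTheory.Limits AlgebraicGeometry TensorProduct

namespace Groth.Agent.FlatFun4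

variable {X X' : Scheme.{u}} (h : X' ⟶ X) (x : X') {F G : X.Modules} (a : F ⟶ G)

/-- the stalk map of `a` -/
noncomputable abbrev st {Y : Scheme.{u}} {M N : Y.Modules} (b : M ⟶ N) (y : Y) :=
  ((DerSch.stalkFunctor Y y).map b).hom

theorem stalk_pullback_map :
    letI := (h.stalkMap x).hom.toAlgebra
    ∀ z, ((KFlatLib.stalkPullbackIso h x).hom.app G) (st ((Scheme.Modules.pullback h).map a) x z) =
      (st a (h x)).baseChange (X'.presheaf.stalk x) ((KFlatLib.stalkPullbackIso h x).hom.app F z) :=
  fun z => congr(($((KFlatLib.stalkPullbackIso h x).hom.naturality a)).hom z)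

theorem bijective_hom_app (M : X.Modules) :
    Function.Bijective ((KFlatLib.stalkPullbackIso h x).hom.app M) :=
  ConcreteCategory.bijective_of_isIso _

theorem injective_pullback_iff :
    Function.Injective (st ((Scheme.Modules.pullback h).map a) x) ↔
    (letI := (h.stalkMap x).hom.toAlgebra
     Function.Injective ((st a (h x)).baseChange (X'.presheaf.stalk x))) := by
  letI := (h.stalkMap x).hom.toAlgebra
  have hF := bijective_hom_app h x F
  have hG := bijective_hom_app h x G
  constructor
  · intro hi p q hpq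
    obtain ⟨p, rfl⟩ := hF.2 p
    obtain ⟨q, rfl⟩ := hF.2 q
    rw [← stalk_pullback_map, ← stalk_pullback_map] at hpq
    rw [hi (hG.1 hpq)]
  · intro hi p q hpq
    refine hF.1 (hi ?_)
    rw [← stalk_pullback_map, ← stalk_pullback_map, hpq]

theorem surjective_pullback_iff :
    Function.Surjective (st ((Scheme.Modules.pullback h).map a) x) ↔
    (letI := (h.stalkMap x).hom.toAlgebra
     Function.Surjective ((st a (h x)).baseChange (X'.presheaf.stalk x))) := by
  letI := (h.stalkMap x).hom.toAlgebra
  have hF := bijective_hom_app h x F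
  have hG := bijective_hom_app h x G
  constructor
  · intro hs w
    obtain ⟨w, rfl⟩ := hG.2 w
    obtain ⟨z, rfl⟩ := hs w
    exact ⟨_, (stalk_pullback_map h x a z).symm⟩
  · intro hs w
    obtain ⟨z, hz⟩ := hs ((KFlatLib.stalkPullbackIso h x).hom.app G w)
    obtain ⟨z, rfl⟩ := hF.2 z
    exact ⟨z, hG.1 ((stalk_pullback_map h x a z).trans hz)⟩

/-- A flat morphism has faithfully flat stalk maps. -/
theorem faithfullyFlat_stalkMap [Flat h] :
    letI := (h.stalkMap x).hom.toAlgebra
    Module.FaithfullyFlat (X.presheaf.stalk (h x)) (X'.presheaf.stalk x) := by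
  letI := (h.stalkMap x).hom.toAlgebra
  haveI : IsLocalHom (algebraMap (X.presheaf.stalk (h x)) (X'.presheaf.stalk x)) :=
    inferInstanceAs (IsLocalHom (h.stalkMap x).hom)
  haveI : Module.Flat (X.presheaf.stalk (h x)) (X'.presheaf.stalk x) := Flat.stalkMap h x
  exact Module.FaithfullyFlat.of_flat_of_isLocalHom

theorem injective_stalk_iff [Flat h] :
    Function.Injective (st ((Scheme.Modules.pullback h).map a) x) ↔
      Function.Injective (st a (h x)) := by
  letI := (h.stalkMap x).hom.toAlgebra
  haveI := faithfullyFlat_stalkMap h x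
  rw [injective_pullback_iff, LinearMap.baseChange_eq_ltensor]
  exact Module.FaithfullyFlat.lTensor_injective_iff_injective _ _ _

theorem surjective_stalk_iff [Flat h] :
    Function.Surjective (st ((Scheme.Modules.pullback h).map a) x) ↔
      Function.Surjective (st a (h x)) := by
  letI := (h.stalkMap x).hom.toAlgebra
  haveI := faithfullyFlat_stalkMap h x
  rw [surjective_pullback_iff, LinearMap.baseChange_eq_ltensor]
  exact Module.FaithfullyFlat.lTensor_surjective_iff_surjective _ _ _

theorem stalk_eq_zero_of_pullback [Flat h]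
    (h0 : ∀ z, st ((Scheme.Modules.pullback h).map a) x z = 0) :
    ∀ z, st a (h x) z = 0 := by
  letI := (h.stalkMap x).hom.toAlgebra
  haveI := faithfullyFlat_stalkMap h x
  intro z
  have h1 := stalk_pullback_map h x a
  obtain ⟨w, hw⟩ := (bijective_hom_app h x F).2 ((1 : X'.presheaf.stalk x) ⊗ₜ[X.presheaf.stalk (h x)] z)
  have h2 := h1 w
  rw [h0 w, map_zero, hw] at h2
  exact (Module.FaithfullyFlat.one_tmul_eq_zero_iff _ _ _).mp
    ((LinearMap.baseChange_tmul (A := X'.presheaf.stalk x) (st a (h x)) 1 z).symm.trans h2.symm)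

section Global

variable {h}

theorem mono_of_family {ι : Type*} {Y : ι → Scheme.{u}} (g : ∀ i, Y i ⟶ X) [∀ i, Flat (g i)]
    (hg : ∀ x, ∃ i y, g i y = x) (H : ∀ i, Mono ((Scheme.Modules.pullback (g i)).map a)) : Mono a :=
  (Synt29.OmegaStalk.mono_iff_stalk a).mpr fun x => by
    obtain ⟨i, y, rfl⟩ := hg x
    exact (injective_stalk_iff (g i) y a).mp ((Synt29.OmegaStalk.mono_iff_stalk _).mp (H i) y)

theorem epi_of_family {ι : Type*} {Y : ι → Scheme.{u}} (g : ∀ i, Y i ⟶ X) [∀ i, Flat (g i)]
    (hg : ∀ x, ∃ i y, g i y = x) (H : ∀ i, Epi ((Scheme.Modules.pullback (g i)).map a)) : Epi a :=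
  (Synt29.OmegaStalk.epi_iff_stalk a).mpr fun x => by
    obtain ⟨i, y, rfl⟩ := hg x
    exact (surjective_stalk_iff (g i) y a).mp ((Synt29.OmegaStalk.epi_iff_stalk _).mp (H i) y)

theorem isIso_of_family {ι : Type*} {Y : ι → Scheme.{u}} (g : ∀ i, Y i ⟶ X) [∀ i, Flat (g i)]
    (hg : ∀ x, ∃ i y, g i y = x) (H : ∀ i, IsIso ((Scheme.Modules.pullback (g i)).map a)) : IsIso a :=
  haveI := mono_of_family a g hg fun i => haveI := H i; inferInstance
  haveI := epi_of_family a g hg fun i => haveI := H i; inferInstance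
  isIso_of_mono_of_epi a

theorem mono_pullback (g : X' ⟶ X) [Flat g] [Mono a] : Mono ((Scheme.Modules.pullback g).map a) :=
  (Synt29.OmegaStalk.mono_iff_stalk _).mpr fun x => (injective_stalk_iff g x a).mpr
    ((Synt29.OmegaStalk.mono_iff_stalk a).mp inferInstance _)

theorem eq_zero_of_family {ι : Type*} {Y : ι → Scheme.{u}} (g : ∀ i, Y i ⟶ X) [∀ i, Flat (g i)]
    (hg : ∀ x, ∃ i y, g i y = x) (H : ∀ i, (Scheme.Modules.pullback (g i)).map a = 0) : a = 0 :=
  Synt29.ConormalExact.hom_ext_stalk a 0 fun x z => by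
    obtain ⟨i, y, rfl⟩ := hg x
    have := stalk_eq_zero_of_pullback (g i) y a (fun w => by
      rw [st, H i, Functor.map_zero]; rfl) z
    rw [Functor.map_zero]
    exact this

end Global

end Groth.Agent.FlatFun4
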