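import Groth.Agent.FlatFun4.FreeGen
import Groth.Agent.FlatFun4.FlatDimLim

/-! The functors `H_p`. -/

set_option linter.style.haveILetI false
set_option autoImplicit false
set_option backward.isDefEq.respectTransparency false
set_option backward.isDefEq.respectTransparency.types false

universe u

open CategoryTheory CategoryTheory.Limits AlgebraicGeometry Opposite

namespace Groth.Agent.FlatFun4

variable {X S : Scheme.{u}} (f : X ⟶ S) [Smooth f] [GeometricallyIrreducible f] {F : X.Modules}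

omit [GeometricallyIrreducible f] in
theorem smooth_XTproj (T : Over S) : Smooth (PicF.XTproj f T) :=
  MorphismProperty.pullback_snd f T.hom inferInstance

omit [Smooth f] in
theorem geometricallyIrreducible_XTproj (T : Over S) : GeometricallyIrreducible (PicF.XTproj f T) :=
  MorphismProperty.pullback_snd f T.hom inferInstance

omit [Smooth f] in
theorem freeAtGenericPts_of_hom {T T' : Over S} (g : T' ⟶ T) (hq : Coh.IsQCoh F) (p : ℕ)
    (h : FlatFun.FreeAtGenericPts (PicF.XTproj f T) (FGA.ET f F T) p) :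
    FlatFun.FreeAtGenericPts (PicF.XTproj f T') (FGA.ET f F T') p := by
  haveI := geometricallyIrreducible_XTproj f T
  haveI := geometricallyIrreducible_XTproj f T'
  rw [freeAtGenericPts_iff]
  intro t'
  obtain ⟨x, hx, hnear⟩ := (freeAtGenericPts_iff _).mp h (g.left t')
  obtain ⟨x', hxx, hxt, -⟩ := exists_point_resTr_ge (HilbDLib.isPullback_XTmap f g) x t' hx
  exact ⟨x', hxt, near_of_iso (FGA.ETiso f F g)
    (near_pullback (PicF.XTmap f g) (QCoh.isQCoh_pullback _ hq) x' (hxx.symm ▸ hnear))⟩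

theorem freeAtGenericPts_descend {T : Over S} {ι : Type u} {Ti : ι → Over S} (g : ∀ i, Ti i ⟶ T)
    (hg : ∀ i, Flat (g i).left) (hsurj : ∀ t : T.left, ∃ i t', (g i).left t' = t) (hq : Coh.IsQCoh F)
    (hft : CohB1.IsFT F) (p : ℕ)
    (h : ∀ i, FlatFun.FreeAtGenericPts (PicF.XTproj f (Ti i)) (FGA.ET f F (Ti i)) p) :
    FlatFun.FreeAtGenericPts (PicF.XTproj f T) (FGA.ET f F T) p := by
  haveI := smooth_XTproj f T
  haveI := geometricallyIrreducible_XTproj f T
  refine freeAtGenericPts_of_freeRankAt _ (QCoh.isQCoh_pullback _ hq) (FittX.isFT_pullback _ hq hft)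
    fun η hη => ?_
  obtain ⟨i, t', ht'⟩ := hsurj (PicF.XTproj f T η)
  obtain ⟨x', hx', -, hnear⟩ := h i t'
  let qi := PicF.XTproj f (Ti i)
  obtain ⟨φ, hφ, hφι⟩ := exists_fibreMap (HilbDLib.isPullback_XTmap f (g i)) t'
  obtain ⟨w', hw'⟩ : x' ∈ Set.range (qi.fiberι t') := by rw [Scheme.Hom.range_fiberι]; exact hx'
  obtain ⟨c, hc⟩ : η ∈ Set.range ((PicF.XTproj f T).fiberι ((g i).left t')) := by
    rw [Scheme.Hom.range_fiberι]; exact ht'.symm
  have hcw : c ⤳ φ w' := by
    rw [← ((PicF.XTproj f T).fiberι _).isEmbedding.isInducing.specializes_iff, hc]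
    exact hη _ ((FlatDvr.fiberι_apply_eq _ _).trans ht')
  obtain ⟨v, hv, hvc⟩ := Flat.generalizingMap φ hcw
  have hv' : qi.fiberι t' v ⤳ x' := hw' ▸ hv.map (qi.fiberι t').continuous
  have e : PicF.XTmap f (g i) (qi.fiberι t' v) = η := by
    rw [← hc, ← hvc, ← Scheme.Hom.comp_apply, ← hφι]
    rfl
  haveI := hg i
  haveI := flat_XTmap f (g i)
  rw [← e]
  exact freeRankAt_of_flat_pullback _ (QCoh.isQCoh_pullback _ hq) (FittX.isFT_pullback _ hq hft) _
    (freeRankAt_of_iso (FGA.ETiso f F (g i)).symm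
      (freeRankAt_of_near (QCoh.isQCoh_pullback _ hq) (near_generalize hv' hnear)))

omit [GeometricallyIrreducible f] in
theorem isFlatOverAt_of_freeAt (T : Over S) {x : PicF.XT f T} (h : FreeAt (FGA.ET f F T) x) :
    FlatMod.IsFlatOverAt (PicF.XTproj f T) (FGA.ET f F T) x := by
  haveI := smooth_XTproj f T
  let q := PicF.XTproj f T
  let M := FGA.ET f F T
  letI : Algebra (T.left.presheaf.stalk (q x)) ((PicF.XT f T).presheaf.stalk x) := (q.stalkMap x).hom.toAlgebra
  letI := FlatMod.moduleStalkOver q M x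
  haveI : IsScalarTower (T.left.presheaf.stalk (q x)) ((PicF.XT f T).presheaf.stalk x) (M.presheaf.stalk x) :=
    .of_algebraMap_smul fun _ _ => rfl
  haveI : Module.Flat (T.left.presheaf.stalk (q x)) ((PicF.XT f T).presheaf.stalk x) := Flat.stalkMap q x
  haveI : Module.Free ((PicF.XT f T).presheaf.stalk x) (M.presheaf.stalk x) := h
  exact Module.Flat.trans (T.left.presheaf.stalk (q x)) ((PicF.XT f T).presheaf.stalk x) (M.presheaf.stalk x)

/-- Freeness is read on fibres: the pointwise version. -/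
theorem freeAt_of_baseChange {X₀ X₁ S₀ S₁ : Scheme.{u}} {f₀ : X₀ ⟶ S₀} {g : X₁ ⟶ X₀} {f₁ : X₁ ⟶ S₁}
    {k : S₁ ⟶ S₀} (hc : IsPullback g f₁ f₀ k) {M : X₀.Modules} (hM : CohB1.IsFP M) (x' : X₁)
    (hfl : FlatMod.IsFlatOverAt f₀ M (g x'))
    (hx : FreeAt ((Scheme.Modules.pullback g).obj M) x') : FreeAt M (g x') := by
  obtain ⟨φ, hφ, hφι⟩ := exists_fibreMap hc (f₁ x')
  let w := f₁.asFiber x'
  rw [← f₁.fiberι_asFiber x'] at hx
  have h1 := freeAt_pullback (f₁.fiberι (f₁ x')) w hx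
  have h2 : FreeAt ((Scheme.Modules.pullback φ).obj ((Scheme.Modules.pullback (f₀.fiberι (k (f₁ x')))).obj M)) w :=
    freeAt_of_iso ((Scheme.Modules.pullbackComp _ _).app M ≪≫ (Scheme.Modules.pullbackCongr hφι.symm).app M ≪≫
      ((Scheme.Modules.pullbackComp _ _).app M).symm) w h1
  have h3 := freeAt_of_flat_pullback φ (isFP_pullback _ hM) w h2
  have e : f₀.fiberι (k (f₁ x')) (φ w) = g x' := by
    rw [← Scheme.Hom.comp_apply, hφι, Scheme.Hom.comp_apply, f₁.fiberι_asFiber]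
  exact e ▸ (freeAt_fibre_iff f₀ hM _ (φ w) (e.symm ▸ hfl)).mp h3

section Limit

variable {I : Type u} [SmallCategory I] [IsCofiltered I] (D : I ⥤ Over S)
  (c : Cone D) (hc : IsLimit ((Over.forget S).mapCone c)) (hD : ∀ i, IsAffine (D.obj i).left)

omit [GeometricallyIrreducible f] in
include hc hD in
/-- Freeness near a point descends to a stage (no quasi-compactness of `f` needed). -/
theorem exists_stage_freeRankAt (hT : IsAffine c.pt.left) (hF : CohB1.IsFP F) (p : ℕ) {x : PicF.XT f c.pt}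
    (h : FlatFun.IsFreeOfRankNear (FGA.ET f F c.pt) p x) :
    ∃ i, FlatFun.IsFreeOfRankNear (FGA.ET f F (D.obj i)) p (PicF.XTmap f (c.π.app i) x) := by
  have hq := QCoh.isQCoh_of_isFP hF
  obtain ⟨W, hxW, e⟩ := h
  obtain ⟨i, hi⟩ := exists_stage_isFlatOverAt f D c hc hD hT F hF hxW fun y hy =>
    isFlatOverAt_of_freeAt f c.pt (freeRankAt_of_near (QCoh.isQCoh_pullback _ hq) ⟨W, hy, e⟩).1
  have h1 : FreeRankAt ((Scheme.Modules.pullback (PicF.XTmap f (c.π.app i))).obj (FGA.ET f F (D.obj i))) p x :=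
    freeRankAt_of_iso (FGA.ETiso f F (c.π.app i)).symm
      (freeRankAt_of_near (QCoh.isQCoh_pullback _ hq) ⟨W, hxW, e⟩)
  have h2 := freeAt_of_baseChange (HilbDLib.isPullback_XTmap f (c.π.app i)) (isFP_pullback _ hF) x hi h1.1
  exact ⟨i, near_of_freeRankAt (isFP_pullback _ hF) ⟨h2, (finrank_pullback _ x h2).symm.trans h1.2⟩⟩

include hc hD in
theorem exists_stage_freeAtGenericPts (hT : IsAffine c.pt.left) (hF : CohB1.IsFP F) (p : ℕ)
    (h : FlatFun.FreeAtGenericPts (PicF.XTproj f c.pt) (FGA.ET f F c.pt) p) :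
    ∃ i, FlatFun.FreeAtGenericPts (PicF.XTproj f (D.obj i)) (FGA.ET f F (D.obj i)) p := by
  have hq := QCoh.isQCoh_of_isFP hF
  haveI : ∀ {a b : I} (φ : a ⟶ b), IsAffineHom ((D ⋙ Over.forget S).map φ) := fun {a b} φ => by
    haveI := hD a
    haveI := hD b
    exact isAffineHom_of_isAffine (D.map φ).left
  haveI : ∀ i, GeometricallyIrreducible (PicF.XTproj f (D.obj i)) := fun i => geometricallyIrreducible_XTproj f _
  by_contra hno
  push Not at hno
  let N : ∀ i, Set (PicF.XT f (D.obj i)) := fun i => {x | FlatFun.IsFreeOfRankNear (FGA.ET f F (D.obj i)) p x}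
  have hNopen : ∀ i, IsOpen (N i) := fun i => isOpen_iff_forall_mem_open.mpr fun x hx => by
    obtain ⟨U, hxU, e⟩ := hx
    exact ⟨U, fun y hy => ⟨U, hy, e⟩, U.2, hxU⟩
  let Z : ∀ i, Set ((D ⋙ Over.forget S).obj i) := fun i => (PicF.XTproj f (D.obj i) '' N i)ᶜ
  have hZ : ∀ i, IsClosed (Z i) := fun i => by
    haveI := smooth_XTproj f (D.obj i)
    exact ((PicF.XTproj f (D.obj i)).isOpenMap _ (hNopen i)).isClosed_compl
  obtain ⟨t, ht⟩ := exists_mem_of_isClosed_of_nonempty (D ⋙ Over.forget S) ((Over.forget S).mapCone c) hc Z hZ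
    (fun i => Set.nonempty_iff_ne_empty.mpr fun he => hno i ((freeAtGenericPts_iff _).mpr fun t => by
      obtain ⟨x, hx, hxt⟩ : t ∈ PicF.XTproj f (D.obj i) '' N i := by
        by_contra h'
        exact Set.eq_empty_iff_forall_notMem.mp he t h'
      exact ⟨x, hxt, hx⟩))
    (fun i => by haveI : IsAffine ((D ⋙ Over.forget S).obj i) := hD i; exact (hZ i).isCompact)
    (fun {a b} φ s hs => fun ⟨x, hx, hxs⟩ => by
      obtain ⟨x', hxx, hxt, -⟩ := exists_point_resTr_ge (HilbDLib.isPullback_XTmap f (D.map φ)) x s hxs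
      exact hs ⟨x', near_of_iso (FGA.ETiso f F (D.map φ))
        (near_pullback (PicF.XTmap f (D.map φ)) (QCoh.isQCoh_pullback _ hq) x' (hxx.symm ▸ hx)), hxt⟩)
  obtain ⟨x, hx, -, hnear⟩ := h t
  obtain ⟨i, hi⟩ := exists_stage_freeRankAt f D c hc hD hT hF p hnear
  refine ht i ⟨_, hi, ?_⟩
  rw [← Scheme.Hom.comp_apply, (HilbDLib.isPullback_XTmap f (c.π.app i)).w, Scheme.Hom.comp_apply]
  exact congrArg _ hx

end Limit

end Groth.Agent.FlatFun4
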