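import Groth.Agent.FlatFun4.FibreGeneric
import Groth.Agent.FlatFun4.FreeLocus
import Groth.Agent.FittX.Sheaf
import Groth.Agent.QCoh.LocFree
import Groth.Prelude.Def_FlatFun
import Mathlib.RingTheory.OrzechProperty
import Mathlib.AlgebraicGeometry.Geometrically.Irreducible

/-! Freeness of given rank near the generic points of the fibres of a smooth morphism. -/

set_option linter.style.haveILetI false
set_option autoImplicit false
set_option backward.isDefEq.respectTransparency false
set_option backward.isDefEq.respectTransparency.types false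

universe u

open CategoryTheory CategoryTheory.Limits AlgebraicGeometry TopologicalSpace

namespace Groth.Agent.FlatFun4

/-- The stalk of `M` at `x` is free of rank `p`. -/
def FreeRankAt {X : Scheme.{u}} (M : X.Modules) (p : ℕ) (x : X) : Prop :=
  FreeAt M x ∧ Module.finrank ↑(X.presheaf.stalk x) ↑(M.presheaf.stalk x) = p

variable {X X' T : Scheme.{u}}

theorem freeRankAt_of_near {M : X.Modules} (hM : Coh.IsQCoh M) {p : ℕ} {x : X}
    (h : FlatFun.IsFreeOfRankNear M p x) : FreeRankAt M p x := by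
  obtain ⟨U, hx, ⟨e⟩⟩ := h
  obtain ⟨V, hV, hxV, hle⟩ := exists_isAffineOpen_mem_and_subset (x := x) (U := U) hx
  obtain ⟨l⟩ := QCoh.free_sections hV hle e
  refine ⟨?_, QCoh.finrank_stalk_of_freeChart hV hM l hxV⟩
  haveI : Module.Free Γ(X, V) Γ(M, V) := Module.Free.of_equiv l.symm
  letI := QCoh.stalkAlg (X := X) hxV
  letI := QCoh.stalkModule M hxV
  haveI := QCoh.isScalarTower_stalk M hxV
  haveI := QCoh.isLocalization_stalk' hV hxV
  haveI := QCoh.isLocalizedModule_germLin hM hV hxV
  exact Module.free_of_isLocalizedModule (hV.primeIdealOf ⟨x, hxV⟩).asIdeal.primeCompl (QCoh.germLin M hxV)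

theorem near_of_freeRankAt {M : X.Modules} (hM : CohB1.IsFP M) {p : ℕ} {x : X} (h : FreeRankAt M p x) :
    FlatFun.IsFreeOfRankNear M p x := by
  haveI : Module.Free (X.presheaf.stalk x) (M.presheaf.stalk x) := h.1
  obtain ⟨U, n, hx, e⟩ := QCoh.exists_free_nhd_of_free_stalk hM x
  obtain rfl : n = p := (freeRankAt_of_near (QCoh.isQCoh_of_isFP hM) ⟨U, hx, e⟩).2.symm.trans h.2
  exact ⟨U, hx, e⟩

theorem freeRankAt_of_iso {M N : X.Modules} (e : M ≅ N) {p : ℕ} {x : X} (h : FreeRankAt M p x) :
    FreeRankAt N p x := by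
  let e' : M.presheaf.stalk x ≃ₗ[X.presheaf.stalk x] N.presheaf.stalk x :=
    ((DerSch.stalkFunctor X x).mapIso e).toLinearEquiv
  exact ⟨freeAt_of_iso e x h.1, e'.finrank_eq.symm.trans h.2⟩

theorem near_of_iso {M N : X.Modules} (e : M ≅ N) {p : ℕ} {x : X} (h : FlatFun.IsFreeOfRankNear M p x) :
    FlatFun.IsFreeOfRankNear N p x := by
  obtain ⟨U, hx, ⟨i⟩⟩ := h
  exact ⟨U, hx, ⟨((Scheme.Modules.restrictFunctor U.ι).mapIso e).symm ≪≫ i⟩⟩

section Pullback

variable (g : X' ⟶ X) {M : X.Modules}

theorem finrank_pullback (x : X') (h : FreeAt M (g x)) :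
    Module.finrank ↑(X'.presheaf.stalk x) ↑(((Scheme.Modules.pullback g).obj M).presheaf.stalk x) =
      Module.finrank ↑(X.presheaf.stalk (g x)) ↑(M.presheaf.stalk (g x)) := by
  letI := (g.stalkMap x).hom.toAlgebra
  haveI : Module.Free (X.presheaf.stalk (g x)) (M.presheaf.stalk (g x)) := h
  let e : ((Scheme.Modules.pullback g).obj M).presheaf.stalk x ≃ₗ[X'.presheaf.stalk x]
      TensorProduct (X.presheaf.stalk (g x)) (X'.presheaf.stalk x) (M.presheaf.stalk (g x)) :=
    ((KFlatLib.stalkPullbackIso g x).app M).toLinearEquiv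
  rw [e.finrank_eq, Module.finrank_baseChange]

theorem freeRankAt_pullback {p : ℕ} (x : X') (h : FreeRankAt M p (g x)) :
    FreeRankAt ((Scheme.Modules.pullback g).obj M) p x :=
  ⟨freeAt_pullback g x h.1, (finrank_pullback g x h.1).trans h.2⟩

theorem freeRankAt_of_flat_pullback [Flat g] (hM : Coh.IsQCoh M) (hft : CohB1.IsFT M) {p : ℕ} (x : X')
    (h : FreeRankAt ((Scheme.Modules.pullback g).obj M) p x) : FreeRankAt M p (g x) := by
  letI := (g.stalkMap x).hom.toAlgebra
  haveI := faithfullyFlat_stalkMap g x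
  haveI := QCoh.finite_stalk_of_isFT hM hft (g x)
  haveI : Module.Free (X'.presheaf.stalk x) (((Scheme.Modules.pullback g).obj M).presheaf.stalk x) := h.1
  let e : ((Scheme.Modules.pullback g).obj M).presheaf.stalk x ≃ₗ[X'.presheaf.stalk x]
      TensorProduct (X.presheaf.stalk (g x)) (X'.presheaf.stalk x) (M.presheaf.stalk (g x)) :=
    ((KFlatLib.stalkPullbackIso g x).app M).toLinearEquiv
  haveI := Module.Free.of_equiv e
  haveI : Module.Flat (X.presheaf.stalk (g x)) (M.presheaf.stalk (g x)) :=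
    Module.Flat.of_flat_tensorProduct (X.presheaf.stalk (g x)) (M.presheaf.stalk (g x)) (X'.presheaf.stalk x)
  have hfree : FreeAt M (g x) := Module.free_of_flat_of_isLocalRing
  exact ⟨hfree, (finrank_pullback g x hfree).symm.trans h.2⟩

theorem near_pullback (hM : Coh.IsQCoh M) {p : ℕ} (x : X') (h : FlatFun.IsFreeOfRankNear M p (g x)) :
    FlatFun.IsFreeOfRankNear ((Scheme.Modules.pullback g).obj M) p x := by
  obtain ⟨U, hx, ⟨i⟩⟩ := h
  obtain ⟨V, hV, hxV, hVU⟩ := exists_isAffineOpen_mem_and_subset (x := g x) (U := U) hx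
  obtain ⟨W, hW, hxW, hle⟩ := exists_isAffineOpen_mem_and_subset (x := x) (U := g ⁻¹ᵁ V) hxV
  obtain ⟨b⟩ := QCoh.free_sections hV hVU i
  letI := (g.appLE V W hle).hom.toAlgebra
  letI : Module Γ(X, V) Γ((Scheme.Modules.pullback g).obj M, W) := Module.compHom _ (g.appLE V W hle).hom
  haveI : IsScalarTower Γ(X, V) Γ(X', W) Γ((Scheme.Modules.pullback g).obj M, W) :=
    .of_algebraMap_smul fun _ _ => rfl
  obtain ⟨l, hl⟩ := exists_baseChange_sections g hM hV hW hle
  exact ⟨W, hxW, QCoh.exists_free_restrict (QCoh.isQCoh_pullback g hM) hW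
    (((Module.Basis.ofRepr b).baseChange Γ(X', W)).map hl.equiv).repr⟩

end Pullback

section Generic

variable (q : X ⟶ T)

theorem exists_isGenericPtOfFibre [GeometricallyIrreducible q] (t : T) :
    ∃ η : X, q η = t ∧ FlatFun.IsGenericPtOfFibre q η := by
  refine ⟨q.fiberι t (genericPoint ↥(q.fiber t)), FlatDvr.fiberι_apply_eq q _, fun x' hx' => ?_⟩
  obtain ⟨w, rfl⟩ : x' ∈ Set.range (q.fiberι t) := by
    rw [Scheme.Hom.range_fiberι]
    exact hx'.trans (FlatDvr.fiberι_apply_eq q _)
  exact (genericPoint_specializes w).map (q.fiberι t).continuous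

theorem near_generalize {M : X.Modules} {p : ℕ} {η x : X} (h : η ⤳ x)
    (hx : FlatFun.IsFreeOfRankNear M p x) : FlatFun.IsFreeOfRankNear M p η :=
  hx.imp fun U hU => ⟨h.mem_open U.2 hU.1, hU.2⟩

/-- `FreeAtGenericPts` when all fibres are irreducible. -/
theorem freeAtGenericPts_iff [GeometricallyIrreducible q] {M : X.Modules} {p : ℕ} :
    FlatFun.FreeAtGenericPts q M p ↔ ∀ t : T, ∃ x : X, q x = t ∧ FlatFun.IsFreeOfRankNear M p x := by
  refine ⟨fun h t => (h t).imp fun x hx => ⟨hx.1, hx.2.2⟩, fun h t => ?_⟩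
  obtain ⟨η, hη, hgen⟩ := exists_isGenericPtOfFibre q t
  obtain ⟨x, hx, hnear⟩ := h t
  exact ⟨η, hη, hgen, near_generalize (hgen x (hx.trans hη.symm)) hnear⟩

/-- If the stalks at all generic points of fibres are free of rank `p`, then `M` is free of rank `p` near them. -/
theorem freeAtGenericPts_of_freeRankAt [Smooth q] [GeometricallyIrreducible q] {M : X.Modules}
    (hM : Coh.IsQCoh M) (hft : CohB1.IsFT M) {p : ℕ}
    (h : ∀ η : X, FlatFun.IsGenericPtOfFibre q η → FreeRankAt M p η) : FlatFun.FreeAtGenericPts q M p := by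
  classical
  intro t
  obtain ⟨η, hη, hgen⟩ := exists_isGenericPtOfFibre q t
  refine ⟨η, hη, hgen, ?_⟩
  obtain ⟨U, hU, hηU, -⟩ := exists_isAffineOpen_mem_and_subset (x := η) (U := ⊤) trivial
  haveI := QCoh.finite_of_isFT hM hft hU
  letI := QCoh.stalkAlg (X := X) hηU
  letI := QCoh.stalkModule M hηU
  haveI := QCoh.isScalarTower_stalk M hηU
  haveI := QCoh.isLocalization_stalk' hU hηU
  haveI := QCoh.isLocalizedModule_germLin hM hU hηU
  haveI : Module.Free (X.presheaf.stalk η) (M.presheaf.stalk η) := (h η hgen).1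
  haveI := QCoh.finite_stalk_of_isFT hM hft η
  let y := (hU.primeIdealOf ⟨η, hηU⟩).asIdeal
  let b := Module.finBasisOfFinrankEq (X.presheaf.stalk η) (M.presheaf.stalk η) (h η hgen).2
  choose mt hmt using fun i => IsLocalizedModule.surj y.primeCompl (QCoh.germLin M hηU) (b i)
  let φ : (Fin p → Γ(X, U)) →ₗ[Γ(X, U)] Γ(M, U) := Fintype.linearCombination Γ(X, U) fun i => (mt i).1
  have hgerm : ∀ n, ∃ a, ∃ s : y.primeCompl,
      s • QCoh.germLin M hηU n = QCoh.germLin M hηU (φ a) := by
    intro n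
    obtain ⟨⟨s, hs⟩, hc⟩ := IsLocalization.exist_integer_multiples_of_finset y.primeCompl
      (Finset.univ.image fun i => b.repr (QCoh.germLin M hηU n) i)
    choose c hc' using fun i : Fin p => hc (b.repr (QCoh.germLin M hηU n) i) (Finset.mem_image.mpr ⟨i, Finset.mem_univ _, rfl⟩)
    let t : y.primeCompl := ∏ i, (mt i).2
    choose d hd using fun i : Fin p => Finset.dvd_prod_of_mem (fun i => ((mt i).2 : Γ(X, U))) (Finset.mem_univ i)
    refine ⟨fun i => c i * d i, ⟨s, hs⟩ * t, ?_⟩
    simp only [φ, Fintype.linearCombination_apply, map_sum, map_smul, ← hmt, Submonoid.smul_def,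
      Submonoid.coe_mul, t, Submonoid.coe_finsetProd]
    conv_lhs => rw [← b.sum_repr (QCoh.germLin M hηU n), Finset.smul_sum]
    refine Finset.sum_congr rfl fun i _ => ?_
    rw [← algebraMap_smul (X.presheaf.stalk η) (c i * d i), ← algebraMap_smul (X.presheaf.stalk η) ((mt i).2 : Γ(X, U)),
      ← algebraMap_smul (X.presheaf.stalk η) (s * _), smul_smul, smul_smul, map_mul, map_mul, hc' i,
      Algebra.smul_def, hd i, map_mul]
    congr 1
    ring
  have hsurj : ∀ n, ∃ a, ∃ s : y.primeCompl, φ a = (s : Γ(X, U)) • n := fun n => by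
    obtain ⟨a, s, hs⟩ := hgerm n
    obtain ⟨u, hu⟩ := IsLocalizedModule.exists_of_eq (S := y.primeCompl) (f := QCoh.germLin M hηU)
      (show QCoh.germLin M hηU (φ a) = QCoh.germLin M hηU ((s : Γ(X, U)) • n) by rw [map_smul, ← hs]; rfl)
    refine ⟨(u : Γ(X, U)) • a, u * s, ?_⟩
    rw [map_smul, Submonoid.coe_mul, mul_smul]
    exact hu
  obtain ⟨S, hS⟩ := (Module.Finite.fg_top : (⊤ : Submodule Γ(X, U) Γ(M, U)).FG)
  choose a s has using hsurj
  let f : Γ(X, U) := ∏ n ∈ S, (s n : Γ(X, U))
  have hf : f ∈ y.primeCompl := prod_mem fun n _ => (s n).2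
  have hfn : ∀ n, f • n ∈ LinearMap.range φ := fun n => by
    have hn : n ∈ Submodule.span Γ(X, U) (S : Set Γ(M, U)) := hS ▸ trivial
    induction hn using Submodule.span_induction with
    | mem n hn =>
      obtain ⟨d, hd⟩ := Finset.dvd_prod_of_mem (fun n => (s n : Γ(X, U))) hn
      exact ⟨d • a n, by rw [map_smul, has, smul_smul, show f = _ from hd, mul_comm]⟩
    | zero => rw [smul_zero]; exact zero_mem _
    | add m n _ _ h1 h2 => rw [smul_add]; exact add_mem h1 h2
    | smul c n _ h1 => rw [smul_comm]; exact Submodule.smul_mem _ c h1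
  have hinj : ∀ c, φ c = 0 → ∃ k : ℕ, f ^ k • c = 0 := by
    intro c hc
    have key : ∀ x ∈ X.basicOpen f, ∀ i, ∀ hx : x ∈ U, X.presheaf.germ U x hx (c i) = 0 := by
      intro x hxf i hxU
      obtain ⟨η', hη', hgen'⟩ := exists_isGenericPtOfFibre q (q x)
      have hsp : η' ⤳ x := hgen' x hη'.symm
      have hη'f := hsp.mem_open (X.basicOpen f).2 hxf
      have hη'U := X.basicOpen_le f hη'f
      refine injective_stalkSpecializes_of_smooth q hsp hη' ?_
      rw [map_zero]
      refine (congr(($(X.presheaf.germ_stalkSpecializes hxU hsp)).hom (c i))).trans ?_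
      letI := QCoh.stalkAlg (X := X) hη'U
      letI := QCoh.stalkModule M hη'U
      haveI := QCoh.isScalarTower_stalk M hη'U
      haveI := QCoh.isLocalization_stalk' hU hη'U
      haveI := QCoh.isLocalizedModule_germLin hM hU hη'U
      haveI : Module.Free (X.presheaf.stalk η') (M.presheaf.stalk η') := (h η' hgen').1
      haveI := QCoh.finite_stalk_of_isFT hM hft η'
      let b' := Module.finBasisOfFinrankEq (X.presheaf.stalk η') (M.presheaf.stalk η') (h η' hgen').2
      let ψ : (Fin p → X.presheaf.stalk η') →ₗ[X.presheaf.stalk η'] M.presheaf.stalk η' :=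
        Fintype.linearCombination (X.presheaf.stalk η') fun i => QCoh.germLin M hη'U (mt i).1
      have hψ : ∀ a, ψ (fun i => algebraMap Γ(X, U) (X.presheaf.stalk η') (a i)) = QCoh.germLin M hη'U (φ a) := by
        intro a
        simp only [ψ, φ, Fintype.linearCombination_apply, map_sum, map_smul, algebraMap_smul]
      have hψs : Function.Surjective ψ := fun z => by
        obtain ⟨⟨n, u⟩, hu⟩ := IsLocalizedModule.surj (hU.primeIdealOf ⟨η', hη'U⟩).asIdeal.primeCompl
          (QCoh.germLin M hη'U) z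
        obtain ⟨a, ha⟩ := hfn n
        have hunit : IsUnit (algebraMap Γ(X, U) (X.presheaf.stalk η') (f * (u : Γ(X, U)))) :=
          IsLocalization.map_units (X.presheaf.stalk η') (⟨f, (QCoh.mem_basicOpen_iff_notMem hU hη'U f).1 hη'f⟩ * u)
        refine ⟨hunit.unit⁻¹.val • fun i => algebraMap Γ(X, U) (X.presheaf.stalk η') (a i), ?_⟩
        rw [map_smul, hψ, ha, map_smul, ← hu, Submonoid.smul_def, smul_smul,
          ← algebraMap_smul (X.presheaf.stalk η') (f * (u : Γ(X, U))) z, smul_smul, IsUnit.val_inv_mul, one_smul]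
      have hψi : Function.Injective ψ := by
        have := OrzechProperty.injective_of_surjective_endomorphism (b'.equivFun.toLinearMap ∘ₗ ψ)
          (b'.equivFun.surjective.comp hψs)
        exact (show Function.Injective (b'.equivFun ∘ ψ) from this).of_comp
      refine congrFun (hψi (a₁ := fun i => algebraMap Γ(X, U) (X.presheaf.stalk η') (c i)) (a₂ := 0) ?_) i
      rw [hψ, hc, map_zero, map_zero]
    haveI := hU.isLocalization_basicOpen f
    have hz : ∀ i, ∃ k : ℕ, f ^ k * c i = 0 := fun i => by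
      have : algebraMap Γ(X, U) Γ(X, X.basicOpen f) (c i) = 0 := by
        refine TopCat.Presheaf.section_ext X.sheaf _ _ _ fun x hx => ?_
        rw [map_zero]
        exact (X.presheaf.germ_res_apply (homOfLE (X.basicOpen_le f)) x hx (c i)).trans
          (key x hx i (X.basicOpen_le f hx))
      obtain ⟨⟨_, k, rfl⟩, hk⟩ := (IsLocalization.map_eq_zero_iff (Submonoid.powers f) _ _).mp this
      exact ⟨k, hk⟩
    choose k hk using hz
    refine ⟨∑ i, k i, funext fun i => ?_⟩
    obtain ⟨d, hd⟩ := Nat.exists_eq_add_of_le' (Finset.single_le_sum (f := k) (fun _ _ => Nat.zero_le _) (Finset.mem_univ i))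
    rw [Pi.smul_apply, smul_eq_mul, hd, pow_add, mul_assoc, hk, mul_zero, Pi.zero_apply]
  let Φ := LocalizedModule.map (Submonoid.powers f) φ
  have hΦ : Function.Bijective Φ := by
    refine ⟨(injective_iff_map_eq_zero _).2 fun z hz => ?_, fun z => ?_⟩
    · induction z using LocalizedModule.induction_on with
      | _ c u =>
        rw [show Φ (LocalizedModule.mk c u) = LocalizedModule.mk (φ c) u from LocalizedModule.map_mk _ _ _ _,
          ← LocalizedModule.zero_mk (1 : Submonoid.powers f), LocalizedModule.mk_eq] at hz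
        obtain ⟨⟨v, hv⟩, hv0⟩ := hz
        simp only [one_smul, smul_zero] at hv0
        obtain ⟨k, hk⟩ := hinj (v • c) (by rw [map_smul]; exact hv0)
        rw [← LocalizedModule.zero_mk (1 : Submonoid.powers f), LocalizedModule.mk_eq]
        exact ⟨⟨f ^ k, k, rfl⟩ * ⟨v, hv⟩, by rw [one_smul, smul_zero, smul_zero, mul_smul]; exact hk⟩
    · induction z using LocalizedModule.induction_on with
      | _ n u =>
        obtain ⟨a, ha⟩ := hfn n
        refine ⟨LocalizedModule.mk a ((⟨f, Submonoid.mem_powers f⟩ : Submonoid.powers f) * u), ?_⟩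
        rw [LocalizedModule.map_mk, ha]
        exact LocalizedModule.mk_cancel_common_left (⟨f, Submonoid.mem_powers f⟩ : Submonoid.powers f) u n
  have hfree : Module.Free (Localization.Away f) (LocalizedModule.Away f Γ(M, U)) := by
    haveI : Module.Free (Localization.Away f) (LocalizedModule.Away f (Fin p → Γ(X, U))) :=
      Module.free_of_isLocalizedModule (Submonoid.powers f) (LocalizedModule.mkLinearMap (Submonoid.powers f) _)
    exact Module.Free.of_equiv (LinearEquiv.ofBijective Φ hΦ)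
  obtain ⟨n, hn⟩ := QCoh.exists_free_nhd hM hU f hfree
  have hηf : η ∈ X.basicOpen f := (QCoh.mem_basicOpen_iff_notMem hU hηU f).2 hf
  obtain rfl : n = p := (freeRankAt_of_near hM ⟨_, hηf, hn⟩).2.symm.trans (h η hgen).2
  exact ⟨_, hηf, hn⟩

end Generic

end Groth.Agent.FlatFun4
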