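import Mathlib.AlgebraicGeometry.Morphisms.SchemeTheoreticallyDominant
import Mathlib.AlgebraicGeometry.Morphisms.ClosedImmersion
import Mathlib.AlgebraicGeometry.Morphisms.Separated
import Mathlib.AlgebraicGeometry.FunctionField
import Mathlib.AlgebraicGeometry.Sites.Fpqc
import Mathlib.AlgebraicGeometry.PullbackCarrier

/-! Generic fibres over integral schemes. -/

set_option linter.style.haveILetI false
set_option autoImplicit false
set_option backward.isDefEq.respectTransparency false
set_option backward.isDefEq.respectTransparency.types false

universe u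

open CategoryTheory CategoryTheory.Limits AlgebraicGeometry

namespace Groth.Agent.FlatFun4

variable {X' X : Scheme.{u}}

theorem subsingleton_spec_genericStalk (S : Scheme.{u}) [IsIntegral S] :
    Subsingleton ↥(Spec (S.presheaf.stalk (genericPoint S))) := by
  change Subsingleton (PrimeSpectrum (S.presheaf.stalk (genericPoint S)))
  have hf : IsField (S.presheaf.stalk (genericPoint S)) := Field.toIsField S.functionField
  letI := hf.toField
  infer_instance

theorem quasiCompact_fromSpecStalk_generic (S : Scheme.{u}) [IsIntegral S] :
    QuasiCompact (S.fromSpecStalk (genericPoint S)) := by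
  haveI := subsingleton_spec_genericStalk S
  exact ⟨fun _ _ _ => (Set.toFinite _).isCompact⟩

theorem sd_fromSpecStalk_generic (S : Scheme.{u}) [IsIntegral S] :
    IsSchemeTheoreticallyDominant (S.fromSpecStalk (genericPoint S)) := by
  haveI : IsDominant (S.fromSpecStalk (genericPoint S)) := by
    rw [isDominant_iff, DenseRange, dense_iff_closure_eq, Scheme.range_fromSpecStalk,
      Set.eq_univ_iff_forall]
    intro y
    exact ((genericPoint_spec S).specializes trivial : genericPoint S ⤳ y).mem_closed isClosed_closure
      (subset_closure specializes_rfl)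
  exact .of_isDominant _

/-- The generic fibre of a flat scheme over an integral scheme is schematically dominant. -/
theorem sd_genericFibre {S Y : Scheme.{u}} [IsIntegral S] (p : Y ⟶ S) [Flat p] :
    IsSchemeTheoreticallyDominant (pullback.fst p (S.fromSpecStalk (genericPoint S))) :=
  haveI := quasiCompact_fromSpecStalk_generic S
  haveI := sd_fromSpecStalk_generic S
  inferInstance

theorem eq_genericPoint_of_isField [IsIntegral X] (y : X) (h : IsField (X.presheaf.stalk y)) :
    y = genericPoint X := by
  haveI : Subsingleton ↥(Spec (X.presheaf.stalk y)) := by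
    change Subsingleton (PrimeSpectrum (X.presheaf.stalk y))
    letI := h.toField
    infer_instance
  obtain ⟨a, ha⟩ : y ∈ Set.range (X.fromSpecStalk y) := by
    rw [Scheme.range_fromSpecStalk]; exact specializes_rfl (x := y)
  obtain ⟨b, hb⟩ : genericPoint X ∈ Set.range (X.fromSpecStalk y) := by
    rw [Scheme.range_fromSpecStalk]; exact (genericPoint_spec X).specializes trivial
  rw [← ha, ← hb, Subsingleton.elim a b]

/-- A birational morphism of integral schemes has a single point over the generic point. -/
theorem eq_genericPoint_of_map_eq [IsIntegral X'] [IsIntegral X] (f : X' ⟶ X) [Surjective f]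
    (hK : IsIso (f.stalkMap (genericPoint X'))) (y : X') (hy : f y = genericPoint X) :
    y = genericPoint X' := by
  refine eq_genericPoint_of_isField y ?_
  have hg : genericPoint X' ⤳ y := (genericPoint_spec X').specializes trivial
  have hinj : Function.Injective (X'.presheaf.stalkSpecializes hg) := by
    rw [injective_iff_map_eq_zero]
    intro a ha
    obtain ⟨U, hyU, s, rfl⟩ := X'.presheaf.exists_germ_eq a
    rw [← ConcreteCategory.comp_apply, TopCat.Presheaf.germ_stalkSpecializes] at ha
    rw [(injective_iff_map_eq_zero _).mp (germ_injective_of_isIntegral X' (genericPoint X') (hg.mem_open U.2 hyU)) s ha,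
      map_zero]
  have hcomp := Scheme.Hom.stalkSpecializes_stalkMap f (genericPoint X') y hg
  have hsur : Function.Surjective (X'.presheaf.stalkSpecializes hg) := by
    have he : f y = f (genericPoint X') := by
      rw [hy]
      have h1 := ((genericPoint_spec X').image f.continuous)
      rw [Set.image_univ, f.surjective.range_eq, closure_univ] at h1
      exact ((genericPoint_spec X).eq h1)
    haveI : IsIso (X.presheaf.stalkSpecializes (hg.map f.continuous)) :=
      (X.presheaf.stalkCongr (Inseparable.of_eq he)).isIso_hom
    haveI := hK
    have hb : Function.Bijective (X.presheaf.stalkSpecializes (hg.map f.continuous) ≫ f.stalkMap (genericPoint X')) :=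
      ConcreteCategory.bijective_of_isIso _
    rw [hcomp] at hb
    exact Function.Surjective.of_comp (g := f.stalkMap y) (by exact hb.2)
  exact MulEquiv.isField (Field.toIsField X'.functionField)
    (RingEquiv.ofBijective (X'.presheaf.stalkSpecializes hg).hom ⟨hinj, hsur⟩).toMulEquiv

/-- The generic fibre of a birational morphism is the generic point. -/
theorem isPullback_generic [IsIntegral X'] [IsIntegral X] (f : X' ⟶ X) [Surjective f]
    (hK : IsIso (f.stalkMap (genericPoint X'))) :
    ∃ φ : Spec (X'.presheaf.stalk (genericPoint X')) ⟶ Spec (X.presheaf.stalk (genericPoint X)),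
      IsIso φ ∧ IsPullback (X'.fromSpecStalk (genericPoint X')) φ f (X.fromSpecStalk (genericPoint X)) := by
  let η' := genericPoint X'
  let η := genericPoint X
  have he : f η' = η := by
    have h1 := ((genericPoint_spec X').image f.continuous)
    rw [Set.image_univ, f.surjective.range_eq, closure_univ] at h1
    exact h1.eq (genericPoint_spec X)
  let e := X.presheaf.stalkCongr (Inseparable.of_eq he)
  haveI := hK
  let φ : Spec (X'.presheaf.stalk η') ⟶ Spec (X.presheaf.stalk η) :=
    Spec.map (e.inv ≫ f.stalkMap η')
  haveI : IsIso φ := by dsimp [φ]; infer_instance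
  have hfac : X'.fromSpecStalk η' ≫ f = φ ≫ X.fromSpecStalk η := by
    simp only [φ, e, Spec.map_comp, Category.assoc, TopCat.Presheaf.stalkCongr_inv,
      Scheme.SpecMap_stalkSpecializes_fromSpecStalk, Scheme.SpecMap_stalkMap_fromSpecStalk]
  refine ⟨φ, inferInstance, ?_⟩
  let P := pullback f (X.fromSpecStalk η)
  let c : Spec (X'.presheaf.stalk η') ⟶ P := pullback.lift (X'.fromSpecStalk η') φ hfac
  haveI : IsPreimmersion (c ≫ pullback.fst f (X.fromSpecStalk η)) := by
    simp only [c, pullback.lift_fst]; infer_instance
  haveI : IsPreimmersion c := IsPreimmersion.of_comp c (pullback.fst f (X.fromSpecStalk η))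
  haveI := subsingleton_spec_genericStalk X
  have hrange : ∀ p : P, pullback.fst f (X.fromSpecStalk η) p = η' := fun p => by
    refine eq_genericPoint_of_map_eq f hK _ ?_
    rw [← Scheme.Hom.comp_apply, pullback.condition, Scheme.Hom.comp_apply,
      Subsingleton.elim (pullback.snd f (X.fromSpecStalk η) p) (IsLocalRing.closedPoint _)]
    exact Scheme.fromSpecStalk_closedPoint
  have hsurj : Function.Surjective c := fun p => by
    refine ⟨IsLocalRing.closedPoint _, ?_⟩
    apply (pullback.fst f (X.fromSpecStalk η)).isEmbedding.injective
    rw [hrange p, ← Scheme.Hom.comp_apply]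
    simp only [c, pullback.lift_fst]
    exact Scheme.fromSpecStalk_closedPoint
  have hoe : Topology.IsOpenEmbedding c :=
    ⟨c.isEmbedding, by rw [hsurj.range_eq]; exact isOpen_univ⟩
  haveI : ∀ z, IsIso (c.stalkMap z) := fun z => by
    have hs := c.stalkMap_surjective z
    have h2 := (pullback.fst f (X.fromSpecStalk η)).stalkMap_surjective (c z)
    have hf : IsField (P.presheaf.stalk (c z)) := by
      have hsrc : IsField (X'.presheaf.stalk ((pullback.fst f (X.fromSpecStalk η)) (c z))) := by
        rw [hrange]; exact Field.toIsField X'.functionField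
      letI := hsrc.toField
      exact (RingEquiv.ofBijective ((pullback.fst f (X.fromSpecStalk η)).stalkMap (c z)).hom
        ⟨RingHom.injective _, h2⟩).symm.toMulEquiv.isField hsrc
    letI := hf.toField
    rw [ConcreteCategory.isIso_iff_bijective]
    exact ⟨RingHom.injective (c.stalkMap z).hom, hs⟩
  haveI := IsOpenImmersion.of_isIso_stalkMap c hoe
  haveI : Epi c.base := (TopCat.epi_iff_surjective _).mpr hsurj
  haveI := IsOpenImmersion.isIso c
  exact (IsPullback.of_hasPullback f (X.fromSpecStalk η)).of_iso (asIso c).symm (Iso.refl _) (Iso.refl _)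
    (Iso.refl _) (by simp [c, η', η]) (by simp [c, η', η]) (by simp [η', η]) (by simp [η', η])

/-- A flat, separated, surjective, birational morphism of integral schemes is a monomorphism. -/
theorem mono_of_flat_birational [IsIntegral X'] [IsIntegral X] (f : X' ⟶ X) [Surjective f] [IsSeparated f]
    [Flat f] (hK : IsIso (f.stalkMap (genericPoint X'))) : Mono f := by
  obtain ⟨φ, _, sq⟩ := isPullback_generic f hK
  set j := X'.fromSpecStalk (genericPoint X')
  set i := X.fromSpecStalk (genericPoint X)
  -- `f` pulled back along `j ≫ f`
  have sq1 : IsPullback j (𝟙 _) f (j ≫ f) := by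
    have h1 : IsPullback (𝟙 (Spec (X'.presheaf.stalk (genericPoint X')))) (𝟙 _) φ φ := IsKernelPair.id_of_mono φ
    have h2 := h1.paste_horiz sq
    rwa [Category.id_comp, ← sq.w] at h2
  have sqP : IsPullback (j ≫ pullback.diagonal f) (𝟙 _) (pullback.snd f f) j := by
    refine IsPullback.of_right (h₁₂ := pullback.fst f f) (h₂₂ := f) ?_ ?_ (IsPullback.of_hasPullback f f)
    · simp only [Category.assoc, pullback.diagonal_fst, Category.comp_id]
      exact sq1
    · simp
  have sq2 : IsPullback (j ≫ pullback.diagonal f) φ (pullback.snd f f ≫ f) i := by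
    have h := sqP.paste_vert sq
    rwa [Category.id_comp] at h
  haveI := quasiCompact_fromSpecStalk_generic X
  haveI := sd_fromSpecStalk_generic X
  haveI : IsSchemeTheoreticallyDominant (j ≫ pullback.diagonal f) := .of_isPullback sq2.flip
  rw [← pullback.isIso_diagonal_iff, IsClosedImmersion.isIso_iff_ker_eq_bot, ← le_bot_iff,
    ← (j ≫ pullback.diagonal f).ker_eq_bot]
  exact Scheme.Hom.le_ker_comp j (pullback.diagonal f)

theorem isIso_of_flat_birational [IsIntegral X'] [IsIntegral X] (f : X' ⟶ X) [Surjective f] [IsSeparated f]
    [Flat f] (hK : IsIso (f.stalkMap (genericPoint X')))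
    (h : IsAffineHom f ∨ LocallyOfFinitePresentation f) : IsIso f := by
  haveI := mono_of_flat_birational f hK
  haveI : EffectiveEpi f := by
    rcases h with h | h
    · haveI := h; infer_instance
    · haveI := h; infer_instance
  exact isIso_of_mono_of_strongEpi f

end Groth.Agent.FlatFun4
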