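import Mathlib

/-!
# Glueing two separated schemes along a closed graph
-/

set_option autoImplicit false
set_option linter.style.haveILetI false
set_option backward.isDefEq.respectTransparency false
set_option backward.isDefEq.respectTransparency.types false

universe u

open CategoryTheory CategoryTheory.Limits AlgebraicGeometry

namespace Groth.Agent.FlatFun4.GlueSep

variable {S W X₁ X₂ U : Scheme.{u}} (f : W ⟶ X₁) (g : W ⟶ X₂) [IsOpenImmersion f] [IsOpenImmersion g]

theorem isOpenImmersion_inl : IsOpenImmersion (pushout.inl f g) :=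
  inferInstanceAs (IsOpenImmersion (colimit.ι (span f g) WalkingSpan.left))

theorem isOpenImmersion_inr : IsOpenImmersion (pushout.inr f g) :=
  inferInstanceAs (IsOpenImmersion (colimit.ι (span f g) WalkingSpan.right))

theorem mem_range (y : ↥(pushout f g)) :
    y ∈ Set.range (pushout.inl f g) ∨ y ∈ Set.range (pushout.inr f g) := by
  obtain ⟨i, x, rfl⟩ := Scheme.IsLocallyDirected.ι_jointly_surjective (span f g) y
  obtain (_ | (_ | _)) := i
  · left
    refine ⟨f x, ?_⟩
    rw [← Scheme.Hom.comp_apply]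
    exact congr($(colimit.w (span f g) WalkingSpan.Hom.fst) x)
  · exact Or.inl ⟨x, rfl⟩
  · exact Or.inr ⟨x, rfl⟩

theorem exists_of_inl_eq_inr {a : X₁} {b : X₂} (h : pushout.inl f g a = pushout.inr f g b) :
    ∃ w, f w = a ∧ g w = b := by
  obtain ⟨k, fi, fj, x, hx, hy⟩ :=
    (Scheme.IsLocallyDirected.ι_eq_ι_iff (span f g) (i := WalkingSpan.left) (j := WalkingSpan.right)).1 h
  obtain (_ | (_ | _)) := k
  · obtain rfl := Subsingleton.elim fi WalkingSpan.Hom.fst
    obtain rfl := Subsingleton.elim fj WalkingSpan.Hom.snd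
    exact ⟨x, hx, hy⟩
  · rcases fj
  · rcases fi

/-- Separatedness of the glued scheme. -/
theorem isSeparated_desc (p₁ : X₁ ⟶ S) (p₂ : X₂ ⟶ S) [IsSeparated p₁] [IsSeparated p₂]
    (h : f ≫ p₁ = g ≫ p₂) (hc : IsClosed (Set.range (pullback.lift f g h))) :
    IsSeparated (pushout.desc p₁ p₂ h) := by
  haveI := isOpenImmersion_inl f g
  haveI := isOpenImmersion_inr f g
  let i₁ := pushout.inl f g
  let i₂ := pushout.inr f g
  let q := pushout.desc p₁ p₂ h
  have hq₁ : i₁ ≫ q = p₁ := pushout.inl_desc _ _ _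
  have hq₂ : i₂ ≫ q = p₂ := pushout.inr_desc _ _ _
  constructor
  refine IsClosedImmersion.of_isPreimmersion _ ?_
  let m₁₁ := pullback.map p₁ p₁ q q i₁ i₁ (𝟙 S) (by rw [hq₁, Category.comp_id]) (by rw [hq₁, Category.comp_id])
  let m₁₂ := pullback.map p₁ p₂ q q i₁ i₂ (𝟙 S) (by rw [hq₁, Category.comp_id]) (by rw [hq₂, Category.comp_id])
  let m₂₁ := pullback.map p₂ p₁ q q i₂ i₁ (𝟙 S) (by rw [hq₂, Category.comp_id]) (by rw [hq₁, Category.comp_id])
  let m₂₂ := pullback.map p₂ p₂ q q i₂ i₂ (𝟙 S) (by rw [hq₂, Category.comp_id]) (by rw [hq₂, Category.comp_id])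
  let D := Set.range (pullback.diagonal q)
  have hfst : ∀ y, pullback.fst q q (pullback.diagonal q y) = y := fun y => by
    rw [← Scheme.Hom.comp_apply, pullback.diagonal_fst]; rfl
  have hsnd : ∀ y, pullback.snd q q (pullback.diagonal q y) = y := fun y => by
    rw [← Scheme.Hom.comp_apply, pullback.diagonal_snd]; rfl
  -- diagonal blocks
  have h11 : m₁₁ ⁻¹' D = Set.range (pullback.diagonal p₁) := by
    have e : pullback.diagonal p₁ ≫ m₁₁ = i₁ ≫ pullback.diagonal q := by
      apply pullback.hom_ext <;> simp [m₁₁]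
    ext z
    constructor
    · rintro ⟨y, hy⟩
      refine ⟨pullback.fst p₁ p₁ z, m₁₁.isOpenEmbedding.injective ?_⟩
      rw [← Scheme.Hom.comp_apply, e, Scheme.Hom.comp_apply, ← hy]
      congr 1
      rw [← hfst y, hy, ← Scheme.Hom.comp_apply, ← Scheme.Hom.comp_apply]
      simp [m₁₁]
    · rintro ⟨x, rfl⟩
      exact ⟨i₁ x, by rw [← Scheme.Hom.comp_apply, ← e, Scheme.Hom.comp_apply]⟩
  have h22 : m₂₂ ⁻¹' D = Set.range (pullback.diagonal p₂) := by
    have e : pullback.diagonal p₂ ≫ m₂₂ = i₂ ≫ pullback.diagonal q := by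
      apply pullback.hom_ext <;> simp [m₂₂]
    ext z
    constructor
    · rintro ⟨y, hy⟩
      refine ⟨pullback.fst p₂ p₂ z, m₂₂.isOpenEmbedding.injective ?_⟩
      rw [← Scheme.Hom.comp_apply, e, Scheme.Hom.comp_apply, ← hy]
      congr 1
      rw [← hfst y, hy, ← Scheme.Hom.comp_apply, ← Scheme.Hom.comp_apply]
      simp [m₂₂]
    · rintro ⟨x, rfl⟩
      exact ⟨i₂ x, by rw [← Scheme.Hom.comp_apply, ← e, Scheme.Hom.comp_apply]⟩
  let Γ := pullback.lift f g h
  let Γ' := pullback.lift g f h.symm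
  have hc' : IsClosed (Set.range Γ') := by
    have e : Γ ≫ (pullbackSymmetry p₁ p₂).hom = Γ' := by
      apply pullback.hom_ext <;> simp [Γ, Γ']
    rw [← e, Scheme.Hom.comp_base, TopCat.coe_comp, Set.range_comp]
    exact (pullbackSymmetry p₁ p₂).hom.homeomorph.isClosedMap _ hc
  have hglue : f ≫ i₁ = g ≫ i₂ := pushout.condition
  have h12 : m₁₂ ⁻¹' D = Set.range Γ := by
    have e : Γ ≫ m₁₂ = (f ≫ i₁) ≫ pullback.diagonal q := by
      apply pullback.hom_ext
      · simp [m₁₂, Γ]
      · rw [Category.assoc, Category.assoc, pullback.diagonal_snd, Category.comp_id, hglue]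
        simp [m₁₂, Γ]
    ext z
    constructor
    · rintro ⟨y, hy⟩
      have ha : i₁ (pullback.fst p₁ p₂ z) = y := by
        rw [← hfst y, hy, ← Scheme.Hom.comp_apply, ← Scheme.Hom.comp_apply]
        simp [m₁₂]
      have hb : i₂ (pullback.snd p₁ p₂ z) = y := by
        rw [← hsnd y, hy, ← Scheme.Hom.comp_apply, ← Scheme.Hom.comp_apply]
        simp [m₁₂]
      obtain ⟨w, hw, -⟩ := exists_of_inl_eq_inr f g (ha.trans hb.symm)
      refine ⟨w, m₁₂.isOpenEmbedding.injective ?_⟩
      rw [← Scheme.Hom.comp_apply, e, Scheme.Hom.comp_apply, ← hy, Scheme.Hom.comp_apply, hw, ha]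
    · rintro ⟨x, rfl⟩
      exact ⟨(f ≫ i₁) x, by rw [← Scheme.Hom.comp_apply, ← e, Scheme.Hom.comp_apply]⟩
  have h21 : m₂₁ ⁻¹' D = Set.range Γ' := by
    have e : Γ' ≫ m₂₁ = (f ≫ i₁) ≫ pullback.diagonal q := by
      apply pullback.hom_ext
      · rw [Category.assoc, Category.assoc, pullback.diagonal_fst, Category.comp_id, hglue]
        simp [m₂₁, Γ']
      · simp [m₂₁, Γ']
    ext z
    constructor
    · rintro ⟨y, hy⟩
      have ha : i₁ (pullback.snd p₂ p₁ z) = y := by
        rw [← hsnd y, hy, ← Scheme.Hom.comp_apply, ← Scheme.Hom.comp_apply]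
        simp [m₂₁]
      have hb : i₂ (pullback.fst p₂ p₁ z) = y := by
        rw [← hfst y, hy, ← Scheme.Hom.comp_apply, ← Scheme.Hom.comp_apply]
        simp [m₂₁]
      obtain ⟨w, hw, -⟩ := exists_of_inl_eq_inr f g (ha.trans hb.symm)
      refine ⟨w, m₂₁.isOpenEmbedding.injective ?_⟩
      rw [← Scheme.Hom.comp_apply, e, Scheme.Hom.comp_apply, ← hy, Scheme.Hom.comp_apply, hw, ha]
    · rintro ⟨x, rfl⟩
      exact ⟨(f ≫ i₁) x, by rw [← Scheme.Hom.comp_apply, ← e, Scheme.Hom.comp_apply]⟩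
  have key : ∀ {Z : Scheme.{u}} (m : Z ⟶ pullback q q) [IsOpenImmersion m],
      IsClosed (m ⁻¹' D) → IsOpen (Dᶜ ∩ Set.range m) := fun m _ hm => by
    rw [Set.inter_comm, ← Set.image_preimage_eq_range_inter, Set.preimage_compl]
    exact m.isOpenEmbedding.isOpenMap _ hm.isOpen_compl
  rw [← isOpen_compl_iff]
  have hcov : Dᶜ = ((Dᶜ ∩ Set.range m₁₁) ∪ (Dᶜ ∩ Set.range m₁₂)) ∪
      ((Dᶜ ∩ Set.range m₂₁) ∪ (Dᶜ ∩ Set.range m₂₂)) := by
    ext z
    constructor
    · intro hz
      rcases mem_range f g (pullback.fst q q z) with ha | ha <;>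
        rcases mem_range f g (pullback.snd q q z) with hb | hb
      · exact Or.inl (Or.inl ⟨hz, by rw [Scheme.Pullback.range_map]; exact ⟨ha, hb⟩⟩)
      · exact Or.inl (Or.inr ⟨hz, by rw [Scheme.Pullback.range_map]; exact ⟨ha, hb⟩⟩)
      · exact Or.inr (Or.inl ⟨hz, by rw [Scheme.Pullback.range_map]; exact ⟨ha, hb⟩⟩)
      · exact Or.inr (Or.inr ⟨hz, by rw [Scheme.Pullback.range_map]; exact ⟨ha, hb⟩⟩)
    · rintro ((h | h) | (h | h)) <;> exact h.1
  show IsOpen Dᶜ
  rw [hcov]
  refine ((key m₁₁ ?_).union (key m₁₂ ?_)).union ((key m₂₁ ?_).union (key m₂₂ ?_))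
  · rw [h11]; exact (pullback.diagonal p₁).isClosedEmbedding.isClosed_range
  · rw [h12]; exact hc
  · rw [h21]; exact hc'
  · rw [h22]; exact (pullback.diagonal p₂).isClosedEmbedding.isClosed_range

theorem locallyOfFiniteType_desc (p₁ : X₁ ⟶ S) (p₂ : X₂ ⟶ S) [LocallyOfFiniteType p₁] [LocallyOfFiniteType p₂]
    (h : f ≫ p₁ = g ≫ p₂) : LocallyOfFiniteType (pushout.desc p₁ p₂ h) := by
  rw [IsZariskiLocalAtSource.iff_of_openCover (P := @LocallyOfFiniteType) (Scheme.IsLocallyDirected.openCover (span f g))]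
  intro i
  obtain (_ | (_ | _)) := i
  · show LocallyOfFiniteType (colimit.ι (span f g) WalkingSpan.zero ≫ pushout.desc p₁ p₂ h)
    rw [show colimit.ι (span f g) WalkingSpan.zero = f ≫ pushout.inl f g from
      (colimit.w (span f g) WalkingSpan.Hom.fst).symm, Category.assoc, pushout.inl_desc]
    infer_instance
  · show LocallyOfFiniteType (pushout.inl f g ≫ pushout.desc p₁ p₂ h)
    rw [pushout.inl_desc]; infer_instance
  · show LocallyOfFiniteType (pushout.inr f g ≫ pushout.desc p₁ p₂ h)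
    rw [pushout.inr_desc]; infer_instance

theorem compactSpace_pushout [CompactSpace X₁] [CompactSpace X₂] : CompactSpace ↥(pushout f g) := by
  constructor
  rw [show (Set.univ : Set ↥(pushout f g)) = Set.range (pushout.inl f g) ∪ Set.range (pushout.inr f g) from
    (Set.eq_univ_of_forall fun y => mem_range f g y).symm]
  exact (isCompact_range (pushout.inl f g).continuous).union (isCompact_range (pushout.inr f g).continuous)

/-- A map into the pushout dominant on both pieces is dominant. -/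
theorem isSchemeTheoreticallyDominant (j₁ : U ⟶ X₁) (j₂ : U ⟶ X₂) [IsSchemeTheoreticallyDominant j₁]
    [IsSchemeTheoreticallyDominant j₂] (hj : j₁ ≫ pushout.inl f g = j₂ ≫ pushout.inr f g) :
    IsSchemeTheoreticallyDominant (j₁ ≫ pushout.inl f g) := by
  haveI := isOpenImmersion_inl f g
  haveI := isOpenImmersion_inr f g
  set j := j₁ ≫ pushout.inl f g with hjd
  have piece : ∀ {Z : Scheme.{u}} (i : Z ⟶ pushout f g) (a : U ⟶ Z) [IsSchemeTheoreticallyDominant a],
      a ≫ i = j → IsIso (pullback.snd j.imageι i) := by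
    intro Z i a _ ha
    let b : U ⟶ pullback j.imageι i := pullback.lift j.toImage a (by rw [Scheme.Hom.toImage_imageι, ha])
    have hb : b ≫ pullback.snd j.imageι i = a := pullback.lift_snd _ _ _
    have hk : (pullback.snd j.imageι i).ker ≤ a.ker := by
      rw [← hb]; exact Scheme.Hom.le_ker_comp _ _
    rw [a.ker_eq_bot] at hk
    exact IsClosedImmersion.isIso_of_ker_eq (pullback.snd j.imageι i) (𝟙 Z) (pullback.snd j.imageι i)
      (Category.comp_id _) ((le_bot_iff.1 hk).trans (Scheme.Hom.ker_eq_bot (𝟙 Z)).symm)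
  haveI : IsIso j.imageι := by
    refine (IsZariskiLocalAtTarget.iff_of_openCover (P := MorphismProperty.isomorphisms Scheme.{u})
      (Scheme.IsLocallyDirected.openCover (span f g))).2 fun i => ?_
    have h1 := piece (pushout.inl f g) j₁ rfl
    have h2 := piece (pushout.inr f g) j₂ hj.symm
    obtain (_ | (_ | _)) := i
    · show IsIso (pullback.snd j.imageι (colimit.ι (span f g) WalkingSpan.zero))
      rw [show colimit.ι (span f g) WalkingSpan.zero = f ≫ pushout.inl f g from
        (colimit.w (span f g) WalkingSpan.Hom.fst).symm]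
      have hp := (IsPullback.of_hasPullback (pullback.snd j.imageι (pushout.inl f g)) f).paste_horiz
        (IsPullback.of_hasPullback j.imageι (pushout.inl f g))
      haveI := h1
      rw [← hp.isoPullback_inv_snd]
      infer_instance
    · exact h1
    · exact h2
  exact ⟨(Scheme.isIso_subschemeι_iff_eq_bot _).1 ‹IsIso j.imageι›⟩

end Groth.Agent.FlatFun4.GlueSep
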