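import Groth.Agent.FlatFun4.SchImage
import Groth.Agent.FlatFun4.GenericFibre
import Mathlib.AlgebraicGeometry.Morphisms.FlatDescent

/-! Extension of a morphism from the generic fibre and the closure of its graph. -/

set_option linter.style.haveILetI false
set_option autoImplicit false
set_option backward.isDefEq.respectTransparency false
set_option backward.isDefEq.respectTransparency.types false

universe u

open CategoryTheory CategoryTheory.Limits AlgebraicGeometry

namespace Groth.Agent.FlatFun4

variable {T Y Z : Scheme.{u}} [IsIntegral T] (pY : Y ⟶ T) (pZ : Z ⟶ T) [Flat pY] [IsSeparated pZ]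

theorem quasiCompact_genericFibre : QuasiCompact (pullback.fst pY (T.fromSpecStalk (genericPoint T))) :=
  haveI := quasiCompact_fromSpecStalk_generic T
  inferInstance

variable (ψ : pullback pY (T.fromSpecStalk (genericPoint T)) ⟶ Z)
    (hψ : ψ ≫ pZ = pullback.fst pY (T.fromSpecStalk (genericPoint T)) ≫ pY)
    (gr : pullback pY (T.fromSpecStalk (genericPoint T)) ⟶ pullback pY pZ)
    (hgr₁ : gr ≫ pullback.fst pY pZ = pullback.fst pY (T.fromSpecStalk (genericPoint T)))
    (hgr₂ : gr ≫ pullback.snd pY pZ = ψ)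

theorem isClosedImmersion_graph {A B : Scheme.{u}} (a : A ⟶ B) (pA : A ⟶ T) (q : B ⟶ T) [IsSeparated q]
    (h : a ≫ q = pA) :
    IsClosedImmersion (pullback.lift (𝟙 A) a (by rw [Category.id_comp, h]) : A ⟶ pullback pA q) := by
  haveI : IsClosedImmersion ((pullback.lift (𝟙 A) a (by rw [Category.id_comp, h]) : A ⟶ pullback pA q) ≫
      pullback.fst pA q) := by rw [pullback.lift_fst]; infer_instance
  exact IsClosedImmersion.of_comp _ (pullback.fst pA q)

include hgr₁ hgr₂ in
theorem quasiCompact_gr : QuasiCompact gr := by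
  haveI := quasiCompact_genericFibre pY
  haveI : QuasiCompact (gr ≫ pullback.fst pY pZ) := hgr₁ ▸ inferInstance
  exact QuasiCompact.of_comp gr (pullback.fst pY pZ)

include hgr₁ hgr₂ in
theorem exists_extension_iff :
    (∃ φ : Y ⟶ Z, φ ≫ pZ = pY ∧ pullback.fst pY (T.fromSpecStalk (genericPoint T)) ≫ φ = ψ) ↔
      IsIso (gr.imageι ≫ pullback.fst pY pZ) := by
  haveI := quasiCompact_gr pY pZ ψ gr hgr₁ hgr₂
  constructor
  · rintro ⟨φ, hφ, hφψ⟩
    haveI := isClosedImmersion_graph φ pY pZ hφ
    haveI := sd_genericFibre pY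
    haveI := sd_toImage gr
    obtain ⟨e, he, -⟩ := exists_iso_of_sd gr.toImage gr.imageι
      (pullback.fst pY (T.fromSpecStalk (genericPoint T)))
      (pullback.lift (𝟙 Y) φ ((Category.id_comp pY).trans hφ.symm) : Y ⟶ pullback pY pZ) (by
        rw [Scheme.Hom.toImage_imageι]
        apply pullback.hom_ext <;> simp [hgr₁, hgr₂, hφψ])
    rw [← he, Category.assoc, pullback.lift_fst, Category.comp_id]
    infer_instance
  · intro h
    refine ⟨inv (gr.imageι ≫ pullback.fst pY pZ) ≫ gr.imageι ≫ pullback.snd pY pZ, ?_, ?_⟩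
    · simp only [Category.assoc, ← pullback.condition, IsIso.inv_comp_eq]
    · have h1 : pullback.fst pY (T.fromSpecStalk (genericPoint T)) ≫ inv (gr.imageι ≫ pullback.fst pY pZ) =
          gr.toImage := by
        rw [IsIso.comp_inv_eq, Scheme.Hom.toImage_imageι_assoc, hgr₁]
      rw [reassoc_of% h1, Scheme.Hom.toImage_imageι_assoc, hgr₂]

include hψ in
theorem exists_extension_of_cover {T' : Scheme.{u}} (g : T' ⟶ T) [Flat g] [Surjective g] [QuasiCompact g]
    (φ' : pullback pY g ⟶ pullback pZ g) (hφ' : φ' ≫ pullback.snd pZ g = pullback.snd pY g)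
    (hagree : pullback.fst (pullback.fst pY g) (pullback.fst pY (T.fromSpecStalk (genericPoint T))) ≫ φ' ≫ pullback.fst pZ g =
      pullback.snd (pullback.fst pY g) (pullback.fst pY (T.fromSpecStalk (genericPoint T))) ≫ ψ) :
    ∃ φ : Y ⟶ Z, φ ≫ pZ = pY ∧ pullback.fst pY (T.fromSpecStalk (genericPoint T)) ≫ φ = ψ := by
  set fη := pullback.fst pY (T.fromSpecStalk (genericPoint T))
  set pr := pullback.fst pY g
  let gr : pullback pY (T.fromSpecStalk (genericPoint T)) ⟶ pullback pY pZ := pullback.lift fη ψ hψ.symm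
  have hgr₁ : gr ≫ pullback.fst pY pZ = fη := pullback.lift_fst _ _ _
  have hgr₂ : gr ≫ pullback.snd pY pZ = ψ := pullback.lift_snd _ _ _
  haveI := quasiCompact_gr pY pZ ψ gr hgr₁ hgr₂
  haveI : QuasiCompact fη := quasiCompact_genericFibre pY
  haveI : IsSchemeTheoreticallyDominant fη := sd_genericFibre pY
  haveI := sd_toImage gr
  refine (exists_extension_iff pY pZ ψ gr hgr₁ hgr₂).mpr ?_
  let m : pullback (pr ≫ pY) pZ ⟶ pullback pY pZ := pullback.map _ _ _ _ pr (𝟙 _) (𝟙 _) (by simp) (by simp)
  have hm : IsPullback m (pullback.fst (pr ≫ pY) pZ) (pullback.fst pY pZ) pr := by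
    refine IsPullback.of_right ?_ ?_ (IsPullback.of_hasPullback pY pZ).flip
    · simp only [m, pullback.map, pullback.lift_snd, Category.comp_id]
      exact (IsPullback.of_hasPullback (pr ≫ pY) pZ).flip
    · simp [m]
  haveI : Flat m := MorphismProperty.of_isPullback (P := @Flat) hm.flip inferInstance
  let i' := pullback.snd gr.imageι m
  haveI : Flat (pullback.fst gr.imageι m) := inferInstance
  let gr' : pullback pr fη ⟶ pullback (pr ≫ pY) pZ :=
    pullback.lift (pullback.fst pr fη) (pullback.snd pr fη ≫ ψ) (by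
      rw [← Category.assoc, pullback.condition, Category.assoc, Category.assoc, hψ])
  have sq1 : IsPullback (pullback.snd pr fη) gr' gr m := by
    refine IsPullback.of_bot ?_ ?_ hm
    · simp only [gr', pullback.lift_fst, hgr₁]
      exact (IsPullback.of_hasPullback pr fη).flip
    · apply pullback.hom_ext
      · simp [gr', gr, m, pullback.condition]
      · simp [gr', gr, m]
  let a : pullback pr fη ⟶ pullback gr.imageι m :=
    pullback.lift (pullback.snd pr fη ≫ gr.toImage) gr' (by
      rw [Category.assoc, Scheme.Hom.toImage_imageι]; exact sq1.w)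
  have sq2 : IsPullback (pullback.snd pr fη) a gr.toImage (pullback.fst gr.imageι m) := by
    refine IsPullback.of_bot ?_ (pullback.lift_fst _ _ _).symm (IsPullback.of_hasPullback gr.imageι m)
    rw [show a ≫ pullback.snd gr.imageι m = gr' from pullback.lift_snd _ _ _, Scheme.Hom.toImage_imageι]
    exact sq1
  haveI : IsSchemeTheoreticallyDominant a := .of_isPullback sq2.flip.flip
  have hlift : (φ' ≫ pullback.fst pZ g) ≫ pZ = pr ≫ pY := by
    rw [Category.assoc, pullback.condition, reassoc_of% hφ']
    exact pullback.condition.symm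
  haveI := isClosedImmersion_graph (φ' ≫ pullback.fst pZ g) (pr ≫ pY) pZ hlift
  haveI : IsSchemeTheoreticallyDominant (pullback.fst pr fη) := inferInstance
  obtain ⟨e, he, -⟩ := exists_iso_of_sd a i' (pullback.fst pr fη)
    (pullback.lift (𝟙 _) (φ' ≫ pullback.fst pZ g) ((Category.id_comp _).trans hlift.symm) :
      pullback pY g ⟶ pullback (pr ≫ pY) pZ) (by
      rw [show a ≫ i' = gr' from pullback.lift_snd _ _ _]
      apply pullback.hom_ext
      · simp [gr']
      · simp [gr', hagree])
  have sq3 : IsPullback (pullback.fst gr.imageι m) (i' ≫ pullback.fst (pr ≫ pY) pZ)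
      (gr.imageι ≫ pullback.fst pY pZ) pr := (IsPullback.of_hasPullback gr.imageι m).paste_vert hm
  have hiso : IsIso (i' ≫ pullback.fst (pr ≫ pY) pZ) := by
    rw [← he, Category.assoc, pullback.lift_fst, Category.comp_id]
    infer_instance
  exact MorphismProperty.of_isPullback_of_descendsAlong (P := MorphismProperty.isomorphisms Scheme.{u})
    (Q := @Surjective ⊓ @Flat ⊓ @QuasiCompact) sq3.flip ⟨⟨inferInstance, inferInstance⟩, inferInstance⟩ hiso

end Groth.Agent.FlatFun4
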