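import Groth.Agent.QCoh.Pullback
import Groth.Agent.QCoh.SpecFT
import Groth.Agent.QCoh.LocFree
import Groth.Agent.LimitsH94.LimLocFree
import Groth.Agent.KFlatLib.Perfect.LocFree
import Groth.Agent.QCoh.PullbackBC
import Groth.Agent.FlatFun4.FPPull

/-! Locally split monomorphisms of modules, tested on points. -/

set_option linter.style.haveILetI false
set_option autoImplicit false
set_option backward.isDefEq.respectTransparency false
set_option backward.isDefEq.respectTransparency.types false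

universe u

open CategoryTheory AlgebraicGeometry TensorProduct

namespace Groth.Agent.FlatFun4.LocSplit

/-- Split injective after a field point implies split injective near it. -/
theorem exists_split_away {A K M P : Type u} [CommRing A] [Field K] [Algebra A K] [AddCommGroup M] [Module A M]
    [AddCommGroup P] [Module A P] [Module.Finite A M] [Module.Finite A P] [Module.Projective A P] (φ : M →ₗ[A] P)
    (h : Function.Injective (φ.lTensor K)) :
    ∃ g : A, algebraMap A K g ≠ 0 ∧ ∀ (Ag : Type u) [CommRing Ag] [Algebra A Ag], IsUnit (algebraMap A Ag g) →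
      ∃ r : Ag ⊗[A] P →ₗ[Ag] Ag ⊗[A] M, r ∘ₗ φ.baseChange Ag = LinearMap.id := by
  classical
  let p : Ideal A := RingHom.ker (algebraMap A K)
  haveI : p.IsPrime := RingHom.ker_isPrime _
  let L := Localization.AtPrime p
  let k := IsLocalRing.ResidueField L
  have hu : ∀ a : p.primeCompl, IsUnit (algebraMap A K a) := fun a => isUnit_iff_ne_zero.2 a.2
  let lK : L →+* K := IsLocalization.lift hu
  have hmax : ∀ x ∈ IsLocalRing.maximalIdeal L, lK x = 0 := fun x hx => by
    obtain ⟨a, s, rfl⟩ := IsLocalization.exists_mk'_eq p.primeCompl x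
    rw [IsLocalization.AtPrime.mk'_mem_maximal_iff L p] at hx
    rw [IsLocalization.lift_mk'_spec, mul_zero]
    exact hx
  letI : Algebra k K := (Ideal.Quotient.lift _ lK hmax).toAlgebra
  haveI : IsScalarTower A k K := .of_algebraMap_eq fun a => (IsLocalization.lift_eq hu a).symm
  obtain ⟨ρ, hρ⟩ := (Algebra.linearMap k K).exists_leftInverse_of_injective
    (LinearMap.ker_eq_bot.2 (algebraMap k K).injective)
  let ι := (Algebra.linearMap k K).restrictScalars A
  have hρ' : (ρ.restrictScalars A).rTensor M ∘ₗ ι.rTensor M = LinearMap.id := by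
    rw [← LinearMap.rTensor_comp, show ρ.restrictScalars A ∘ₗ ι = LinearMap.id from
      LinearMap.ext fun x => LinearMap.congr_fun hρ x, LinearMap.rTensor_id]
  have hk : Function.Injective (φ.lTensor k) := by
    have e : ι.rTensor P ∘ₗ φ.lTensor k = φ.lTensor K ∘ₗ ι.rTensor M := by
      rw [LinearMap.rTensor_comp_lTensor, LinearMap.lTensor_comp_rTensor]
    refine Function.Injective.of_comp (f := ι.rTensor P) ?_
    rw [← LinearMap.coe_comp, e, LinearMap.coe_comp]
    exact h.comp (Function.HasLeftInverse.injective ⟨_, LinearMap.congr_fun hρ'⟩)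
  haveI : Module.Free L (L ⊗[A] P) := Module.free_of_flat_of_isLocalRing
  have hkL : Function.Injective ((φ.baseChange L).lTensor k) := by
    let cM := AlgebraTensorModule.cancelBaseChange A L k k M
    let cP := AlgebraTensorModule.cancelBaseChange A L k k P
    have hc : ∀ z, cP ((φ.baseChange L).lTensor k z) = φ.lTensor k (cM z) := fun z => by
      induction z with
      | zero => simp only [map_zero]
      | add a b ha hb => simp only [map_add, ha, hb]
      | tmul a y =>
        induction y with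
        | zero => simp only [tmul_zero, map_zero]
        | add a b ha hb => simp only [tmul_add, map_add, ha, hb]
        | tmul l m => simp [cM, cP]
    intro y y' hy
    have := congrArg cP hy
    rw [hc, hc] at this
    exact cM.injective (hk this)
  obtain ⟨r₀, hr₀⟩ := (IsLocalRing.split_injective_iff_lTensor_residueField_injective _).2 hkL
  haveI : Module.FinitePresentation A P := Module.finitePresentation_of_projective A P
  let iM : M →ₗ[A] L ⊗[A] M := TensorProduct.mk A L M 1
  haveI : IsLocalizedModule p.primeCompl iM :=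
    (isLocalizedModule_iff_isBaseChange p.primeCompl L iM).mpr (TensorProduct.isBaseChange A M L)
  obtain ⟨h', s, hs⟩ := Module.FinitePresentation.exists_lift_of_isLocalizedModule p.primeCompl iM
    ((r₀.restrictScalars A) ∘ₗ TensorProduct.mk A L P 1)
  have hcomp : iM ∘ₗ (h' ∘ₗ φ) = iM ∘ₗ ((s : A) • LinearMap.id) := by
    refine LinearMap.ext fun m => ?_
    rw [← LinearMap.comp_assoc, hs]
    show (s : A) • r₀ ((1 : L) ⊗ₜ φ m) = iM ((s : A) • m)
    rw [map_smul, ← LinearMap.baseChange_tmul, show r₀ (φ.baseChange L ((1 : L) ⊗ₜ m)) = (1 : L) ⊗ₜ m from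
      LinearMap.congr_fun hr₀ _]
    rfl
  obtain ⟨t, ht⟩ := Module.Finite.exists_smul_of_comp_eq_of_isLocalizedModule p.primeCompl iM _ _ hcomp
  refine ⟨(t * s : A), fun e => (t * s).2 (RingHom.mem_ker.2 e), fun Ag _ _ hug => ?_⟩
  obtain ⟨v, hv⟩ := hug.exists_left_inv
  refine ⟨v • ((t : A) • h').baseChange Ag, LinearMap.ext fun z => ?_⟩
  induction z with
  | zero => simp only [map_zero]
  | add a b ha hb => simp only [map_add, ha, hb]
  | tmul c m =>
    have e : (t : A) • h' (φ m) = (t * s : A) • m := by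
      rw [mul_smul]
      exact LinearMap.congr_fun ht m
    rw [LinearMap.comp_apply, LinearMap.baseChange_tmul, LinearMap.smul_apply, LinearMap.baseChange_tmul,
      LinearMap.smul_apply, e, TensorProduct.tmul_smul, ← algebraMap_smul Ag (t * s : A), ← mul_smul, hv, one_smul,
      LinearMap.id_apply]

section Pull

open QCoh in
theorem isFT_pull {X Y : Scheme.{u}} (f : Y ⟶ X) {M : X.Modules} (hM : Coh.IsQCoh M) (hft : CohB1.IsFT M) :
    CohB1.IsFT ((Scheme.Modules.pullback f).obj M) := by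
  let ι := {p : Y.affineOpens × X.affineOpens // (p.1.1 : Y.Opens) ≤ f ⁻¹ᵁ p.2.1}
  refine isFT_of_finite (isQCoh_pullback f hM) (fun i : ι => i.1.1.1) ?_ (fun i => i.1.1.2) fun i => ?_
  · exact top_le_iff.1 fun y _ => TopologicalSpace.Opens.mem_iSup.2 <| by
      obtain ⟨_, ⟨U, hU, rfl⟩, hxU, -⟩ :=
        X.isBasis_affineOpens.exists_subset_of_mem_open (Set.mem_univ (f y)) isOpen_univ
      obtain ⟨_, ⟨W, hW, rfl⟩, hyW, hWU⟩ :=
        Y.isBasis_affineOpens.exists_subset_of_mem_open (show y ∈ f ⁻¹ᵁ U from hxU) (f ⁻¹ᵁ U).2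
      exact ⟨⟨(⟨W, hW⟩, ⟨U, hU⟩), hWU⟩, hyW⟩
  · obtain ⟨⟨⟨W, hW⟩, ⟨U, hU⟩⟩, hWU⟩ := i
    let N := (Scheme.Modules.pullback f).obj M
    letI : Algebra Γ(X, U) Γ(Y, W) := (f.appLE U W hWU).hom.toAlgebra
    letI : Module Γ(X, U) Γ(N, W) := Module.compHom _ (f.appLE U W hWU).hom
    haveI : IsScalarTower Γ(X, U) Γ(Y, W) Γ(N, W) :=
      ⟨fun a b c => mul_smul ((f.appLE U W hWU).hom a) b c⟩
    haveI := finite_of_isFT hM hft hU
    let l : Γ(M, U) →ₗ[Γ(X, U)] Γ(N, W) :=
      { toFun := pullSec f M hWU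
        map_add' := pullSec_add f M hWU
        map_smul' := pullSec_smul f M hWU }
    exact Module.Finite.equiv
      (isBaseChange_pullback hU f hW hM hWU (fun r => rfl) l fun x => rfl).equiv

end Pull

section SM

variable {X : Scheme.{u}} {F V : X.Modules} (u : F ⟶ V)

/-- The pullback of `u` along `g` is a split monomorphism. -/
def SM {Y : Scheme.{u}} (g : Y ⟶ X) : Prop :=
  ∃ r : (Scheme.Modules.pullback g).obj V ⟶ (Scheme.Modules.pullback g).obj F,
    (Scheme.Modules.pullback g).map u ≫ r = 𝟙 _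

theorem split_of_natIso {C D : Type*} [Category C] [Category D] {G H : C ⥤ D} (e : G ≅ H) {a b : C} (w : a ⟶ b)
    (h : ∃ r, G.map w ≫ r = 𝟙 _) : ∃ r, H.map w ≫ r = 𝟙 _ := by
  obtain ⟨r, hr⟩ := h
  refine ⟨e.inv.app b ≫ r ≫ e.hom.app a, ?_⟩
  rw [e.inv.naturality_assoc, reassoc_of% hr, Iso.inv_hom_id_app]

theorem sm_comp_iff {Y Z : Scheme.{u}} (g : Y ⟶ X) (k : Z ⟶ Y) :
    SM u (k ≫ g) ↔ ∃ r, (Scheme.Modules.pullback k).map ((Scheme.Modules.pullback g).map u) ≫ r = 𝟙 _ :=
  ⟨fun h => split_of_natIso (Scheme.Modules.pullbackComp k g).symm u h,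
    fun h => split_of_natIso (Scheme.Modules.pullbackComp k g) u h⟩

variable {u}

theorem SM.comp {Y Z : Scheme.{u}} {g : Y ⟶ X} (h : SM u g) (k : Z ⟶ Y) : SM u (k ≫ g) := by
  obtain ⟨r, hr⟩ := h
  exact (sm_comp_iff u g k).2 ⟨(Scheme.Modules.pullback k).map r, by rw [← Functor.map_comp, hr, CategoryTheory.Functor.map_id]⟩

/-- Locally split mono pulls back. -/
theorem locSplit_pullback (h : ∀ x : X, ∃ U : X.Opens, x ∈ U ∧ SM u U.ι) {Y : Scheme.{u}} (g : Y ⟶ X) (y : Y) :
    ∃ U : Y.Opens, y ∈ U ∧ ∃ r, (Scheme.Modules.pullback U.ι).map ((Scheme.Modules.pullback g).map u) ≫ r = 𝟙 _ := by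
  obtain ⟨U, hy, hU⟩ := h (g y)
  refine ⟨g ⁻¹ᵁ U, hy, (sm_comp_iff u g _).1 ?_⟩
  rw [← morphismRestrict_ι]
  exact hU.comp _

variable (u)

/-- A field point with split pullback gives a split neighbourhood. -/
theorem exists_nhd_split (hF : Coh.IsQCoh F) (hFt : CohB1.IsFT F) (hV : FlatMod.IsFinLocFree V) {K : Type u} [Field K]
    (l : Spec (CommRingCat.of K) ⟶ X) (hl : SM u l) (x : X) (hx : ∀ a, l a = x) :
    ∃ U : X.Opens, x ∈ U ∧ SM u U.ι := by
  obtain ⟨W, hW, hxW, -⟩ := exists_isAffineOpen_mem_and_subset (x := x) (U := ⊤) trivial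
  have hrange : Set.range l ⊆ Set.range hW.fromSpec := by
    rintro _ ⟨a, rfl⟩
    rw [hW.range_fromSpec, hx]
    exact hxW
  let ψ : Γ(X, W) ⟶ CommRingCat.of K := Spec.preimage (IsOpenImmersion.lift hW.fromSpec l hrange)
  have hψ : Spec.map ψ ≫ hW.fromSpec = l := by rw [Spec.map_preimage, IsOpenImmersion.lift_fac]
  let F' := (Scheme.Modules.pullback hW.fromSpec).obj F
  let V' := (Scheme.Modules.pullback hW.fromSpec).obj V
  have hF' : Coh.IsQCoh F' := QCoh.isQCoh_pullback _ hF
  have hV' : FlatMod.IsFinLocFree V' := KFlatLib.isFinLocFree_pullback _ hV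
  let cF := (tilde.adjunction (R := Γ(X, W))).counit.app F'
  let cV := (tilde.adjunction (R := Γ(X, W))).counit.app V'
  haveI : IsIso cF := isIso_fromTildeΓ_iff.mpr (QCoh.isQCoh_spec_iff.mp hF')
  haveI : IsIso cV := isIso_fromTildeΓ_iff.mpr (QCoh.isQCoh_spec_iff.mp (QCoh.isQCoh_of_isFinLocFree hV'))
  let φ := moduleSpecΓFunctor.map ((Scheme.Modules.pullback hW.fromSpec).map u)
  have hφ : (tilde.functor _).map φ ≫ cV = cF ≫ (Scheme.Modules.pullback hW.fromSpec).map u :=
    (tilde.adjunction (R := Γ(X, W))).counit.naturality _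
  have hP := (QCoh.isFinLocFree_tilde_iff (moduleSpecΓFunctor.obj V')).1
    (LimitsH94.LM.isFinLocFree_of_iso (asIso cV).symm hV')
  haveI := hP.1
  haveI := hP.2
  haveI : Module.Finite Γ(X, W) (moduleSpecΓFunctor.obj F') :=
    (QCoh.isFT_iff_finite _ hF').1 (isFT_pull _ hF hFt)
  -- transfer between the sheaf map and the linear map
  have key : ∀ {B : CommRingCat.{u}} (g : Γ(X, W) ⟶ B),
      SM u (Spec.map g ≫ hW.fromSpec) ↔ ∃ r, (ModuleCat.extendScalars g.hom).map φ ≫ r = 𝟙 _ := fun g => by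
    rw [sm_comp_iff]
    let P := Scheme.Modules.pullback (Spec.map g)
    have hφ' : (Scheme.Modules.pullback hW.fromSpec).map u = inv cF ≫ (tilde.functor _).map φ ≫ cV := by
      rw [hφ, IsIso.inv_hom_id_assoc]
    constructor
    · rintro ⟨r, hr⟩
      obtain ⟨r', hr'⟩ := split_of_natIso (QCoh.tildePullbackIso g) φ ⟨P.map cV ≫ r ≫ P.map (inv cF), by
        show P.map ((tilde.functor _).map φ) ≫ _ = _
        rw [← P.map_comp_assoc, hφ, P.map_comp_assoc, reassoc_of% hr, ← P.map_comp, IsIso.hom_inv_id, CategoryTheory.Functor.map_id]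
        rfl⟩
      refine ⟨(tilde.functor _).preimage r', (tilde.functor _).map_injective ?_⟩
      rw [Functor.map_comp, Functor.map_preimage, CategoryTheory.Functor.map_id]
      exact hr'
    · rintro ⟨r, hr⟩
      obtain ⟨r', hr'⟩ := split_of_natIso (QCoh.tildePullbackIso g).symm φ ⟨(tilde.functor _).map r, by
        rw [Functor.comp_map, ← Functor.map_comp, hr, CategoryTheory.Functor.map_id]; rfl⟩
      refine ⟨P.map (inv cV) ≫ r' ≫ P.map cF, ?_⟩
      rw [hφ', P.map_comp, P.map_comp, Category.assoc, Category.assoc, ← P.map_comp_assoc cV, IsIso.hom_inv_id,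
        CategoryTheory.Functor.map_id, Category.id_comp]
      erw [reassoc_of% hr']
      rw [← P.map_comp, IsIso.inv_hom_id, CategoryTheory.Functor.map_id]
  rw [← hψ, key] at hl
  obtain ⟨r, hr⟩ := hl
  letI : Algebra Γ(X, W) K := ψ.hom.toAlgebra
  have hinj : Function.Injective (φ.hom.lTensor K) :=
    Function.HasLeftInverse.injective ⟨r.hom, fun z => LinearMap.congr_fun (congrArg ModuleCat.Hom.hom hr) z⟩
  obtain ⟨g, hg, hrg⟩ := exists_split_away φ.hom hinj
  refine ⟨X.basicOpen g, ?_, ?_⟩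
  · let a : Spec (CommRingCat.of K) := ⟨⊥, Ideal.isPrime_bot⟩
    rw [← hx a, ← hψ, Scheme.Hom.comp_apply]
    show Spec.map ψ a ∈ hW.fromSpec ⁻¹ᵁ X.basicOpen g
    rw [hW.fromSpec_preimage_basicOpen]
    exact fun h => hg h
  · let g' : Γ(X, W) ⟶ CommRingCat.of (Localization.Away g) := CommRingCat.ofHom (algebraMap _ _)
    have hgen : ∀ {B : CommRingCat.{u}} (g'' : Γ(X, W) ⟶ B), IsUnit (g''.hom g) →
        SM u (Spec.map g'' ≫ hW.fromSpec) := fun {B} g'' hu => by
      letI : Algebra Γ(X, W) B := g''.hom.toAlgebra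
      obtain ⟨rg, hrg⟩ := hrg B hu
      exact (key g'').2 ⟨ModuleCat.ofHom rg, ModuleCat.hom_ext hrg⟩
    have h1 : SM u (Spec.map g' ≫ hW.fromSpec) :=
      hgen g' (IsLocalization.Away.algebraMap_isUnit (S := Localization.Away g) g)
    have hr' : Set.range (X.basicOpen g).ι ⊆ Set.range (Spec.map g' ≫ hW.fromSpec) := by
      rw [Scheme.Opens.range_ι, Scheme.Hom.comp_base, TopCat.coe_comp, Set.range_comp]
      rw [show Set.range (Spec.map g') = _ from PrimeSpectrum.localization_away_comap_range (Localization.Away g) g,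
        ← hW.fromSpec_image_basicOpen g]
      rfl
    rw [← IsOpenImmersion.lift_fac (Spec.map g' ≫ hW.fromSpec) _ hr']
    exact h1.comp _

/-- Split near a point of a scheme over `X` gives split near its image. -/
theorem exists_nhd_split_of_pullback (hF : Coh.IsQCoh F) (hFt : CohB1.IsFT F) (hV : FlatMod.IsFinLocFree V)
    {Y : Scheme.{u}} (g : Y ⟶ X) (y : Y) {W : Y.Opens} (hy : y ∈ W)
    (h : ∃ r, (Scheme.Modules.pullback W.ι).map ((Scheme.Modules.pullback g).map u) ≫ r = 𝟙 _) :
    ∃ U : X.Opens, g y ∈ U ∧ SM u U.ι := by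
  have hW : SM u (W.ι ≫ g) := (sm_comp_iff u g _).2 h
  have hr : Set.range (Y.fromSpecResidueField y) ⊆ Set.range W.ι := by
    rw [Scheme.range_fromSpecResidueField, Scheme.Opens.range_ι]
    exact Set.singleton_subset_iff.2 hy
  refine exists_nhd_split u hF hFt hV (Y.fromSpecResidueField y ≫ g) ?_ (g y) fun a => ?_
  · rw [← IsOpenImmersion.lift_fac W.ι _ hr, Category.assoc]
    exact hW.comp _
  · rw [Scheme.Hom.comp_apply]
    exact congrArg g (Scheme.fromSpecResidueField_apply _ _)

end SM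

end Groth.Agent.FlatFun4.LocSplit
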