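import Groth.Agent.Synt29.Descent
import Groth.Agent.FlatLoc6.Supp
import Mathlib.RingTheory.TensorProduct.Quotient
import Mathlib.AlgebraicGeometry.Geometrically.Irreducible
import Mathlib.AlgebraicGeometry.Morphisms.Smooth
import Groth.Prelude.Def_FlatCA

/-! Base change of the ingredients of a one-step dévissage. -/

set_option linter.style.haveILetI false
set_option autoImplicit false
set_option backward.isDefEq.respectTransparency false
set_option backward.isDefEq.respectTransparency.types false

universe u

open TensorProduct CategoryTheory AlgebraicGeometry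

namespace Groth.Agent.FlatFun4.OneStepBC

/-- The dimension of the support is insensitive to the ground field. -/
theorem supportDim_tensor_field {k K A B : Type u} [Field k] [Field K] [Algebra k K] [CommRing A]
    [CommRing B] [Algebra k A] [Algebra.FiniteType k A] [Algebra K B] [Algebra A B] [Algebra k B]
    [IsScalarTower k A B] [IsScalarTower k K B] [Algebra.IsPushout k K A B]
    (M : Type u) [AddCommGroup M] [Module A M] [Module.Finite A M] [Nontrivial M] :
    Module.supportDim B (B ⊗[A] M) = Module.supportDim A M := by
  set I : Ideal A := Module.annihilator A M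
  have hs : Module.support B (B ⊗[A] M) = PrimeSpectrum.zeroLocus ((I.map (algebraMap A B) : Ideal B) : Set B) := by
    ext q
    rw [FlatLoc6.mem_support_tensor_iff, PrimeSpectrum.mem_zeroLocus, SetLike.coe_subset_coe,
      Ideal.map_le_iff_le_comap, Module.mem_support_iff_of_finite (R := A),
      and_iff_right (Module.mem_support_iff_of_finite.mpr (by
        rw [Module.annihilator_eq_bot.mpr inferInstance]; exact bot_le))]
    rfl
  have h1 : Module.supportDim B (B ⊗[A] M) = ringKrullDim (B ⧸ I.map (algebraMap A B)) := by
    rw [ringKrullDim_quotient, ← hs]; rfl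
  haveI : Nontrivial (A ⧸ I) := Ideal.Quotient.nontrivial_iff.mpr fun h => by
    obtain ⟨m, hm⟩ := exists_ne (0 : M)
    exact hm (by simpa using Module.mem_annihilator.mp (h ▸ Submodule.mem_top : (1 : A) ∈ I) m)
  rw [h1, Module.supportDim_eq_ringKrullDim_quotient_annihilator,
    ringKrullDim_eq_of_ringEquiv (((Algebra.TensorProduct.quotIdealMapEquivTensorQuot B I).toRingEquiv).trans
      (Algebra.IsPushout.cancelBaseChangeAlg k K A B (A ⧸ I)).toRingEquiv)]
  exact Synt29.ringKrullDim_tensor_field k K (A ⧸ I)

variable {R R' S S' C C' : Type u} [CommRing R] [CommRing R'] [CommRing S] [CommRing S'] [CommRing C]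
  [CommRing C'] [Algebra R R'] [Algebra R S] [Algebra R S'] [Algebra R' S'] [Algebra S S']
  [IsScalarTower R R' S'] [IsScalarTower R S S'] [Algebra.IsPushout R R' S S']
  [Algebra R C] [Algebra R C'] [Algebra R' C'] [Algebra C C'] [IsScalarTower R R' C']
  [IsScalarTower R C C'] [Algebra.IsPushout R R' C C']

/-- Pasting: the square of a base change of an algebra map is a pushout. -/
theorem isPushout_paste [Algebra S C] [IsScalarTower R S C] [Algebra S' C'] [IsScalarTower R' S' C']
    [Algebra S C'] [IsScalarTower S S' C'] [IsScalarTower S C C'] : Algebra.IsPushout S S' C C' := by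
  haveI : IsScalarTower R S C' := IsScalarTower.of_algebraMap_eq fun x => by
    rw [IsScalarTower.algebraMap_apply R C C', IsScalarTower.algebraMap_apply R S C,
      ← IsScalarTower.algebraMap_apply S C C']
  haveI : IsScalarTower R S' C' := IsScalarTower.of_algebraMap_eq fun x => by
    rw [IsScalarTower.algebraMap_apply R R' C', IsScalarTower.algebraMap_apply R' S' C',
      ← IsScalarTower.algebraMap_apply R R' S']
  haveI : Algebra.IsPushout R S R' S' := .symm inferInstance
  have h : Algebra.IsPushout R C R' C' := .symm inferInstance
  exact ((Algebra.IsPushout.comp_iff R S R' S').mp h).symm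

theorem surjective_algebraMap [Algebra S C] [IsScalarTower R S C] [Algebra S' C'] [IsScalarTower R' S' C']
    [Algebra S C'] [IsScalarTower S S' C'] [IsScalarTower S C C']
    (h : Function.Surjective (algebraMap S C)) : Function.Surjective (algebraMap S' C') := by
  haveI := isPushout_paste (R := R) (R' := R') (S := S) (S' := S') (C := C) (C' := C')
  intro y
  obtain ⟨z, rfl⟩ := (Algebra.IsPushout.equiv S S' C C').surjective y
  obtain ⟨w, rfl⟩ := Algebra.TensorProduct.includeLeft_surjective (R := S) (T := C) S S' h z
  exact ⟨w, (by simp [Algebra.IsPushout.equiv_tmul])⟩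

theorem finitePresentation [Algebra S C] [IsScalarTower R S C] [Algebra S' C'] [IsScalarTower R' S' C']
    [Algebra S C'] [IsScalarTower S S' C'] [IsScalarTower S C C']
    [Algebra.FinitePresentation S C] : Algebra.FinitePresentation S' C' := by
  haveI := isPushout_paste (R := R) (R' := R') (S := S) (S' := S') (C := C) (C' := C')
  exact Algebra.FinitePresentation.equiv (Algebra.IsPushout.equiv S S' C C')

theorem finite [Algebra S C] [IsScalarTower R S C] [Algebra S' C'] [IsScalarTower R' S' C']
    [Algebra S C'] [IsScalarTower S S' C'] [IsScalarTower S C C']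
    [Module.Finite S C] : Module.Finite S' C' := by
  haveI := isPushout_paste (R := R) (R' := R') (S := S) (S' := S') (C := C) (C' := C')
  exact Module.Finite.equiv (Algebra.IsPushout.equiv S S' C C').toLinearEquiv

/-- A module over a quotient, base changed, is also the base change over the bigger ring. -/
theorem isBaseChange_restrict [Algebra S C] [IsScalarTower R S C] [Algebra S' C'] [IsScalarTower R' S' C']
    [Algebra S C'] [IsScalarTower S S' C'] [IsScalarTower S C C']
    {G G' : Type u} [AddCommGroup G] [Module C G] [Module S G] [IsScalarTower S C G]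
    [AddCommGroup G'] [Module C' G'] [Module S' G'] [IsScalarTower S' C' G'] [Module C G']
    [IsScalarTower C C' G'] [Module S G'] [IsScalarTower S S' G'] [IsScalarTower S C G']
    (g : G →ₗ[C] G') (hg : IsBaseChange C' g) : IsBaseChange S' (g.restrictScalars S) := by
  haveI := isPushout_paste (R := R) (R' := R') (S := S) (S' := S') (C := C) (C' := C')
  refine IsBaseChange.of_equiv ((Algebra.IsPushout.cancelBaseChange S S' C C' G).symm ≪≫ₗ
    hg.equiv.restrictScalars S') fun x => ?_
  simp [hg.equiv_tmul]

theorem smoothRelDim {n : ℕ} (h : FlatCA.SmoothRelDim n R S) : FlatCA.SmoothRelDim n R' S' :=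
  haveI := smoothOfRelativeDimension_isStableUnderBaseChange.{u} n
  MorphismProperty.of_isPullback (isPullback_SpecMap_of_isPushout _ _ _ _
    (CommRingCat.isPushout_of_isPushout R R' S S')).flip h

theorem geomIrredFibres (h : FlatCA.GeomIrredFibres R S) : FlatCA.GeomIrredFibres R' S' :=
  MorphismProperty.of_isPullback (P := @GeometricallyIrreducible) (isPullback_SpecMap_of_isPushout _ _ _ _
    (CommRingCat.isPushout_of_isPushout R R' S S')).flip h

section Fibre

/-- The support of the fibre module does not change dimension along an extension of fibres. -/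
theorem supportDim_fibre_aux {k K A B : Type u} [Field k] [Field K] [CommRing A] [CommRing B]
    [Algebra R k] [Algebra R' K] [Algebra k A] [Algebra S A] [Algebra R A]
    [IsScalarTower R k A] [IsScalarTower R S A] [Algebra.IsPushout R k S A]
    [Algebra K B] [Algebra S' B] [Algebra R' B]
    [IsScalarTower R' K B] [IsScalarTower R' S' B] [Algebra.IsPushout R' K S' B]
    (j : k →+* K) (hj : ∀ r, j (algebraMap R k r) = algebraMap R' K (algebraMap R R' r))
    [Algebra.FiniteType k A]
    (N : Type u) [AddCommGroup N] [Module S N] [Module.Finite S N]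
    {N' : Type u} [AddCommGroup N'] [Module S' N'] [Module S N'] [IsScalarTower S S' N']
    (f : N →ₗ[S] N') (hf : IsBaseChange S' f) [Nontrivial (A ⊗[S] N)] :
    Module.supportDim B (B ⊗[S'] N') = Module.supportDim A (A ⊗[S] N) := by
  letI : Algebra k K := j.toAlgebra
  letI : Algebra R K := ((algebraMap R' K).comp (algebraMap R R')).toAlgebra
  haveI : IsScalarTower R R' K := IsScalarTower.of_algebraMap_eq fun _ => rfl
  haveI : IsScalarTower R k K := IsScalarTower.of_algebraMap_eq fun r => (hj r).symm
  letI : Algebra R B := ((algebraMap R' B).comp (algebraMap R R')).toAlgebra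
  haveI : IsScalarTower R R' B := IsScalarTower.of_algebraMap_eq fun _ => rfl
  letI : Algebra S B := ((algebraMap S' B).comp (algebraMap S S')).toAlgebra
  haveI : IsScalarTower S S' B := IsScalarTower.of_algebraMap_eq fun _ => rfl
  haveI : IsScalarTower R K B := IsScalarTower.of_algebraMap_eq fun r => by
    rw [IsScalarTower.algebraMap_apply R R' B, IsScalarTower.algebraMap_apply R' K B,
      ← IsScalarTower.algebraMap_apply R R' K]
  haveI : IsScalarTower R S B := IsScalarTower.of_algebraMap_eq fun r => by
    rw [IsScalarTower.algebraMap_apply R R' B, IsScalarTower.algebraMap_apply R' S' B,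
      ← IsScalarTower.algebraMap_apply R R' S', IsScalarTower.algebraMap_apply R S S']
    rfl
  haveI : IsScalarTower R S' B := IsScalarTower.of_algebraMap_eq fun r => by
    rw [IsScalarTower.algebraMap_apply R R' B, IsScalarTower.algebraMap_apply R' S' B,
      ← IsScalarTower.algebraMap_apply R R' S']
  letI : Algebra k B := ((algebraMap K B).comp (algebraMap k K)).toAlgebra
  haveI : IsScalarTower k K B := IsScalarTower.of_algebraMap_eq fun _ => rfl
  haveI : IsScalarTower R k B := IsScalarTower.of_algebraMap_eq fun r => by
    rw [IsScalarTower.algebraMap_apply R K B, IsScalarTower.algebraMap_apply R k K]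
    rfl
  haveI : Algebra.IsPushout R K S B := by
    haveI : Algebra.IsPushout R R' S S' := inferInstance
    exact (Algebra.IsPushout.comp_iff R R' S S').mpr inferInstance
  let φ : A →ₐ[R] B := Algebra.pushoutDesc A (IsScalarTower.toAlgHom R k B) (IsScalarTower.toAlgHom R S B)
    (fun _ _ => mul_comm _ _)
  letI : Algebra A B := φ.toRingHom.toAlgebra
  haveI : IsScalarTower k A B := IsScalarTower.of_algebraMap_eq fun x =>
    (Algebra.pushoutDesc_left (S' := A) (IsScalarTower.toAlgHom R k B) (IsScalarTower.toAlgHom R S B) _ x).symm
  haveI : IsScalarTower S A B := IsScalarTower.of_algebraMap_eq fun x =>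
    (Algebra.pushoutDesc_right (S' := A) (IsScalarTower.toAlgHom R k B) (IsScalarTower.toAlgHom R S B) _ x).symm
  haveI : IsScalarTower R A B := IsScalarTower.of_algebraMap_eq fun x => (φ.commutes x).symm
  haveI : Algebra.IsPushout k K A B :=
    (Algebra.IsPushout.comp_iff R k S A).mp inferInstance
  have e1 : B ⊗[S'] N' ≃ₗ[B] B ⊗[A] (A ⊗[S] N) :=
    (AlgebraTensorModule.congr (LinearEquiv.refl B B) hf.equiv.symm) ≪≫ₗ
      AlgebraTensorModule.cancelBaseChange S S' B B N ≪≫ₗ
      (AlgebraTensorModule.cancelBaseChange S A B B N).symm
  rw [Module.supportDim_eq_of_equiv e1]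
  exact supportDim_tensor_field (k := k) (K := K) (A ⊗[S] N)

end Fibre

end Groth.Agent.FlatFun4.OneStepBC
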