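import Groth.Agent.FlatFun4.UnivInjProj

/-! Purity of projective modules, and purity along base change. -/

set_option linter.style.haveILetI false
set_option autoImplicit false
set_option backward.isDefEq.respectTransparency false
set_option backward.isDefEq.respectTransparency.types false

universe u

open TensorProduct IsLocalRing

namespace Groth.Agent.FlatFun4.PurityProj

attribute [local instance] Algebra.TensorProduct.rightAlgebra

/-- The fibre module as a base change to the residue field. -/
noncomputable def fiberEquiv {A B : Type u} (N : Type u) [CommRing A] [CommRing B] [Algebra A B] [AddCommGroup N]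
    [Module B N] [Module A N] [IsScalarTower A B N] (p : Ideal A) [p.IsPrime] :
    FlatCA.fiberMod p B N ≃+ p.ResidueField ⊗[A] N :=
  haveI : Algebra.IsPushout A p.ResidueField B (p.Fiber B) := TensorProduct.isPushout
  (Algebra.IsPushout.cancelBaseChange A p.ResidueField B (p.Fiber B) N).toAddEquiv

theorem fiberEquiv_natural {A B N : Type u} [CommRing A] [CommRing B] [Algebra A B] [AddCommGroup N] [Module B N]
    [Module A N] [IsScalarTower A B N] (p : Ideal A) [p.IsPrime] (s : B) (x : FlatCA.fiberMod p B N) :
    fiberEquiv N p (s • x) =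
      ((LinearMap.lsmul B N s).restrictScalars A).lTensor p.ResidueField (fiberEquiv N p x) := by
  haveI : Algebra.IsPushout A p.ResidueField B (p.Fiber B) := TensorProduct.isPushout
  have key : ∀ y : p.ResidueField ⊗[A] N,
      s • (Algebra.IsPushout.cancelBaseChange A p.ResidueField B (p.Fiber B) N).symm y =
      (Algebra.IsPushout.cancelBaseChange A p.ResidueField B (p.Fiber B) N).symm
        (((LinearMap.lsmul B N s).restrictScalars A).lTensor p.ResidueField y) := fun y => by
    induction y with
    | zero => simp only [map_zero, smul_zero]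
    | add a b ha hb => simp only [map_add, smul_add, ha, hb]
    | tmul c n =>
      rw [LinearMap.lTensor_tmul, Algebra.IsPushout.cancelBaseChange_symm_tmul,
        Algebra.IsPushout.cancelBaseChange_symm_tmul]
      exact (TensorProduct.tmul_smul s _ n).symm
  have h := key (fiberEquiv N p x)
  rw [show (Algebra.IsPushout.cancelBaseChange A p.ResidueField B (p.Fiber B) N).symm (fiberEquiv N p x) = x from
    (fiberEquiv N p).symm_apply_apply x] at h
  exact (congrArg (fiberEquiv N p) h).trans ((fiberEquiv N p).apply_symm_apply _)

theorem univInj_smul {R S : Type u} [CommRing R] [IsLocalRing R] [CommRing S] [Algebra R S] (N : Type u)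
    [AddCommGroup N] [Module S N] [Module R N] [IsScalarTower R S N] [Module.Projective R N] (s : S)
    (hs : s ∈ FlatCA.nzdFiber R S N) : FlatCA.UnivInj R ((LinearMap.lsmul S N s).restrictScalars R) := by
  let v := (LinearMap.lsmul S N s).restrictScalars R
  let m := maximalIdeal R
  have h : Function.Injective (v.lTensor m.ResidueField) := (injective_iff_map_eq_zero _).2 fun z hz => by
    obtain ⟨x, rfl⟩ := (fiberEquiv (B := S) N m).surjective z
    rw [← fiberEquiv_natural, EmbeddingLike.map_eq_zero_iff] at hz
    rw [EmbeddingLike.map_eq_zero_iff]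
    exact (mem_nonZeroSMulDivisors_iff.1 hs) x hz
  let e : ResidueField R ≃ₗ[R] m.ResidueField :=
    LinearEquiv.ofBijective (IsScalarTower.toAlgHom R (R ⧸ m) m.ResidueField).toLinearMap
      (Ideal.bijective_algebraMap_quotient_residueField m)
  refine UnivInjProj.univInj_of_projective _ fun y y' hy => (LinearEquiv.rTensor N e).injective (h ?_)
  have hc : ∀ z, v.lTensor m.ResidueField (LinearEquiv.rTensor N e z) =
      LinearEquiv.rTensor N e (v.lTensor (ResidueField R) z) := fun z => by
    induction z with
    | zero => simp only [map_zero]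
    | add a b ha hb => simp only [map_add, ha, hb]
    | tmul a n => rfl
  rw [hc, hc, hy]

theorem eq_zero_of_lTensor {A A' B' N' : Type u} [CommRing A] [CommRing A'] [CommRing B'] [Algebra A' B']
    [AddCommGroup N'] [Module B' N'] [Module A' N'] [IsScalarTower A' B' N'] [Module.Projective A' N']
    (t' t : Ideal A') [t'.IsPrime] [t.IsPrime] (hle : t' ≤ t) (f : B') (s : A') (hs : s ∉ t)
    (hf : f - algebraMap A' B' s ∈ t.map (algebraMap A' B')) :
    Function.Injective (((LinearMap.lsmul B' N' f).restrictScalars A').lTensor t'.ResidueField) := by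
  let L := Localization.AtPrime t
  let v := (LinearMap.lsmul B' N' f).restrictScalars A'
  let w := v.baseChange L
  have hw : FlatCA.UnivInj L w := by
    refine UnivInjProj.univInj_of_projective w ?_
    have hk : ∀ z : ResidueField L ⊗[A'] N', v.lTensor (ResidueField L) z = algebraMap A' (ResidueField L) s • z := by
      intro z
      have hb : ∀ b ∈ t.map (algebraMap A' B'), ∀ (c : ResidueField L) (n : N'), c ⊗ₜ[A'] (b • n) = 0 := by
        intro b hb
        induction hb using Submodule.span_induction with
        | mem b hb =>
          obtain ⟨a, ha, rfl⟩ := hb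
          intro c n
          rw [algebraMap_smul, ← TensorProduct.smul_tmul, Algebra.smul_def,
            IsScalarTower.algebraMap_apply A' L (ResidueField L), ResidueField.algebraMap_eq,
            (residue_eq_zero_iff _).2 ((IsLocalization.AtPrime.to_map_mem_maximal_iff L t a _).2 ha), zero_mul, zero_tmul]
        | zero => intro c n; rw [zero_smul, tmul_zero]
        | add a b _ _ ha hb => intro c n; rw [add_smul, tmul_add, ha, hb, add_zero]
        | smul r b _ hb => intro c n; rw [smul_eq_mul, mul_comm, mul_smul]; exact hb c _
      induction z with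
      | zero => rw [map_zero, smul_zero]
      | add a b ha hb => rw [map_add, smul_add, ha, hb]
      | tmul c n =>
        rw [LinearMap.lTensor_tmul]
        show c ⊗ₜ[A'] (f • n) = _
        have h0 := hb _ hf c n
        rw [sub_smul, tmul_sub, sub_eq_zero, algebraMap_smul] at h0
        rw [h0, algebraMap_smul, TensorProduct.tmul_smul]
    let c := AlgebraTensorModule.cancelBaseChange A' L (ResidueField L) (ResidueField L) N'
    have hc : ∀ z, c (w.lTensor _ z) = v.lTensor _ (c z) := fun z => by
      induction z with
      | zero => simp only [map_zero]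
      | add a b ha hb => simp only [map_add, ha, hb]
      | tmul a y =>
        induction y with
        | zero => simp only [tmul_zero, map_zero]
        | add a b ha hb => simp only [tmul_add, map_add, ha, hb]
        | tmul l n => rfl
    refine fun y y' hy => c.injective ?_
    have h := congrArg c hy
    rw [hc, hc, hk, hk] at h
    refine (smul_right_injective _ ?_) h
    rw [IsScalarTower.algebraMap_apply A' L (ResidueField L), ResidueField.algebraMap_eq, ne_eq, residue_eq_zero_iff]
    exact fun h => hs ((IsLocalization.AtPrime.to_map_mem_maximal_iff L t s _).1 h)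
  have hu : ∀ a : t.primeCompl, IsUnit (algebraMap A' t'.ResidueField a) := fun a => by
    rw [isUnit_iff_ne_zero, ne_eq, Ideal.algebraMap_residueField_eq_zero]
    exact fun h => a.2 (hle h)
  letI : Algebra L t'.ResidueField := (IsLocalization.lift hu).toAlgebra
  haveI : IsScalarTower A' L t'.ResidueField := .of_algebraMap_eq fun a => (IsLocalization.lift_eq hu a).symm
  let c := AlgebraTensorModule.cancelBaseChange A' L t'.ResidueField t'.ResidueField N'
  have hc : ∀ z, c (w.lTensor _ z) = v.lTensor _ (c z) := fun z => by
    induction z with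
    | zero => simp only [map_zero]
    | add a b ha hb => simp only [map_add, ha, hb]
    | tmul a y =>
      induction y with
      | zero => simp only [tmul_zero, map_zero]
      | add a b ha hb => simp only [tmul_add, map_add, ha, hb]
      | tmul l n => rfl
  intro y y' hy
  obtain ⟨y, rfl⟩ := c.surjective y
  obtain ⟨y', rfl⟩ := c.surjective y'
  rw [← hc, ← hc] at hy
  rw [hw _ (c.injective hy)]

/-- A module projective over the base has no impurities. -/
theorem not_isImpurity {A B : Type u} [CommRing A] [CommRing B] [Algebra A B] (N : Type u) [AddCommGroup N] [Module B N]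
    [Module A N] [IsScalarTower A B N] [Module.Projective A N] (p : Ideal A) [p.IsPrime]
    {A' B' N' : Type u} [CommRing A'] [CommRing B'] [Algebra A A'] [Algebra B B'] [Algebra A' B'] [Algebra A B']
    [IsScalarTower A B B'] [IsScalarTower A A' B'] [AddCommGroup N'] [Module B' N'] [Module B N']
    [IsScalarTower B B' N'] [Module A' N'] [IsScalarTower A' B' N'] (g : N →ₗ[B] N') (t' t : Ideal A') [t'.IsPrime]
    [t.IsPrime] (P : Ideal B') [P.IsPrime] : ¬ FlatCA.IsImpurity A B N p A' B' N' g t' t P := by
  rintro ⟨hpush, hg, hle, -, -, hass, hno⟩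
  haveI := hpush
  haveI : Algebra.IsPushout A A' B B' := hpush.symm
  haveI : Module.Projective A' N' := Module.Projective.of_equiv
    ((Algebra.IsPushout.cancelBaseChange A A' B B' N).symm.trans (hg.equiv.restrictScalars A'))
  obtain ⟨f, hfP, s, hs, hfs⟩ : ∃ f ∈ P, ∃ s ∉ t, f - algebraMap A' B' s ∈ t.map (algebraMap A' B') := by
    by_contra! hcon
    have hdisj : Disjoint ((P ⊔ t.map (algebraMap A' B') : Ideal B') : Set B')
        (Algebra.algebraMapSubmonoid B' t.primeCompl : Set B') := by
      refine Set.disjoint_left.2 fun x hx hx' => ?_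
      obtain ⟨s, hs, rfl⟩ := hx'
      obtain ⟨f, hf, b, hb, hfb⟩ := Submodule.mem_sup.1 hx
      refine hcon f hf s hs ?_
      rw [show f - algebraMap A' B' s = -b by rw [← hfb, sub_add_cancel_left]]
      exact neg_mem hb
    obtain ⟨P', hP', hle', hdisj'⟩ := Ideal.exists_le_prime_disjoint _ _ hdisj
    refine hno P' (le_sup_left.trans hle') ⟨le_antisymm ?_ ?_⟩
    · exact Ideal.map_le_iff_le_comap.1 (le_sup_right.trans hle')
    · intro a ha
      by_contra hat
      exact Set.disjoint_left.1 hdisj' ha ⟨a, hat, rfl⟩
  obtain ⟨hPprime, x, hx⟩ := hass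
  have hfm : algebraMap B' (t'.Fiber B') f ∈ FlatCA.fiberIdeal t' P := Ideal.mem_map_of_mem _ hfP
  obtain ⟨n, hn⟩ : algebraMap B' (t'.Fiber B') f ∈
      ((⊥ : Submodule (t'.Fiber B') (FlatCA.fiberMod t' B' N')).colon {x}).radical := hx ▸ hfm
  have hann : algebraMap B' (t'.Fiber B') (f ^ n) • x = 0 := by
    rw [map_pow]
    exact (Submodule.mem_bot _).1 (Submodule.mem_colon_singleton.1 hn)
  haveI : IsScalarTower B' (t'.Fiber B') (FlatCA.fiberMod t' B' N') :=
    inferInstanceAs (IsScalarTower B' (t'.Fiber B') ((t'.Fiber B') ⊗[B'] N'))
  rw [algebraMap_smul] at hann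
  have : x = 0 := by
    refine (EmbeddingLike.map_eq_zero_iff (f := fiberEquiv N' t')).1 (eq_zero_of_lTensor (A := A) t' t hle (f ^ n) (s ^ n) (fun h => hs (Ideal.IsPrime.mem_of_pow_mem ‹t.IsPrime› n h))
      (by rw [map_pow]; exact Ideal.mem_of_dvd _ (sub_dvd_pow_sub_pow f _ n) hfs) ?_)
    rw [← fiberEquiv_natural, hann, map_zero, map_zero]
  rw [this] at hx
  refine (Ideal.IsPrime.ne_top (I := FlatCA.fiberIdeal t' P) ?_) ?_
  · exact hPprime
  rw [hx, Ideal.radical_eq_top, Submodule.colon_eq_top_iff_subset]
  simp

end Groth.Agent.FlatFun4.PurityProj
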