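import Groth.Agent.RGCore.WeakAssTensor
import Groth.Agent.AssPtX.Basic
import Groth.Agent.QCoh.Stalk
import Groth.Prelude.Def_MoreMor

/-! The relative assassin in terms of rings and fibre modules. -/

set_option linter.style.haveILetI false
set_option autoImplicit false
set_option backward.isDefEq.respectTransparency false
set_option backward.isDefEq.respectTransparency.types false

universe u

open AlgebraicGeometry CategoryTheory TensorProduct

namespace Groth.Agent.FlatFun4.RelAss

attribute [local instance] Algebra.TensorProduct.rightAlgebra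

section Algebra

variable {A B N : Type u} [CommRing A] [CommRing B] [Algebra A B] [AddCommGroup N] [Module B N] [Module A N]
  [IsScalarTower A B N]

theorem mem_weakAss_fiberMod_iff [Algebra.FiniteType A B] (p : Ideal A) [p.IsPrime] (q : Ideal B) [q.IsPrime]
    [q.LiesOver p] :
    q ∈ FlatCA.weakAss B (FlatCA.fiberMod p B N) ↔
      FlatCA.fiberIdeal p q ∈ associatedPrimes (p.Fiber B) (FlatCA.fiberMod p B N) := by
  rw [← RGCore.fibAss_iff_fiberIdeal p (N := N) q]
  constructor
  · intro h
    obtain ⟨y, hy⟩ := WeakAss.mem_weakAss_iff.1 h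
    have := AssFiber.isLocalizedModule_quotToFiber p (S := B) N
    obtain ⟨⟨m, s⟩, hm⟩ := IsLocalizedModule.surj (Algebra.algebraMapSubmonoid B p.primeCompl)
      (AssFiber.quotToFiber p (S := B) N) y
    obtain ⟨n, rfl⟩ := Submodule.Quotient.mk_surjective _ m
    have hm' : (s : B) • y = FlatCA.toFiberMod p (S := B) N n := hm
    have hinj := ((Module.End.isUnit_iff _).1
      (IsLocalizedModule.map_units (AssFiber.quotToFiber p (S := B) N) s)).1
    have hann : ∀ t : B, t ∈ WeakAss.annEl B y ↔ ∃ r ∉ p, r • t • n ∈ p • (⊤ : Submodule A N) := fun t => by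
      rw [← RGCore.annEl_toFiberMod, ← hm', WeakAss.mem_annEl, WeakAss.mem_annEl, smul_comm t]
      exact ⟨fun h => by rw [h, smul_zero], fun h => hinj (h.trans (map_zero _).symm)⟩
    refine RGCore.fibAss_of_minimal p q n (fun t r hr ht => hy.1.2 ((hann t).2 ⟨r, hr, ht⟩)) fun a ha => ?_
    obtain ⟨t, ht, k, htk⟩ := WeakAss.exists_mul_pow_mem hy ha
    exact ⟨k, t, ht, (hann _).1 htk⟩
  · intro h
    exact WeakAss.ass_subset_weakAss ((RGCore.fibAss_iff_mem_ass p q).1 h)

variable {O Nq : Type u} [CommRing O] [Algebra B O] [Algebra A O] [IsScalarTower A B O] [AddCommGroup Nq]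
  [Module O Nq] [Module B Nq] [IsScalarTower B O Nq]

omit [Module A N] [IsScalarTower A B N] in
theorem localized_pN_eq (p : Ideal A) [p.IsPrime] (q : Ideal B) [q.IsPrime] [IsLocalization.AtPrime O q]
    (g : N →ₗ[B] Nq) [IsLocalizedModule q.primeCompl g] :
    (AssFiber.pN p (S := B) N).localized' O q.primeCompl g =
      (p.map (algebraMap A O)) • (⊤ : Submodule O Nq) := by
  have hI : p.map (algebraMap A O) = (p.map (algebraMap A B)).map (algebraMap B O) := by
    rw [Ideal.map_map, ← IsScalarTower.algebraMap_eq]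
  refine le_antisymm ?_ (Submodule.smul_le.2 fun i hi y _ => ?_)
  · rintro _ ⟨m, hm, s, rfl⟩
    have hgm : g m ∈ (p.map (algebraMap A O)) • (⊤ : Submodule O Nq) := by
      induction hm using Submodule.smul_induction_on' with
      | smul b hb n _ =>
        rw [map_smul, ← algebraMap_smul O b (g n)]
        exact Submodule.smul_mem_smul (hI ▸ Ideal.mem_map_of_mem _ hb) Submodule.mem_top
      | add a _ b _ ha hb => rw [map_add]; exact add_mem ha hb
    have e : IsLocalizedModule.mk' g m s = IsLocalization.mk' O 1 s • g m := by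
      rw [← IsLocalizedModule.mk'_one q.primeCompl g m, IsLocalizedModule.mk'_smul_mk', one_smul, mul_one]
    rw [e]
    exact Submodule.smul_mem _ _ hgm
  · rw [hI] at hi
    revert y
    have hi' : i ∈ Submodule.span O (algebraMap B O '' (p.map (algebraMap A B) : Set B)) := hi
    induction hi' using Submodule.span_induction with
    | mem x hx =>
      obtain ⟨b, hb, rfl⟩ := hx
      intro y _
      obtain ⟨⟨m, s⟩, rfl⟩ := IsLocalizedModule.mk'_surjective q.primeCompl g y
      rw [algebraMap_smul, Function.uncurry_apply_pair, ← IsLocalizedModule.mk'_smul]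
      exact ⟨_, Submodule.smul_mem_smul hb Submodule.mem_top, s, rfl⟩
    | zero => intro y _; rw [zero_smul]; exact zero_mem _
    | add a b _ _ ha hb => intro y _; rw [add_smul]; exact add_mem (ha (by assumption) y Submodule.mem_top) (hb (by assumption) y Submodule.mem_top)
    | smul c a hamem ha => intro y _; rw [smul_eq_mul, mul_smul]; exact Submodule.smul_mem _ _ (ha hamem y Submodule.mem_top)

/-- Associated maximal ideal of the reduced stalk module, read on the fibre. -/
theorem isAssociatedPrime_maximal_iff [Algebra.FiniteType A B] (p : Ideal A) [p.IsPrime] (q : Ideal B) [q.IsPrime]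
    [q.LiesOver p] [IsLocalRing O] [IsLocalization.AtPrime O q] (g : N →ₗ[B] Nq) [IsLocalizedModule q.primeCompl g] :
    IsAssociatedPrime (IsLocalRing.maximalIdeal O) (Nq ⧸ (p.map (algebraMap A O) • (⊤ : Submodule O Nq))) ↔
      FlatCA.fiberIdeal p q ∈ associatedPrimes (p.Fiber B) (FlatCA.fiberMod p B N) := by
  rw [← localized_pN_eq p q g, ← mem_weakAss_fiberMod_iff p q]
  let K := (AssFiber.pN p (S := B) N).localized' O q.primeCompl g
  let l := (AssFiber.pN p (S := B) N).toLocalizedQuotient' O q.primeCompl g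
  have hW : Algebra.algebraMapSubmonoid B p.primeCompl ≤ q.primeCompl := by
    rintro _ ⟨r, hr, rfl⟩ hrq
    exact hr ((Ideal.mem_of_liesOver q p r).2 hrq)
  have := AssFiber.isLocalizedModule_quotToFiber p (S := B) N
  have hunits : ∀ w : Algebra.algebraMapSubmonoid B p.primeCompl,
      IsUnit (algebraMap B (Module.End B (Nq ⧸ K)) w) := fun w =>
    IsLocalizedModule.map_units l (⟨w, hW w.2⟩ : q.primeCompl)
  let h : FlatCA.fiberMod p B N →ₗ[B] (Nq ⧸ K) :=
    IsLocalizedModule.lift (Algebra.algebraMapSubmonoid B p.primeCompl) (AssFiber.quotToFiber p (S := B) N) l hunits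
  have hh : ∀ x, h (AssFiber.quotToFiber p (S := B) N x) = l x := fun x =>
    IsLocalizedModule.lift_apply _ _ _ hunits x
  haveI : IsLocalizedModule q.primeCompl h := by
    refine ⟨fun c => IsLocalizedModule.map_units l c, fun y => ?_, fun {a b} hab => ?_⟩
    · obtain ⟨⟨m, c⟩, hc⟩ := IsLocalizedModule.surj q.primeCompl l y
      exact ⟨⟨AssFiber.quotToFiber p (S := B) N m, c⟩, hc.trans (hh m).symm⟩
    · obtain ⟨⟨m, w⟩, hm⟩ := IsLocalizedModule.surj (Algebra.algebraMapSubmonoid B p.primeCompl)
        (AssFiber.quotToFiber p (S := B) N) a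
      obtain ⟨⟨m', w'⟩, hm'⟩ := IsLocalizedModule.surj (Algebra.algebraMapSubmonoid B p.primeCompl)
        (AssFiber.quotToFiber p (S := B) N) b
      replace hm : (w : B) • a = AssFiber.quotToFiber p (S := B) N m := hm
      replace hm' : (w' : B) • b = AssFiber.quotToFiber p (S := B) N m' := hm'
      have e : l ((w' : B) • m) = l ((w : B) • m') := by
        rw [map_smul l, map_smul l, ← hh, ← hh, ← hm, ← hm', map_smul h, map_smul h, hab, smul_comm]
      obtain ⟨⟨c, hc⟩, hce⟩ := IsLocalizedModule.exists_of_eq (S := q.primeCompl) e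
      refine ⟨⟨c * (w * w'), mul_mem hc (mul_mem (hW w.2) (hW w'.2))⟩, ?_⟩
      have hce' := congrArg (AssFiber.quotToFiber p (S := B) N) hce
      simp only [Submonoid.smul_def, map_smul, ← hm, ← hm', smul_smul] at hce' ⊢
      convert hce' using 2 <;> ring
  have hmap := WeakAss.mem_weakAss_iff_map q.primeCompl (R' := O) h (p := q)
    (Set.disjoint_left.2 fun _ h h' => h h')
  rw [IsLocalization.AtPrime.map_eq_maximalIdeal] at hmap
  rw [hmap, WeakAss.mem_weakAss_iff]
  constructor
  · rintro ⟨-, m, hm⟩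
    exact ⟨m, (AssPtX.radical_eq_maximalIdeal_iff _).1 (by rw [← AssPtX.colon_bot_singleton]; exact hm.symm)⟩
  · rintro ⟨m, hm⟩
    exact ⟨inferInstance, m, by rw [AssPtX.colon_bot_singleton]; exact ((AssPtX.radical_eq_maximalIdeal_iff _).2 hm).symm⟩

end Algebra

section Scheme

variable {X S : Scheme.{u}} (f : X ⟶ S) {F : X.Modules} {V : S.Opens} {U : X.Opens} {x : X}

/-- The relative assassin read in an affine chart. -/
theorem mem_relAss_iff [LocallyOfFiniteType f] (hF : Coh.IsQCoh F) (hV : IsAffineOpen V) (hU : IsAffineOpen U)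
    (hle : U ≤ f ⁻¹ᵁ V) (hx : x ∈ U) :
    x ∈ MoreMor.relAss f F ↔
      (letI := (f.appLE V U hle).hom.toAlgebra
       letI : Module Γ(S, V) Γ(F, U) := Module.compHom _ (f.appLE V U hle).hom
       haveI : IsScalarTower Γ(S, V) Γ(X, U) Γ(F, U) := .of_algebraMap_smul fun _ _ => rfl
       FlatCA.fiberIdeal ((hU.primeIdealOf ⟨x, hx⟩).asIdeal.under Γ(S, V)) (hU.primeIdealOf ⟨x, hx⟩).asIdeal ∈
        associatedPrimes (((hU.primeIdealOf ⟨x, hx⟩).asIdeal.under Γ(S, V)).Fiber Γ(X, U))
          (FlatCA.fiberMod ((hU.primeIdealOf ⟨x, hx⟩).asIdeal.under Γ(S, V)) Γ(X, U) Γ(F, U))) := by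
  letI := (f.appLE V U hle).hom.toAlgebra
  letI : Module Γ(S, V) Γ(F, U) := Module.compHom _ (f.appLE V U hle).hom
  haveI : IsScalarTower Γ(S, V) Γ(X, U) Γ(F, U) := .of_algebraMap_smul fun _ _ => rfl
  haveI : Algebra.FiniteType Γ(S, V) Γ(X, U) := f.finiteType_appLE hV hU hle
  letI := QCoh.stalkAlg (X := X) hx
  letI := QCoh.stalkModule F hx
  haveI := QCoh.isScalarTower_stalk F hx
  haveI := QCoh.isLocalization_stalk' hU hx
  haveI := QCoh.isLocalizedModule_germLin hF hU hx
  letI : Algebra Γ(S, V) (X.presheaf.stalk x) :=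
    ((algebraMap Γ(X, U) (X.presheaf.stalk x)).comp (algebraMap Γ(S, V) Γ(X, U))).toAlgebra
  haveI : IsScalarTower Γ(S, V) Γ(X, U) (X.presheaf.stalk x) := .of_algebraMap_eq fun _ => rfl
  rw [← isAssociatedPrime_maximal_iff _ _ (QCoh.germLin F hx) (O := X.presheaf.stalk x)]
  have e : ((hU.primeIdealOf ⟨x, hx⟩).asIdeal.under Γ(S, V)).map (algebraMap Γ(S, V) (X.presheaf.stalk x)) =
      Ideal.map (f.stalkMap x).hom (IsLocalRing.maximalIdeal (S.presheaf.stalk (f x))) := by
    letI := QCoh.stalkAlg (X := S) (hle hx)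
    haveI := QCoh.isLocalization_stalk' hV (hle hx)
    rw [← IsLocalization.AtPrime.map_eq_maximalIdeal (hV.primeIdealOf ⟨f x, hle hx⟩).asIdeal
      (S.presheaf.stalk (f x)), Ideal.map_map]
    congr 1
    · exact RingHom.ext fun a => ((Scheme.Hom.germ_stalkMap_apply f V x (hle hx) a).trans
        (X.presheaf.germ_res_apply (homOfLE hle) x hx _).symm).symm
    · exact congrArg PrimeSpectrum.asIdeal (IsAffineOpen.comap_primeIdealOf_appLE V hV U hU hle hx)
  rw [e]
  rfl

end Scheme

end Groth.Agent.FlatFun4.RelAss
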