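import Groth.Agent.FlatMor3.FibreBC
import Groth.Agent.FlatFun4.RelAss
import Groth.Agent.CAlgOdd.AssTensor

/-! Associated primes of fibre modules descend along base change. -/

set_option linter.style.haveILetI false
set_option autoImplicit false

universe u

open TensorProduct

namespace Groth.Agent.FlatFun4.RelAss

open FlatMor3

attribute [local instance] Algebra.TensorProduct.rightAlgebra

/-- An associated prime of a base changed fibre module lies over an associated prime. -/
theorem under_mem_associatedPrimes {R S R' S' M M' : Type u} [CommRing R] [CommRing S] [CommRing R']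
    [CommRing S'] [Algebra R S] [Algebra R R'] [Algebra S S'] [Algebra R' S'] [Algebra R S']
    [IsScalarTower R S S'] [IsScalarTower R R' S'] [Algebra.IsPushout R S R' S'] [Algebra.FiniteType R' S']
    [Algebra.FiniteType R S]
    [AddCommGroup M] [Module S M] [AddCommGroup M'] [Module S' M'] [Module S M'] [IsScalarTower S S' M']
    (h : M →ₗ[S] M') (hh : IsBaseChange S' h) (p : Ideal R) [p.IsPrime] (p' : Ideal R') [p'.IsPrime]
    [p'.LiesOver p] (Q : Ideal S') [Q.IsPrime] [Q.LiesOver p']
    (hQ : FlatCA.fiberIdeal p' Q ∈ associatedPrimes (p'.Fiber S') (FlatCA.fiberMod p' S' M')) :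
    FlatCA.fiberIdeal p (Q.comap (algebraMap S S')) ∈ associatedPrimes (p.Fiber S) (FlatCA.fiberMod p S M) := by
  let F := p.Fiber S
  let F' := p'.Fiber S'
  let k := p.ResidueField
  let k' := p'.ResidueField
  letI : Algebra k k' := (Ideal.ResidueField.mapₐ p p' (Algebra.ofId R R') Ideal.LiesOver.over).toRingHom.toAlgebra
  haveI : IsScalarTower R k k' := .of_algebraMap_eq fun r =>
    ((Ideal.ResidueField.mapₐ p p' (Algebra.ofId R R') Ideal.LiesOver.over).commutes r).symm
  letI : Algebra S F' := ((algebraMap S' F').comp (algebraMap S S')).toAlgebra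
  haveI : IsScalarTower S S' F' := .of_algebraMap_eq fun _ => rfl
  haveI : IsScalarTower k k' F' := inferInstance
  have hR : ∀ r, algebraMap R F' r = algebraMap S F' (algebraMap R S r) := fun r => by
    show algebraMap R F' r = algebraMap S' F' (algebraMap S S' (algebraMap R S r))
    rw [← IsScalarTower.algebraMap_apply R S S', IsScalarTower.algebraMap_apply R R' S',
      algebraMap_fiber_base, ← IsScalarTower.algebraMap_apply R R' k']
    rfl
  haveI : IsScalarTower R S F' := .of_algebraMap_eq hR
  haveI : IsScalarTower R k F' := .of_algebraMap_eq fun r => by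
    show algebraMap R F' r = algebraMap k' F' (algebraMap k k' (algebraMap R k r))
    rw [← IsScalarTower.algebraMap_apply R k k']
    rfl
  haveI : IsScalarTower R S' F' := IsScalarTower.of_algebraMap_eq fun r => by
    rw [hR, IsScalarTower.algebraMap_apply R S S']; rfl
  haveI : IsScalarTower R R' F' := IsScalarTower.of_algebraMap_eq fun r => by
    rw [IsScalarTower.algebraMap_apply R S' F', IsScalarTower.algebraMap_apply R R' S']
    exact algebraMap_fiber_base p' _
  haveI : IsScalarTower R k' F' := IsScalarTower.of_algebraMap_eq fun r => by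
    rw [IsScalarTower.algebraMap_apply R R' F', IsScalarTower.algebraMap_apply R R' k']; rfl
  haveI : IsScalarTower R' S' F' := IsScalarTower.of_algebraMap_eq fun r => (algebraMap_fiber_base p' r).symm
  let ψ : F →ₐ[R] F' := Algebra.TensorProduct.lift (IsScalarTower.toAlgHom R k F') (IsScalarTower.toAlgHom R S F')
    (fun _ _ => .all _ _)
  letI : Algebra F F' := ψ.toRingHom.toAlgebra
  haveI : IsScalarTower S F F' := .of_algebraMap_eq fun s => by
    show algebraMap S F' s = ψ ((1 : k) ⊗ₜ[R] s)
    exact ((Algebra.TensorProduct.lift_tmul _ _ _ _ _).trans (by simp)).symm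
  haveI : IsScalarTower k F F' := .of_algebraMap_eq fun c => by
    show algebraMap k F' c = ψ (c ⊗ₜ[R] (1 : S))
    refine ((Algebra.TensorProduct.lift_tmul _ _ _ _ _).trans ?_).symm
    rw [map_one, mul_one]
    rfl
  -- the module map
  let G := FlatCA.fiberMod p S M
  let G' := FlatCA.fiberMod p' S' M'
  haveI : IsScalarTower S F G := inferInstanceAs (IsScalarTower S F (F ⊗[S] M))
  haveI : IsScalarTower S' F' G' := inferInstanceAs (IsScalarTower S' F' (F' ⊗[S'] M'))
  let f : M →ₗ[S] G := FlatCA.toFiberMod p (S := S) M
  have hf : IsBaseChange F f := TensorProduct.isBaseChange S M F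
  let f' : M' →ₗ[S'] G' := FlatCA.toFiberMod p' (S := S') M'
  have hf' : IsBaseChange F' f' := TensorProduct.isBaseChange S' M' F'
  letI : Module F G' := Module.compHom G' (algebraMap F F')
  haveI : IsScalarTower F F' G' := IsScalarTower.of_algebraMap_smul fun _ _ => rfl
  letI : Module S G' := Module.compHom G' (algebraMap S F')
  haveI : IsScalarTower S F' G' := IsScalarTower.of_algebraMap_smul fun _ _ => rfl
  haveI : IsScalarTower S F G' := IsScalarTower.of_algebraMap_smul fun s z => by
    show algebraMap F F' (algebraMap S F s) • z = algebraMap S F' s • z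
    rw [← IsScalarTower.algebraMap_apply]
  haveI : IsScalarTower S S' G' := IsScalarTower.of_algebraMap_smul fun s z => by
    show algebraMap S S' s • z = algebraMap S F' s • z
    rw [← IsScalarTower.algebraMap_smul F' (algebraMap S S' s) z]; rfl
  let g : G →ₗ[F] G' := hf.lift ((f'.restrictScalars S).comp h)
  have hg : IsBaseChange F' g := by
    refine hf.of_comp ?_
    have : (g : G →ₗ[S] G') ∘ₗ f = (f'.restrictScalars S).comp h := hf.lift_comp _
    rw [this]
    exact hh.comp hf'
  -- faithful flatness of the map of fibres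
  haveI : Algebra.IsPushout R S k F := TensorProduct.isPushout'
  haveI : Algebra.IsPushout R' S' k' F' := TensorProduct.isPushout'
  haveI : Algebra.IsPushout R R' S S' := .symm inferInstance
  haveI : Algebra.IsPushout R' k' S' F' := .symm inferInstance
  haveI h1 : Algebra.IsPushout R k' S F' := (Algebra.IsPushout.comp_iff R R' S (S' := S') (T := k') (T' := F')).2 inferInstance
  haveI : Algebra.IsPushout R k S F := .symm inferInstance
  haveI h2 : Algebra.IsPushout k k' F F' := (Algebra.IsPushout.comp_iff R k S (S' := F) (T := k') (T' := F')).1 h1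
  haveI : Module.FaithfullyFlat F F' := by
    haveI : Module.FaithfullyFlat k k' := inferInstance
    haveI : Algebra.IsPushout k F k' F' := .symm inferInstance
    exact Module.FaithfullyFlat.of_linearEquiv F (F ⊗[k] k') (Algebra.IsPushout.equiv k F k' F').toLinearEquiv.symm
  haveI : IsNoetherianRing F := finiteType_fiber p
  let e : F' ⊗[F] G ≃ₗ[F'] G' := hg.equiv
  have hQ' : FlatCA.fiberIdeal p' Q ∈ associatedPrimes F' (F' ⊗[F] G) := LinearEquiv.isAssociatedPrime_iff e.symm |>.1 hQ
  rw [CAlgOdd.AssTensor.associatedPrimes_eq] at hQ'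
  obtain ⟨P, hP, hPQ⟩ := Set.mem_iUnion₂.1 hQ'
  haveI := hP.isPrime
  haveI := hPQ.isPrime
  have hover : (FlatCA.fiberIdeal p' Q).comap (algebraMap F F') = P := by
    obtain ⟨θ⟩ := CAlgOdd.AssTensor.exists_equiv (R := F) (S := F') F' P
    have h1 := CAlgOdd.AssTensor.mem_ass_of_mem (R := F) (S := F') F' (F ⧸ P) (θ.isAssociatedPrime_iff.1 hPQ)
    have hP' := associatedPrimes.eq_singleton_of_isPrimary ((Ideal.IsPrime.isPrimary (I := P)) ‹_›)
    exact (hP' ▸ h1 : _ ∈ ({P.radical} : Set _)).trans (Ideal.IsPrime.radical ‹_›)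
  have e2 : Q.comap (algebraMap S S') = P.comap (algebraMap S F) := by
    conv_lhs => rw [← comap_fiberIdeal_of_liesOver p' Q]
    rw [← hover, Ideal.comap_comap, Ideal.comap_comap]
    exact congrArg (fun φ => Ideal.comap φ (FlatCA.fiberIdeal p' Q))
      ((IsScalarTower.algebraMap_eq S S' F').symm.trans (IsScalarTower.algebraMap_eq S F F'))
  rw [e2, comap_fiberIdeal_of_prime]
  exact hP

end Groth.Agent.FlatFun4.RelAss
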