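import Groth.Agent.FlatFun4.RelAssSch
import Groth.Agent.QCoh.FlatOver
import Groth.Agent.QCoh.SpecFT
import Groth.Agent.SchTop.Closed
import Groth.Agent.RGCore.FlatAtPoint

/-! Flatness is tested on the relative assassin. -/

set_option linter.style.haveILetI false
set_option autoImplicit false
set_option backward.isDefEq.respectTransparency false
set_option backward.isDefEq.respectTransparency.types false

universe u

open AlgebraicGeometry CategoryTheory TensorProduct

namespace Groth.Agent.FlatFun4.RelAss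

variable {X S : Scheme.{u}} (f : X ⟶ S) {F : X.Modules}

theorem isFlatOverAt_iff_flatAt (hF : Coh.IsQCoh F) {V : S.Opens} (hV : IsAffineOpen V) {U : X.Opens}
    (hU : IsAffineOpen U) (hle : U ≤ f ⁻¹ᵁ V) {z : X} (hz : z ∈ U) :
    FlatMod.IsFlatOverAt f F z ↔
      (letI := (f.appLE V U hle).hom.toAlgebra
       letI : Module Γ(S, V) Γ(F, U) := Module.compHom _ (f.appLE V U hle).hom
       haveI : IsScalarTower Γ(S, V) Γ(X, U) Γ(F, U) := .of_algebraMap_smul fun _ _ => rfl
       FlatCA.FlatAt Γ(S, V) (hU.primeIdealOf ⟨z, hz⟩).asIdeal Γ(F, U)) := by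
  letI := (f.appLE V U hle).hom.toAlgebra
  letI : Module Γ(S, V) Γ(F, U) := Module.compHom _ (f.appLE V U hle).hom
  haveI : IsScalarTower Γ(S, V) Γ(X, U) Γ(F, U) := .of_algebraMap_smul fun _ _ => rfl
  rw [QCoh.isFlatOverAt_iff f hV hle hz]
  letI := QCoh.stalkAlg (X := X) hz
  letI := QCoh.stalkModule F hz
  haveI := QCoh.isLocalizedModule_germLin hF hU hz
  letI : Module Γ(S, V) (F.presheaf.stalk z) :=
    Module.compHom _ ((f.appLE V U hle) ≫ X.presheaf.germ U z hz).hom
  haveI : IsScalarTower Γ(S, V) Γ(X, U) (F.presheaf.stalk z) := .of_algebraMap_smul fun _ _ => rfl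
  exact Module.Flat.equiv_iff ((IsLocalizedModule.linearEquiv (hU.primeIdealOf ⟨z, hz⟩).asIdeal.primeCompl
    (QCoh.germLin F hz) (LocalizedModule.mkLinearMap _ Γ(F, U))).restrictScalars Γ(S, V))

/-- A non-flat point specialises a non-flat point of the relative assassin in the same fibre. -/
theorem exists_relAss_not_flat [LocallyOfFiniteType f] (hF : Coh.IsQCoh F) (hft : CohB1.IsFT F) {x : X}
    (h : ¬ FlatMod.IsFlatOverAt f F x) :
    ∃ y : X, y ⤳ x ∧ f y = f x ∧ y ∈ MoreMor.relAss f F ∧ ¬ FlatMod.IsFlatOverAt f F y := by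
  obtain ⟨V, hV, hsV, -⟩ := exists_isAffineOpen_mem_and_subset (x := f x) (U := ⊤) trivial
  obtain ⟨U, hU, hxU, hle⟩ := exists_isAffineOpen_mem_and_subset (x := x) (U := f ⁻¹ᵁ V) hsV
  letI := (f.appLE V U hle).hom.toAlgebra
  letI : Module Γ(S, V) Γ(F, U) := Module.compHom _ (f.appLE V U hle).hom
  haveI : IsScalarTower Γ(S, V) Γ(X, U) Γ(F, U) := .of_algebraMap_smul fun _ _ => rfl
  haveI : Algebra.FiniteType Γ(S, V) Γ(X, U) := f.finiteType_appLE hV hU hle
  haveI : Module.Finite Γ(X, U) Γ(F, U) := QCoh.finite_of_isFT hF hft hU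
  by_contra! hcon
  refine h ((isFlatOverAt_iff_flatAt f hF hV hU hle hxU).2 (RGCore.flatAt_of_assoc Γ(F, U)
    ((hU.primeIdealOf ⟨x, hxU⟩).asIdeal.under Γ(S, V)) (hU.primeIdealOf ⟨x, hxU⟩).asIdeal
    fun q' hq' hle' hover hass => ?_))
  obtain ⟨y, hy, hyq⟩ := QCoh.exists_point hU ⟨q', hq'⟩
  have hq : q' = (hU.primeIdealOf ⟨y, hy⟩).asIdeal := (congrArg PrimeSpectrum.asIdeal hyq).symm
  subst hq
  refine (isFlatOverAt_iff_flatAt f hF hV hU hle hy).1 (hcon y ?_ ?_ ?_)
  · exact (AssPtX.primeIdealOf_le_iff hU hy hxU).1 hle'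
  · refine eq_of_primeIdealOf_eq hV (hle hy) (hle hxU) ?_
    rw [← IsAffineOpen.comap_primeIdealOf_appLE V hV U hU hle hy,
      ← IsAffineOpen.comap_primeIdealOf_appLE V hV U hU hle hxU]
    exact hover.over.symm
  · exact (mem_relAss_iff f hF hV hU hle hy).2 (fiberAss_congr hover.over _ hass)

end Groth.Agent.FlatFun4.RelAss
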