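import Groth.Agent.FlatFun4.RelAssBC
import Groth.Agent.QCoh.PullbackBC
import Groth.Agent.QCoh.AnnIdeal

/-! The relative assassin under base change. -/

set_option linter.style.haveILetI false
set_option autoImplicit false
set_option backward.isDefEq.respectTransparency false
set_option backward.isDefEq.respectTransparency.types false

universe u

open AlgebraicGeometry CategoryTheory TensorProduct

namespace Groth.Agent.FlatFun4.RelAss

variable {X S X' S' : Scheme.{u}} {f : X ⟶ S} {f' : X' ⟶ S'} {g' : X' ⟶ X} {g : S' ⟶ S} {F : X.Modules}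

theorem eq_of_primeIdealOf_eq {Z : Scheme.{u}} {U : Z.Opens} (hU : IsAffineOpen U) {a b : Z} (ha : a ∈ U)
    (hb : b ∈ U) (h : (hU.primeIdealOf ⟨a, ha⟩).asIdeal = (hU.primeIdealOf ⟨b, hb⟩).asIdeal) : a = b := by
  exact (hU.fromSpec_primeIdealOf ⟨a, ha⟩).symm.trans
    ((congrArg hU.fromSpec (PrimeSpectrum.ext h)).trans (hU.fromSpec_primeIdealOf ⟨b, hb⟩))

theorem fiberAss_congr {A B N : Type u} [CommRing A] [CommRing B] [Algebra A B] [AddCommGroup N] [Module B N]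
    [Module A N] [IsScalarTower A B N] {p p' : Ideal A} [p.IsPrime] [p'.IsPrime] (e : p = p') (q : Ideal B)
    (h : FlatCA.fiberIdeal p q ∈ associatedPrimes (p.Fiber B) (FlatCA.fiberMod p B N)) :
    FlatCA.fiberIdeal p' q ∈ associatedPrimes (p'.Fiber B) (FlatCA.fiberMod p' B N) := by
  subst e
  exact h

theorem chart_baseChange [LocallyOfFiniteType f] (hc : IsPullback g' f' f g) (hF : Coh.IsQCoh F)
    {V : S.Opens} (hV : IsAffineOpen V) {U : X.Opens} (hU : IsAffineOpen U) (hUV : U ≤ f ⁻¹ᵁ V)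
    {V' : S'.Opens} (hV' : IsAffineOpen V') (hV'V : V' ≤ g ⁻¹ᵁ V) :
    (∀ x' ∈ g' ⁻¹ᵁ U ⊓ f' ⁻¹ᵁ V', x' ∈ MoreMor.relAss f' ((Scheme.Modules.pullback g').obj F) →
        g' x' ∈ MoreMor.relAss f F) ∧
    (∀ x ∈ U, x ∈ MoreMor.relAss f F → ∀ s' ∈ V', f x = g s' →
      ∃ x', g' x' = x ∧ f' x' = s' ∧ x' ∈ MoreMor.relAss f' ((Scheme.Modules.pullback g').obj F)) := by
  haveI : LocallyOfFiniteType f' := MorphismProperty.of_isPullback hc ‹_›
  let W : X'.Opens := g' ⁻¹ᵁ U ⊓ f' ⁻¹ᵁ V'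
  have hW : IsAffineOpen W := by
    haveI : IsAffine _ := hV
    haveI : IsAffine _ := hV'
    haveI : IsAffine _ := hU
    exact .of_isIso (Scheme.Hom.isPullback_resLE hc hV'V hUV (UY := W) rfl).isoPullback.hom
  have hWU : W ≤ g' ⁻¹ᵁ U := inf_le_left
  have hWV' : W ≤ f' ⁻¹ᵁ V' := inf_le_right
  have hpo := (isIso_pushoutSection_iff hc hV'V hUV (UY := W) rfl).mp
    (isIso_pushoutSection_of_isAffineOpen hc hV'V hUV rfl hV hV' hU)
  let F' := (Scheme.Modules.pullback g').obj F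
  have hF' : Coh.IsQCoh F' := QCoh.isQCoh_pullback g' hF
  letI : Algebra Γ(S, V) Γ(X, U) := (f.appLE V U hUV).hom.toAlgebra
  letI : Algebra Γ(S, V) Γ(S', V') := (g.appLE V V' hV'V).hom.toAlgebra
  letI : Algebra Γ(X, U) Γ(X', W) := (g'.appLE U W hWU).hom.toAlgebra
  letI : Algebra Γ(S', V') Γ(X', W) := (f'.appLE V' W hWV').hom.toAlgebra
  letI : Algebra Γ(S, V) Γ(X', W) := (f.appLE V U hUV ≫ g'.appLE U W hWU).hom.toAlgebra
  haveI : IsScalarTower Γ(S, V) Γ(X, U) Γ(X', W) := .of_algebraMap_eq fun _ => rfl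
  haveI : IsScalarTower Γ(S, V) Γ(S', V') Γ(X', W) := .of_algebraMap_eq fun r => congr($(hpo.w).hom r)
  haveI : Algebra.IsPushout Γ(S, V) Γ(S', V') Γ(X, U) Γ(X', W) := CommRingCat.isPushout_iff_isPushout.mp hpo.flip
  haveI : Algebra.IsPushout Γ(S, V) Γ(X, U) Γ(S', V') Γ(X', W) := Algebra.IsPushout.symm ‹_›
  haveI : Algebra.FiniteType Γ(S, V) Γ(X, U) := f.finiteType_appLE hV hU hUV
  haveI : Algebra.FiniteType Γ(S', V') Γ(X', W) := f'.finiteType_appLE hV' hW hWV'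
  letI : Module Γ(S, V) Γ(F, U) := Module.compHom _ (f.appLE V U hUV).hom
  haveI : IsScalarTower Γ(S, V) Γ(X, U) Γ(F, U) := .of_algebraMap_smul fun _ _ => rfl
  letI : Module Γ(S', V') Γ(F', W) := Module.compHom _ (f'.appLE V' W hWV').hom
  haveI : IsScalarTower Γ(S', V') Γ(X', W) Γ(F', W) := .of_algebraMap_smul fun _ _ => rfl
  letI : Module Γ(X, U) Γ(F', W) := Module.compHom _ (g'.appLE U W hWU).hom
  haveI : IsScalarTower Γ(X, U) Γ(X', W) Γ(F', W) := .of_algebraMap_smul fun _ _ => rfl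
  let l : Γ(F, U) →ₗ[Γ(X, U)] Γ(F', W) :=
    { toFun := QCoh.pullSec g' F hWU
      map_add' := QCoh.pullSec_add g' F hWU
      map_smul' := QCoh.pullSec_smul g' F hWU }
  have hl : IsBaseChange Γ(X', W) l := QCoh.isBaseChange_pullback hU g' hW hF hWU (fun r => rfl) l fun x => rfl
  have hover : ∀ x' (hx' : x' ∈ W) (x : X) (hxU : x ∈ U) (s' : S') (hs' : s' ∈ V'),
      f x = g s' →
      (hV'.primeIdealOf ⟨s', hs'⟩).asIdeal.LiesOver ((hU.primeIdealOf ⟨x, hxU⟩).asIdeal.under Γ(S, V)) := by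
    intro x' hx' x hxU s' hs' hfg
    refine ⟨?_⟩
    have h1 := congrArg PrimeSpectrum.asIdeal (IsAffineOpen.comap_primeIdealOf_appLE V hV U hU hUV hxU)
    have h2 := congrArg PrimeSpectrum.asIdeal (IsAffineOpen.comap_primeIdealOf_appLE V hV V' hV' hV'V hs')
    refine h1.trans (Eq.trans ?_ h2.symm)
    congr 2
    exact Subtype.ext hfg
  constructor
  · intro x' hx' h
    have h' := (mem_relAss_iff f' hF' hV' hW hWV' hx').1 h
    refine (mem_relAss_iff f hF hV hU hUV hx'.1).2 ?_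
    have hc' : (hW.primeIdealOf ⟨x', hx'⟩).asIdeal.comap (algebraMap Γ(X, U) Γ(X', W)) =
        (hU.primeIdealOf ⟨g' x', hx'.1⟩).asIdeal :=
      congrArg PrimeSpectrum.asIdeal (IsAffineOpen.comap_primeIdealOf_appLE U hU W hW hWU hx')
    haveI : ((hW.primeIdealOf ⟨x', hx'⟩).asIdeal.under Γ(S', V')).LiesOver
        ((hU.primeIdealOf ⟨g' x', hx'.1⟩).asIdeal.under Γ(S, V)) := ⟨by
      rw [← hc', Ideal.under, Ideal.under, Ideal.under, Ideal.comap_comap, Ideal.comap_comap,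
        ← IsScalarTower.algebraMap_eq, ← IsScalarTower.algebraMap_eq]⟩
    have := under_mem_associatedPrimes l hl ((hU.primeIdealOf ⟨g' x', hx'.1⟩).asIdeal.under Γ(S, V))
      ((hW.primeIdealOf ⟨x', hx'⟩).asIdeal.under Γ(S', V')) (hW.primeIdealOf ⟨x', hx'⟩).asIdeal h'
    rw [hc'] at this
    exact this
  · intro x hxU hx s' hs' hfg
    have h := (mem_relAss_iff f hF hV hU hUV hxU).1 hx
    obtain ⟨x₀, hx₀, hx₀'⟩ := Scheme.Pullback.exists_preimage_pullback (f := f) (g := g) x s' hfg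
    have hz : (hc.isoPullback.inv x₀) ∈ W := by
      refine ⟨?_, ?_⟩
      · show g' _ ∈ U
        rw [← Scheme.Hom.comp_apply, hc.isoPullback_inv_fst, hx₀]
        exact hxU
      · show f' _ ∈ V'
        rw [← Scheme.Hom.comp_apply, hc.isoPullback_inv_snd, hx₀']
        exact hs'
    haveI := hover _ hz x hxU s' hs' hfg
    obtain ⟨Q, hQ, hQs, hQx, hQass⟩ := FlatMor3.exists_fiber_associatedPrime_baseChange l hl
      ((hU.primeIdealOf ⟨x, hxU⟩).asIdeal.under Γ(S, V)) (hV'.primeIdealOf ⟨s', hs'⟩).asIdeal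
      (hU.primeIdealOf ⟨x, hxU⟩).asIdeal h
    obtain ⟨x', hx', hQ'⟩ := QCoh.exists_point hW ⟨Q, hQ⟩
    have hQ'' : Q = (hW.primeIdealOf ⟨x', hx'⟩).asIdeal := (congrArg PrimeSpectrum.asIdeal hQ').symm
    subst hQ''
    refine ⟨x', eq_of_primeIdealOf_eq hU hx'.1 hxU ?_, eq_of_primeIdealOf_eq hV' hx'.2 hs' ?_, ?_⟩
    · rw [← hQx]
      exact (congrArg PrimeSpectrum.asIdeal (IsAffineOpen.comap_primeIdealOf_appLE U hU W hW hWU hx')).symm
    · exact ((congrArg PrimeSpectrum.asIdeal (IsAffineOpen.comap_primeIdealOf_appLE V' hV' W hW hWV' hx')).symm).trans hQs.over.symm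
    · refine (mem_relAss_iff f' hF' hV' hW hWV' hx').2 ?_
      have e : (hW.primeIdealOf ⟨x', hx'⟩).asIdeal.under Γ(S', V') = (hV'.primeIdealOf ⟨s', hs'⟩).asIdeal := hQs.over.symm
      exact fiberAss_congr e.symm _ hQass

/-- The relative assassin of a base change lies over the relative assassin. -/
theorem mem_relAss_of_baseChange [LocallyOfFiniteType f] (hc : IsPullback g' f' f g) (hF : Coh.IsQCoh F) {x' : X'}
    (h : x' ∈ MoreMor.relAss f' ((Scheme.Modules.pullback g').obj F)) : g' x' ∈ MoreMor.relAss f F := by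
  obtain ⟨V, hV, hsV, -⟩ := exists_isAffineOpen_mem_and_subset (x := f (g' x')) (U := ⊤) trivial
  obtain ⟨U, hU, hxU, hUV⟩ := exists_isAffineOpen_mem_and_subset (x := g' x') (U := f ⁻¹ᵁ V) hsV
  have hs' : f' x' ∈ g ⁻¹ᵁ V := by
    show g (f' x') ∈ V
    rw [← Scheme.Hom.comp_apply, ← hc.w]; exact hsV
  obtain ⟨V', hV', hs'V', hV'V⟩ := exists_isAffineOpen_mem_and_subset (x := f' x') (U := g ⁻¹ᵁ V) hs'
  exact (chart_baseChange hc hF hV hU hUV hV' hV'V).1 x' ⟨hxU, hs'V'⟩ h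

/-- Points of the relative assassin lift to any base change. -/
theorem exists_relAss_baseChange [LocallyOfFiniteType f] (hc : IsPullback g' f' f g) (hF : Coh.IsQCoh F) {x : X}
    (hx : x ∈ MoreMor.relAss f F) {s' : S'} (hs : f x = g s') :
    ∃ x', g' x' = x ∧ f' x' = s' ∧ x' ∈ MoreMor.relAss f' ((Scheme.Modules.pullback g').obj F) := by
  obtain ⟨V, hV, hsV, -⟩ := exists_isAffineOpen_mem_and_subset (x := f x) (U := ⊤) trivial
  obtain ⟨U, hU, hxU, hUV⟩ := exists_isAffineOpen_mem_and_subset (x := x) (U := f ⁻¹ᵁ V) hsV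
  obtain ⟨V', hV', hs'V', hV'V⟩ := exists_isAffineOpen_mem_and_subset (x := s') (U := g ⁻¹ᵁ V)
    (show g s' ∈ V from hs ▸ hsV)
  exact (chart_baseChange hc hF hV hU hUV hV' hV'V).2 x hxU hx s' hs'V' hs

end Groth.Agent.FlatFun4.RelAss
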