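import Mathlib
import Groth.Agent.GrSm.EtaleSection

/-!
# Smooth divisors through a point of a smooth algebra

If `A` is smooth at `q` and `h ∈ A` has nonzero differential in the cotangent fibre at `q`, then near
`q`, `h` is a nonzerodivisor with smooth zero locus.
-/

set_option autoImplicit false
set_option linter.style.haveILetI false
set_option backward.isDefEq.respectTransparency false
set_option backward.isDefEq.respectTransparency.types false

universe u
open scoped TensorProduct

namespace Groth.Agent.FlatFun4.SmoothDiv

theorem exists_coord {R A T : Type u} [CommRing R] [CommRing A] [CommRing T] [Algebra R A]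
    [Algebra A T] [Algebra R T] [IsScalarTower R A T] [IsLocalRing T] (q : Ideal A) [q.IsPrime]
    [IsLocalization.AtPrime T q] [Algebra.FinitePresentation R A] [Algebra.FormallySmooth R T] (h : A)
    (hd : (1 : IsLocalRing.ResidueField T) ⊗ₜ[T] KaehlerDifferential.D R T (algebraMap A T h) ≠ 0) :
    ∃ (ι : Type u) (_ : Finite ι) (b : ι → A) (i₀ : ι) (f : A), b i₀ = h ∧ f ∉ q ∧
      letI := (MvPolynomial.aeval (R := R) b).toRingHom.toAlgebra
      Algebra.Etale (MvPolynomial ι R) (Localization.Away f) := by
  classical
  haveI : Algebra.EssFiniteType A T := Algebra.EssFiniteType.of_isLocalization _ q.primeCompl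
  haveI : Algebra.EssFiniteType R T := Algebra.EssFiniteType.comp R A T
  let k := IsLocalRing.ResidueField T
  let w : A → k ⊗[T] Ω[T⁄R] := fun a => 1 ⊗ₜ KaehlerDifferential.D R T (algebraMap A T a)
  have hw : ⊤ ≤ Submodule.span k (Set.range w) := by
    intro x hx0
    clear hx0
    induction x using TensorProduct.induction_on with
    | zero => exact zero_mem _
    | add x y hx hy => exact add_mem hx hy
    | tmul c m =>
      have hm : m ∈ Submodule.span T (Set.range fun a : A => KaehlerDifferential.D R T (algebraMap A T a)) := by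
        rw [show (fun a : A => KaehlerDifferential.D R T (algebraMap A T a)) =
            KaehlerDifferential.map R R A T ∘ KaehlerDifferential.D R A from
            funext fun a => (KaehlerDifferential.map_D R R A T a).symm,
          KaehlerDifferential.span_range_map_derivation_of_isLocalization R A T q.primeCompl]; trivial
      rw [show c ⊗ₜ[T] m = c • ((1 : k) ⊗ₜ[T] m) by rw [TensorProduct.smul_tmul', smul_eq_mul, mul_one]]
      refine Submodule.smul_mem _ c ?_
      induction hm using Submodule.span_induction with
      | mem _ hm => obtain ⟨a, rfl⟩ := hm; exact Submodule.subset_span ⟨a, rfl⟩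
      | zero => rw [TensorProduct.tmul_zero]; exact zero_mem _
      | add _ _ _ _ h1 h2 => rw [TensorProduct.tmul_add]; exact add_mem h1 h2
      | smul t m _ h1 =>
        rw [← TensorProduct.smul_tmul, show t • (1 : k) = (algebraMap T k t) • (1 : k) by
          rw [Algebra.smul_def, smul_eq_mul], ← TensorProduct.smul_tmul']
        exact Submodule.smul_mem _ _ h1
  have hli : LinearIndepOn k id ({w h} : Set (k ⊗[T] Ω[T⁄R])) := (linearIndepOn_singleton_iff k).2 hd
  have hst : ({w h} : Set (k ⊗[T] Ω[T⁄R])) ⊆ Set.range w := Set.singleton_subset_iff.2 ⟨h, rfl⟩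
  let bk := Module.Basis.extendLe hli hst hw
  let ι := (hli.extend hst)
  have hsec : ∀ i : ι, ∃ a, w a = i.1 := fun i => hli.extend_subset _ i.2
  choose b₀ hb₀ using hsec
  let i₀ : ι := ⟨w h, hli.subset_extend _ rfl⟩
  let b : ι → A := Function.update b₀ i₀ h
  have hb : ∀ i, w (b i) = i.1 := by
    intro i
    by_cases e : i = i₀
    · subst e; simp [b, i₀]
    · simp [b, Function.update_of_ne e, hb₀]
  haveI : Finite ι := Module.Finite.finite_basis bk
  have hbk : (TensorProduct.mk T k Ω[T⁄R] 1 ∘ fun i => KaehlerDifferential.D R T (algebraMap A T (b i))) = bk := by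
    funext i
    simpa [bk, w] using hb i
  haveI : Module.FinitePresentation T Ω[T⁄R] := inferInstance
  obtain ⟨bT, hbT⟩ := Module.exists_basis_of_basis_baseChange
    (fun i => KaehlerDifferential.D R T (algebraMap A T (b i)))
    (by rw [hbk]; exact bk.linearIndependent) (by rw [hbk]; exact bk.span_eq)
    (Module.Flat.rTensor_preserves_injective_linearMap _ Subtype.val_injective)
  letI := (MvPolynomial.aeval (R := R) b).toRingHom.toAlgebra
  haveI : IsScalarTower R (MvPolynomial ι R) A :=
    IsScalarTower.of_algebraMap_eq fun r => ((MvPolynomial.aeval (R := R) b).commutes r).symm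
  letI := ((algebraMap A T).comp (algebraMap (MvPolynomial ι R) A)).toAlgebra
  haveI : IsScalarTower (MvPolynomial ι R) A T := IsScalarTower.of_algebraMap_eq fun _ => rfl
  haveI : IsScalarTower R (MvPolynomial ι R) T := IsScalarTower.of_algebraMap_eq fun r => by
    rw [IsScalarTower.algebraMap_apply (MvPolynomial ι R) A T, ← IsScalarTower.algebraMap_apply R (MvPolynomial ι R) A,
      ← IsScalarTower.algebraMap_apply]
  haveI hE : Algebra.FormallyEtale (MvPolynomial ι R) T := by
    refine GrSm.formallyEtale_of_basis (KaehlerDifferential.mvPolynomialBasis R ι) bT fun i => ?_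
    rw [KaehlerDifferential.mvPolynomialBasis_apply, KaehlerDifferential.map_D, hbT,
      IsScalarTower.algebraMap_apply (MvPolynomial ι R) A T]
    congr 2
    exact MvPolynomial.aeval_X b i
  haveI : Algebra.IsEtaleAt (MvPolynomial ι R) q :=
    Algebra.FormallyEtale.of_equiv ((IsLocalization.algEquiv q.primeCompl T (Localization.AtPrime q)).restrictScalars _)
  haveI : Algebra.FiniteType R (MvPolynomial ι R) := inferInstance
  haveI : Algebra.FinitePresentation (MvPolynomial ι R) A :=
    Algebra.FinitePresentation.of_restrict_scalars_finitePresentation R _ _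
  obtain ⟨f, hf, hEt⟩ := Algebra.exists_etale_of_isEtaleAt (R := MvPolynomial ι R) q
  exact ⟨ι, inferInstance, b, i₀, f, Function.update_self .., hf, hEt⟩

theorem smooth_quot (R : Type u) [CommRing R] {P : Type u} [CommRing P] [Algebra R P] (I : Ideal P) (B : Type u)
    [CommRing B] [Algebra P B] [Algebra R B] [IsScalarTower R P B] [Algebra.Smooth P B]
    [Algebra.Smooth R (P ⧸ I)] : Algebra.Smooth R (B ⧸ I.map (algebraMap P B)) := by
  haveI : Algebra.Smooth R ((P ⧸ I) ⊗[P] B) := Algebra.Smooth.comp R (P ⧸ I) _
  let ψ₂ : B ⊗[P] (P ⧸ I) ≃ₐ[P] B ⧸ I.map (algebraMap P B) :=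
    (Algebra.TensorProduct.quotIdealMapEquivTensorQuot B I).symm.restrictScalars P
  exact Algebra.Smooth.of_equiv
    (((Algebra.TensorProduct.comm P (P ⧸ I) B).trans ψ₂).restrictScalars R)

theorem exists_nzd_smooth {R A T : Type u} [CommRing R] [CommRing A] [CommRing T] [Algebra R A]
    [Algebra A T] [Algebra R T] [IsScalarTower R A T] [IsLocalRing T] (q : Ideal A) [q.IsPrime]
    [IsLocalization.AtPrime T q] [Algebra.FinitePresentation R A] [Algebra.FormallySmooth R T] (h : A)
    (hd : (1 : IsLocalRing.ResidueField T) ⊗ₜ[T] KaehlerDifferential.D R T (algebraMap A T h) ≠ 0) :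
    ∃ f ∉ q, algebraMap A (Localization.Away f) h ∈ nonZeroDivisors (Localization.Away f) ∧
      Algebra.Smooth R (Localization.Away f ⧸ Ideal.span {algebraMap A (Localization.Away f) h}) := by
  obtain ⟨ι, hι, b, i₀, f, hb, hf, hEt⟩ := exists_coord q h hd
  letI := (MvPolynomial.aeval (R := R) b).toRingHom.toAlgebra
  haveI : IsScalarTower R (MvPolynomial ι R) A :=
    IsScalarTower.of_algebraMap_eq fun r => ((MvPolynomial.aeval (R := R) b).commutes r).symm
  haveI := hEt
  set P := MvPolynomial ι R with hP
  set B := Localization.Away f with hB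
  have hX : algebraMap P B (MvPolynomial.X i₀) = algebraMap A B h := by
    rw [IsScalarTower.algebraMap_apply P A B]
    exact congrArg _ ((MvPolynomial.aeval_X b i₀).trans hb)
  haveI : IsScalarTower R P B := IsScalarTower.of_algebraMap_eq fun r => by
    rw [IsScalarTower.algebraMap_apply P A B, ← IsScalarTower.algebraMap_apply R P A,
      ← IsScalarTower.algebraMap_apply]
  refine ⟨f, hf, ?_, ?_⟩
  · rw [← hX]
    have h1 : IsSMulRegular P (MvPolynomial.X i₀ : P) := fun a c hac =>
      MvPolynomial.X_mul_cancel_left_iff.1 hac
    have h2 : IsSMulRegular B (algebraMap P B (MvPolynomial.X i₀)) := IsSMulRegular.of_flat h1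
    refine mem_nonZeroDivisors_iff_right.2 fun z hz => h2 ?_
    show algebraMap P B _ * z = algebraMap P B _ * 0
    rw [mul_zero, mul_comm]; exact hz
  · classical
    let e₀ : P →ₐ[R] MvPolynomial {j : ι // j ≠ i₀} R :=
      MvPolynomial.aeval fun j => if e : j = i₀ then 0 else MvPolynomial.X ⟨j, e⟩
    let s₀ : MvPolynomial {j : ι // j ≠ i₀} R →ₐ[R] P := MvPolynomial.rename Subtype.val
    let I : Ideal P := Ideal.span {MvPolynomial.X i₀}
    have hs : Function.Surjective e₀ := fun y => ⟨s₀ y, by
      have : e₀.comp s₀ = AlgHom.id R _ := MvPolynomial.algHom_ext fun j => by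
        rw [AlgHom.comp_apply]
        show e₀ (MvPolynomial.rename Subtype.val (MvPolynomial.X j)) = MvPolynomial.X j
        rw [MvPolynomial.rename_X]
        exact (MvPolynomial.aeval_X _ _).trans (dif_neg j.2)
      exact congr($this y)⟩
    have hker : RingHom.ker e₀ = I := by
      refine le_antisymm (fun p hp => ?_) ?_
      · have key : ∀ p : P, p - s₀ (e₀ p) ∈ I := by
          intro p
          have : (Ideal.Quotient.mkₐ R I).comp (s₀.comp e₀) = Ideal.Quotient.mkₐ R I :=
            MvPolynomial.algHom_ext fun j => by
              show Ideal.Quotient.mk I (s₀ (e₀ (MvPolynomial.X j))) = Ideal.Quotient.mk I (MvPolynomial.X j)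
              rw [show e₀ (MvPolynomial.X j) = _ from MvPolynomial.aeval_X _ j]
              by_cases e : j = i₀
              · subst e
                rw [dif_pos rfl, map_zero, map_zero]
                exact (Ideal.Quotient.eq_zero_iff_mem.2 (Ideal.mem_span_singleton_self _)).symm
              · rw [dif_neg e]
                exact congrArg _ (MvPolynomial.rename_X _ _)
          exact Ideal.Quotient.eq.1 congr($this p).symm
        have h2 := key p
        rwa [RingHom.mem_ker.1 hp, map_zero, sub_zero] at h2
      · rw [Ideal.span_le, Set.singleton_subset_iff]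
        show e₀ (MvPolynomial.X i₀) = 0
        exact (MvPolynomial.aeval_X _ _).trans (dif_pos rfl)
    haveI : Algebra.Smooth R (MvPolynomial {j : ι // j ≠ i₀} R) := ⟨inferInstance, inferInstance⟩
    haveI : Algebra.Smooth R (P ⧸ I) := Algebra.Smooth.of_equiv
      ((Ideal.quotientKerAlgEquivOfSurjective hs).symm.trans (Ideal.quotientEquivAlgOfEq R hker))
    have hI : I.map (algebraMap P B) = Ideal.span {algebraMap A B h} := by
      rw [Ideal.map_span, Set.image_singleton, hX]
    haveI := smooth_quot R I B
    exact Algebra.Smooth.of_equiv (Ideal.quotientEquivAlgOfEq R hI)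

end Groth.Agent.FlatFun4.SmoothDiv
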