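import Mathlib
import Groth.Agent.FlatFun4.SmoothDiv

/-!
# Smooth effective Cartier divisors through a point
-/

set_option autoImplicit false
set_option linter.style.haveILetI false
set_option backward.isDefEq.respectTransparency false
set_option backward.isDefEq.respectTransparency.types false

universe u
open scoped TensorProduct
open CategoryTheory AlgebraicGeometry

namespace Groth.Agent.FlatFun4.SmoothDivSch

theorem transport {R A B B' : Type u} [CommRing R] [CommRing A] [CommRing B] [CommRing B'] [Algebra R A]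
    [Algebra A B] [Algebra A B'] [Algebra R B] [IsScalarTower R A B] [Algebra R B'] [IsScalarTower R A B']
    (e : B ≃ₐ[A] B') (a : A) (h1 : algebraMap A B a ∈ nonZeroDivisors B)
    (h2 : Algebra.Smooth R (B ⧸ Ideal.span {algebraMap A B a})) :
    algebraMap A B' a ∈ nonZeroDivisors B' ∧ Algebra.Smooth R (B' ⧸ Ideal.span {algebraMap A B' a}) := by
  refine ⟨?_, ?_⟩
  · refine mem_nonZeroDivisors_iff_right.2 fun z hz => e.symm.injective ?_
    rw [map_zero]
    refine (mem_nonZeroDivisors_iff_right.1 h1) _ ?_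
    rw [← e.symm.commutes a, ← map_mul, hz, map_zero]
  · exact Algebra.Smooth.of_equiv (Ideal.quotientEquivAlg _ (Ideal.span {algebraMap A B' a})
      (e.restrictScalars R) (by
        rw [Ideal.map_span, Set.image_singleton]
        congr 2
        exact (e.commutes a).symm))

theorem exists_smooth_divisor {X S : Scheme.{u}} (f : X ⟶ S) (x : X)
    (W : X.Opens) (hxW : x ∈ W) (hW : Smooth (W.ι ≫ f))
    (h : ↑(X.presheaf.stalk x))
    (hd : letI := (f.stalkMap x).hom.toAlgebra
      (1 : IsLocalRing.ResidueField ↑(X.presheaf.stalk x)) ⊗ₜ[↑(X.presheaf.stalk x)]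
          (KaehlerDifferential.D ↑(S.presheaf.stalk (f x)) ↑(X.presheaf.stalk x) h) ≠ 0) :
    ∃ (U : X.Opens) (hU : IsAffineOpen U) (hx : x ∈ U) (h' : Γ(X, U)), X.presheaf.germ U x hx h' = h ∧
      h' ∈ nonZeroDivisors Γ(X, U) ∧
      Smooth (Spec.map (CommRingCat.ofHom (Ideal.Quotient.mk (Ideal.span {h'}))) ≫ hU.fromSpec ≫ f) := by
  obtain ⟨N, hxN, h₀, hh₀⟩ := X.presheaf.exists_germ_eq (x := x) h
  obtain ⟨_, ⟨V, hV, rfl⟩, hfV, -⟩ :=
    S.isBasis_affineOpens.exists_subset_of_mem_open (Set.mem_univ (f x)) isOpen_univ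
  obtain ⟨_, ⟨U, hU, rfl⟩, hxU, hUle⟩ := X.isBasis_affineOpens.exists_subset_of_mem_open
    (show x ∈ ((N ⊓ W ⊓ f ⁻¹ᵁ V : X.Opens) : Set X) from ⟨⟨hxN, hxW⟩, hfV⟩) (N ⊓ W ⊓ f ⁻¹ᵁ V).2
  have hUV : U ≤ f ⁻¹ᵁ V := fun z hz => (hUle hz).2
  let a : Γ(X, U) := X.presheaf.map (homOfLE (show U ≤ N from fun z hz => (hUle hz).1.1)).op h₀
  have ha : X.presheaf.germ U x hxU a = h := by
    rw [← hh₀]; exact TopCat.Presheaf.germ_res_apply _ _ _ _ _
  haveI hsm : Smooth (Spec.map (f.appLE V U hUV)) := by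
    refine MorphismProperty.of_postcomp (W' := @IsOpenImmersion) @Smooth _ hV.fromSpec inferInstance ?_
    rw [hV.SpecMap_appLE_fromSpec f hU hUV]
    haveI := hW
    have : hU.fromSpec ≫ f = IsOpenImmersion.lift W.ι hU.fromSpec (by
        rw [hU.range_fromSpec, Scheme.Opens.range_ι]; exact fun z hz => (hUle hz).1.2) ≫ W.ι ≫ f := by
      rw [IsOpenImmersion.lift_fac_assoc]
    rw [this]
    haveI : IsOpenImmersion (IsOpenImmersion.lift W.ι hU.fromSpec (by
        rw [hU.range_fromSpec, Scheme.Opens.range_ι]; exact fun z hz => (hUle hz).1.2)) := inferInstance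
    infer_instance
  have hsm' : (f.appLE V U hUV).hom.Smooth := (HasRingHomProperty.Spec_iff (P := @Smooth)).1 hsm
  letI := (f.appLE V U hUV).hom.toAlgebra
  haveI : Algebra.Smooth Γ(S, V) Γ(X, U) := hsm'
  letI : Algebra Γ(X, U) (X.presheaf.stalk x) := (X.presheaf.germ U x hxU).hom.toAlgebra
  letI : Algebra Γ(S, V) (S.presheaf.stalk (f x)) := (S.presheaf.germ V (f x) hfV).hom.toAlgebra
  letI := (f.stalkMap x).hom.toAlgebra
  letI : Algebra Γ(S, V) (X.presheaf.stalk x) :=
    ((X.presheaf.germ U x hxU).hom.comp (f.appLE V U hUV).hom).toAlgebra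
  haveI : IsScalarTower Γ(S, V) Γ(X, U) (X.presheaf.stalk x) := IsScalarTower.of_algebraMap_eq fun _ => rfl
  haveI : IsScalarTower Γ(S, V) (S.presheaf.stalk (f x)) (X.presheaf.stalk x) := by
    refine IsScalarTower.of_algebraMap_eq fun r => ?_
    show (f.appLE V U hUV ≫ X.presheaf.germ U x hxU) r = (S.presheaf.germ V (f x) hfV ≫ f.stalkMap x) r
    rw [Scheme.Hom.germ_stalkMap, Scheme.Hom.appLE, Category.assoc, X.presheaf.germ_res]
  let q := (hU.primeIdealOf ⟨x, hxU⟩).asIdeal
  haveI : IsLocalization.AtPrime (X.presheaf.stalk x) q := hU.isLocalization_stalk ⟨x, hxU⟩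
  haveI : Algebra.FormallySmooth Γ(X, U) (X.presheaf.stalk x) :=
    Algebra.FormallySmooth.of_isLocalization q.primeCompl
  haveI : Algebra.FormallySmooth Γ(S, V) (X.presheaf.stalk x) :=
    Algebra.FormallySmooth.comp _ Γ(X, U) _
  have hd' : (1 : IsLocalRing.ResidueField (X.presheaf.stalk x)) ⊗ₜ[X.presheaf.stalk x]
      KaehlerDifferential.D Γ(S, V) (X.presheaf.stalk x) (algebraMap Γ(X, U) (X.presheaf.stalk x) a) ≠ 0 := by
    intro h0
    refine hd ?_
    have := congrArg ((KaehlerDifferential.map Γ(S, V) (S.presheaf.stalk (f x)) (X.presheaf.stalk x)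
      (X.presheaf.stalk x)).lTensor (IsLocalRing.ResidueField (X.presheaf.stalk x))) h0
    rw [LinearMap.lTensor_tmul, KaehlerDifferential.map_D, Algebra.algebraMap_self_apply, map_zero] at this
    rw [← ha]
    exact this
  obtain ⟨g, hg, h1, h2⟩ := SmoothDiv.exists_nzd_smooth (R := Γ(S, V)) q a hd'
  have hxg : x ∈ X.basicOpen g := by
    rw [X.mem_basicOpen g x hxU]
    by_contra hng
    exact hg ((IsLocalization.AtPrime.to_map_mem_maximal_iff (X.presheaf.stalk x) q g).1 hng)
  haveI := hU.isLocalization_basicOpen g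
  letI : Algebra Γ(S, V) Γ(X, X.basicOpen g) :=
    ((algebraMap Γ(X, U) Γ(X, X.basicOpen g)).comp (algebraMap Γ(S, V) Γ(X, U))).toAlgebra
  haveI : IsScalarTower Γ(S, V) Γ(X, U) Γ(X, X.basicOpen g) := IsScalarTower.of_algebraMap_eq fun _ => rfl
  obtain ⟨h1', h2'⟩ := transport (IsLocalization.algEquiv (.powers g) (Localization.Away g) Γ(X, X.basicOpen g))
    a h1 h2
  refine ⟨X.basicOpen g, hU.basicOpen g, hxg, algebraMap Γ(X, U) Γ(X, X.basicOpen g) a, ?_, h1', ?_⟩
  · rw [← ha]
    exact TopCat.Presheaf.germ_res_apply X.presheaf (homOfLE (X.basicOpen_le g)) x hxg a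
  · have hle : X.basicOpen g ≤ f ⁻¹ᵁ V := (X.basicOpen_le g).trans hUV
    rw [← hV.SpecMap_appLE_fromSpec f (hU.basicOpen g) hle, ← Category.assoc, ← Spec.map_comp]
    haveI : Smooth (Spec.map (f.appLE V (X.basicOpen g) hle ≫
        CommRingCat.ofHom (Ideal.Quotient.mk (Ideal.span {algebraMap Γ(X, U) Γ(X, X.basicOpen g) a})))) := by
      rw [HasRingHomProperty.Spec_iff (P := @Smooth)]
      have e : (f.appLE V (X.basicOpen g) hle).hom = algebraMap Γ(S, V) Γ(X, X.basicOpen g) := by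
        rw [← Scheme.Hom.appLE_map f hUV (homOfLE (X.basicOpen_le g)).op]
        rfl
      rw [CommRingCat.hom_comp, e, CommRingCat.hom_ofHom]
      exact (RingHom.smooth_algebraMap (R := Γ(S, V))
        (S := Γ(X, X.basicOpen g) ⧸ Ideal.span {algebraMap Γ(X, U) Γ(X, X.basicOpen g) a})).2 h2'
    infer_instance

end Groth.Agent.FlatFun4.SmoothDivSch
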