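import Groth.Agent.FlatFun4.StalkDesc
import Groth.Prelude.Def_FlatMod2
import Mathlib.RingTheory.Flat.Stability

/-! Flatness over the base is reflected by flat maps. -/

set_option linter.style.haveILetI false
set_option autoImplicit false
set_option backward.isDefEq.respectTransparency false
set_option backward.isDefEq.respectTransparency.types false

universe u

open CategoryTheory CategoryTheory.Limits AlgebraicGeometry TensorProduct

namespace Groth.Agent.FlatFun4

/-- If `B → B'` is faithfully flat and `B' ⊗[B] M` is `A`-flat, then so is `M`. -/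
theorem flat_of_flat_baseChange {A B B' M : Type u} [CommRing A] [CommRing B] [CommRing B']
    [Algebra A B] [Algebra B B'] [Algebra A B'] [IsScalarTower A B B'] [Module.FaithfullyFlat B B']
    [AddCommGroup M] [Module A M] [Module B M] [IsScalarTower A B M]
    [Module.Flat A (B' ⊗[B] M)] : Module.Flat A M := by
  rw [Module.Flat.iff_lTensor_injectiveₛ]
  intro P _ _ N
  let k : M ⊗[A] N →ₗ[B] M ⊗[A] P := AlgebraTensorModule.lTensor B M N.subtype
  suffices Function.Injective k from this
  rw [← Module.FaithfullyFlat.lTensor_injective_iff_injective B B' k]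
  have h := Module.Flat.lTensor_preserves_injective_linearMap (R := A) (M := B' ⊗[B] M)
    N.subtype Subtype.val_injective
  let eN := AlgebraTensorModule.assoc A B B B' M N
  let eP := AlgebraTensorModule.assoc A B B B' M P
  have key : ∀ z, k.lTensor B' (eN z) = eP (N.subtype.lTensor (B' ⊗[B] M) z) := by
    intro z
    induction z using TensorProduct.induction_on with
    | zero => simp
    | add a b ha hb => simp only [map_add, ha, hb]
    | tmul a n =>
      induction a using TensorProduct.induction_on with
      | zero => simp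
      | add a b ha hb => simp only [add_tmul, map_add, ha, hb]
      | tmul c m => rfl
  intro p q hpq
  obtain ⟨p, rfl⟩ := eN.surjective p
  obtain ⟨q, rfl⟩ := eN.surjective q
  rw [key, key] at hpq
  rw [h (eP.injective hpq)]

theorem isFlatOverAt_of_pullback {X S X' S' : Scheme.{u}} (f : X ⟶ S) (f' : X' ⟶ S') (g' : X' ⟶ X)
    (g : S' ⟶ S) (w : g' ≫ f = f' ≫ g) [Flat g] [Flat g'] (F : X.Modules) (x : X')
    (h : FlatMod.IsFlatOverAt f' ((Scheme.Modules.pullback g').obj F) x) :
    FlatMod.IsFlatOverAt f F (g' x) := by
  letI : Algebra (S.presheaf.stalk (f (g' x))) (X.presheaf.stalk (g' x)) := (f.stalkMap (g' x)).hom.toAlgebra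
  letI : Algebra (X.presheaf.stalk (g' x)) (X'.presheaf.stalk x) := (g'.stalkMap x).hom.toAlgebra
  haveI := faithfullyFlat_stalkMap g' x
  letI : Algebra (S.presheaf.stalk (f (g' x))) (X'.presheaf.stalk x) := ((g' ≫ f).stalkMap x).hom.toAlgebra
  haveI : IsScalarTower (S.presheaf.stalk (f (g' x))) (X.presheaf.stalk (g' x)) (X'.presheaf.stalk x) :=
    .of_algebraMap_eq fun r => congr($(Scheme.Hom.stalkMap_comp g' f x).hom r)
  letI := FlatMod.moduleStalkOver f F (g' x)
  haveI : IsScalarTower (S.presheaf.stalk (f (g' x))) (X.presheaf.stalk (g' x)) (F.presheaf.stalk (g' x)) :=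
    .of_algebraMap_smul fun _ _ => rfl
  let N := ((Scheme.Modules.pullback g').obj F).presheaf.stalk x
  -- flatness of the pulled back stalk over the base point
  letI : Module (S'.presheaf.stalk (f' x)) N := FlatMod.moduleStalkOver f' _ x
  haveI hN : Module.Flat (S'.presheaf.stalk (f' x)) N := h
  let φ : S.presheaf.stalk (f (g' x)) ⟶ S'.presheaf.stalk (f' x) :=
    S.presheaf.stalkSpecializes (specializes_of_eq (congr($(w) x)).symm) ≫ g.stalkMap (f' x)
  have hφ : φ ≫ f'.stalkMap x = (g' ≫ f).stalkMap x := by
    rw [Scheme.Hom.stalkMap_congr_hom _ _ w x, Scheme.Hom.stalkMap_comp]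
    simp [φ]
  have hφflat : φ.hom.Flat := by
    have h1 : g.stalkMap (f' x) |>.hom.Flat := Flat.stalkMap g _
    have e : (f' ≫ g) x = (g' ≫ f) x := by rw [w]
    haveI : IsIso (S.presheaf.stalkSpecializes (specializes_of_eq (congr($(w) x)).symm)) :=
      (S.presheaf.stalkCongr (Inseparable.of_eq e.symm)).isIso_hom
    exact RingHom.Flat.comp (RingHom.Flat.of_bijective (ConcreteCategory.bijective_of_isIso _)) h1
  letI : Algebra (S.presheaf.stalk (f (g' x))) (S'.presheaf.stalk (f' x)) := φ.hom.toAlgebra
  haveI : Module.Flat (S.presheaf.stalk (f (g' x))) (S'.presheaf.stalk (f' x)) := hφflat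
  letI : Module (S.presheaf.stalk (f (g' x))) N := Module.compHom _ ((g' ≫ f).stalkMap x).hom
  haveI : IsScalarTower (S.presheaf.stalk (f (g' x))) (S'.presheaf.stalk (f' x)) N :=
    .of_algebraMap_smul fun r n => congr($(hφ).hom r • n)
  haveI : Module.Flat (S.presheaf.stalk (f (g' x))) N := Module.Flat.trans _ (S'.presheaf.stalk (f' x)) _
  let e := ((KFlatLib.stalkPullbackIso g' x).app F).toLinearEquiv
  haveI : IsScalarTower (S.presheaf.stalk (f (g' x))) (X'.presheaf.stalk x) N :=
    .of_algebraMap_smul fun _ _ => rfl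
  let e' : (X'.presheaf.stalk x ⊗[X.presheaf.stalk (g' x)] F.presheaf.stalk (g' x))
      ≃ₗ[S.presheaf.stalk (f (g' x))] N :=
    { toFun := e.symm
      invFun := e
      left_inv := e.right_inv
      right_inv := e.left_inv
      map_add' := e.symm.map_add
      map_smul' := fun r m => by
        rw [RingHom.id_apply, ← algebraMap_smul (X'.presheaf.stalk x) r, ← algebraMap_smul (X'.presheaf.stalk x) r]
        exact e.symm.map_smul _ m }
  haveI := Module.Flat.of_linearEquiv e'
  exact flat_of_flat_baseChange (B := X.presheaf.stalk (g' x)) (B' := X'.presheaf.stalk x)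

end Groth.Agent.FlatFun4
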