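import Mathlib.RingTheory.AlgebraicIndependent.AlgebraicClosure
import Mathlib.RingTheory.AlgebraicIndependent.TranscendenceBasis
import Mathlib.RingTheory.TensorProduct.MvPolynomial
import Mathlib.RingTheory.Flat.Basic
import Mathlib.RingTheory.Ideal.MinimalPrime.Localization
import Mathlib.RingTheory.Localization.FractionRing

/-! Transcendence degrees in composita of fields. -/

set_option autoImplicit false
set_option linter.style.haveILetI false

universe u

open TensorProduct

namespace Groth.Agent.FlatFun4

variable {k k' K : Type u} [Field k] [Field k'] [Field K] [Algebra k k'] [Algebra k K]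

/-- In a compositum, the transcendence degree does not grow. -/
theorem trdeg_compositum_le {K' : Type u} [Field K'] [Algebra k' K'] (j : K →+* K')
    (hj : j.comp (algebraMap k K) = (algebraMap k' K').comp (algebraMap k k'))
    (hgen : ∀ L : IntermediateField k' K', (∀ a, j a ∈ L) → L = ⊤) :
    Algebra.trdeg k' K' ≤ Algebra.trdeg k K := by
  obtain ⟨ι, x, hx⟩ := exists_isTranscendenceBasis' k K
  haveI halg := hx.isAlgebraic_field
  let s : Set K' := Set.range (j ∘ x)
  let F := IntermediateField.adjoin k (Set.range x)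
  let F' := IntermediateField.adjoin k' s
  have hFF' : ∀ a : F, j a ∈ F' := by
    intro a
    have h : F ≤ ({ F'.toSubfield.comap j with
      algebraMap_mem' := fun c => by
        change j (algebraMap k K c) ∈ F'
        rw [show j (algebraMap k K c) = algebraMap k' K' (algebraMap k k' c) from congr($hj c)]
        exact F'.algebraMap_mem _ } : IntermediateField k K) := by
      apply IntermediateField.adjoin_le_iff.mpr
      rintro _ ⟨i, rfl⟩
      exact IntermediateField.subset_adjoin k' s ⟨i, rfl⟩
    exact h a.2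
  let jF : F →+* F' := (j.comp (algebraMap F K)).codRestrict F' hFF'
  have hj' : ∀ a, IsAlgebraic F' (j a) := fun a =>
    IsAlgebraic.ringHom_of_comp_eq (f := jF) (g := j) (halg.isAlgebraic a) jF.injective (by ext; rfl)
  have htop : (algebraicClosure F' K').restrictScalars k' = ⊤ :=
    hgen _ fun a => mem_algebraicClosure_iff.mpr (hj' a)
  haveI : Algebra.IsAlgebraic F' K' := ⟨fun a => by
    have : a ∈ (algebraicClosure F' K').restrictScalars k' := by rw [htop]; trivial
    exact mem_algebraicClosure_iff.mp this⟩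
  haveI : Algebra.IsAlgebraic (Algebra.adjoin k' s) K' :=
    IntermediateField.isAlgebraic_adjoin_iff_top.mp ‹_›
  calc Algebra.trdeg k' K' ≤ Cardinal.mk s := Algebra.IsAlgebraic.trdeg_le_cardinalMk k' s
    _ ≤ Cardinal.mk ι := Cardinal.mk_range_le
    _ = Algebra.trdeg k K := hx.cardinalMk_eq_trdeg

/-- Any two extensions sit in a third, with no loss of transcendence degree. -/
theorem exists_compositum :
    ∃ (L : Type u) (_ : Field L) (_ : Algebra k' L) (j : K →+* L),
      j.comp (algebraMap k K) = (algebraMap k' L).comp (algebraMap k k') ∧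
      ∃ (ι : Type u) (x : ι → K), Cardinal.mk ι = Algebra.trdeg k K ∧
        AlgebraicIndependent k' (j ∘ x) := by
  obtain ⟨ι, x, hx⟩ := exists_isTranscendenceBasis' k K
  let e := MvPolynomial.algebraTensorAlgEquiv (σ := ι) k k'
  let φ : k' ⊗[k] MvPolynomial ι k →ₐ[k'] k' ⊗[k] K :=
    Algebra.TensorProduct.map (AlgHom.id k' k') (MvPolynomial.aeval x)
  have hφ : Function.Injective φ :=
    Module.Flat.lTensor_preserves_injective_linearMap (M := k') (MvPolynomial.aeval x).toLinearMap
      hx.1
  let ψ : MvPolynomial ι k' →ₐ[k'] k' ⊗[k] K := φ.comp e.symm.toAlgHom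
  have hψ : Function.Injective ψ := hφ.comp e.symm.injective
  obtain ⟨q, hq, hq'⟩ := Ideal.exists_comap_eq_of_mem_minimalPrimes_of_injective
    (f := ψ.toRingHom) hψ ⊥ (by rw [IsDomain.minimalPrimes_eq_singleton_bot]; rfl)
  let L := FractionRing ((k' ⊗[k] K) ⧸ q)
  let π : k' ⊗[k] K →ₐ[k'] L :=
    (IsScalarTower.toAlgHom k' ((k' ⊗[k] K) ⧸ q) L).comp (Ideal.Quotient.mkₐ k' q)
  refine ⟨L, inferInstance, inferInstance,
    π.toRingHom.comp (Algebra.TensorProduct.includeRight (R := k) (A := k') (B := K)).toRingHom, ?_,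
    ι, x, hx.cardinalMk_eq_trdeg, ?_⟩
  · ext c
    change π (1 ⊗ₜ[k] algebraMap k K c) = algebraMap k' L (algebraMap k k' c)
    rw [← π.commutes, Algebra.algebraMap_eq_smul_one, ← smul_tmul, ← Algebra.algebraMap_eq_smul_one]
    rfl
  · have hψX : ∀ n, ψ (MvPolynomial.X n) = 1 ⊗ₜ[k] x n := by
      intro n
      have he : e.symm (MvPolynomial.X n) = 1 ⊗ₜ[k] MvPolynomial.X n := by
        rw [AlgEquiv.symm_apply_eq, MvPolynomial.algebraTensorAlgEquiv_tmul, one_smul, MvPolynomial.map_X]
      change φ (e.symm (MvPolynomial.X n)) = _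
      rw [he]
      simp [φ]
    have heq : MvPolynomial.aeval (fun n => π (1 ⊗ₜ[k] x n)) = π.comp ψ := by
      ext n
      simp [hψX]
    change Function.Injective (MvPolynomial.aeval (fun n => π (1 ⊗ₜ[k] x n)))
    rw [heq, injective_iff_map_eq_zero]
    intro p hp
    have : p ∈ q.comap ψ.toRingHom :=
      Ideal.mem_comap.mpr (Ideal.Quotient.eq_zero_iff_mem.mp ((injective_iff_map_eq_zero _).mp
        (IsFractionRing.injective ((k' ⊗[k] K) ⧸ q) L) _ hp))
    rwa [hq'] at this

end Groth.Agent.FlatFun4
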