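import Groth.Agent.FlatFun4.OneStepBC
import Groth.Agent.FibDim.Top
import Mathlib.RingTheory.AlgebraicIndependent.AlgebraicClosure

/-! Base change along a point with trivial residue field extension does not change the fibre. -/

set_option linter.style.haveILetI false
set_option autoImplicit false
set_option backward.isDefEq.respectTransparency false
set_option backward.isDefEq.respectTransparency.types false

universe u

open TensorProduct

namespace Groth.Agent.FlatFun4.TrivResFibre

variable {R R' S S' : Type u} [CommRing R] [CommRing R'] [CommRing S] [CommRing S']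
  [Algebra R R'] [Algebra R S] [Algebra R S'] [Algebra R' S'] [Algebra S S']
  [IsScalarTower R R' S'] [IsScalarTower R S S'] [Algebra.IsPushout R R' S S']
  (p : Ideal R) [p.IsPrime] (p' : Ideal R') [p'.IsPrime] [hp' : p'.LiesOver p]
  (hκ : Function.Bijective (Ideal.ResidueField.mapₐ p p' (Algebra.ofId R R') hp'.over))
  (q : Ideal S) [q.IsPrime] [hq : q.LiesOver p]
  (q' : Ideal S') [q'.IsPrime] [hq' : q'.LiesOver q] [hqp' : q'.LiesOver p']

/-- The map of residue fields, as a bare ring map. -/
noncomputable abbrev res {A B : Type u} [CommRing A] [CommRing B] [Algebra A B] (a : Ideal A) [a.IsPrime]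
    (b : Ideal B) [b.IsPrime] [b.LiesOver a] : a.ResidueField →+* b.ResidueField :=
  (Ideal.ResidueField.mapₐ a b (Algebra.ofId A B) (Ideal.LiesOver.over (p := a) (P := b))).toRingHom

theorem res_algebraMap {A B : Type u} [CommRing A] [CommRing B] [Algebra A B] (a : Ideal A) [a.IsPrime]
    (b : Ideal B) [b.IsPrime] [b.LiesOver a] (x : A) :
    res a b (algebraMap A a.ResidueField x) = algebraMap B b.ResidueField (algebraMap A B x) := by
  rw [res, AlgHom.toRingHom_eq_coe, RingHom.coe_coe, AlgHom.commutes]
  rw [IsScalarTower.algebraMap_apply A B b.ResidueField]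

include hκ in
theorem res_bijective : Function.Bijective (res q q') := by
  refine ⟨(res q q').injective, ?_⟩
  have hbase : ∀ r : R', algebraMap S' q'.ResidueField (algebraMap R' S' r) ∈ (res q q').fieldRange := by
    intro r
    obtain ⟨c, hc⟩ := hκ.2 (algebraMap R' p'.ResidueField r)
    refine ⟨res p q c, ?_⟩
    have h : ((res q q').comp (res p q)) = (res p' q').comp (res p p') := by
      refine IsLocalization.ringHom_ext (nonZeroDivisors (R ⧸ p)) (Ideal.Quotient.ringHom_ext ?_)
      ext x
      show res q q' (res p q (algebraMap R p.ResidueField x)) = res p' q' (res p p' (algebraMap R p.ResidueField x))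
      rw [res_algebraMap, res_algebraMap, res_algebraMap, res_algebraMap,
        ← IsScalarTower.algebraMap_apply R S S', ← IsScalarTower.algebraMap_apply R R' S']
    have h2 := RingHom.congr_fun h c
    simp only [RingHom.comp_apply] at h2
    rw [h2, show res p p' c = algebraMap R' p'.ResidueField r from hc, res_algebraMap]
  have hall : ∀ y : S', algebraMap S' q'.ResidueField y ∈ (res q q').fieldRange := by
    intro y
    induction y using (Algebra.IsPushout.out : IsBaseChange R' (IsScalarTower.toAlgHom R S S').toLinearMap).inductionOn with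
    | zero => rw [map_zero]; exact zero_mem _
    | tmul x => exact ⟨algebraMap S q.ResidueField x, res_algebraMap q q' x⟩
    | smul c x hx => rw [Algebra.smul_def, map_mul]; exact mul_mem (hbase c) hx
    | add a b ha hb => rw [map_add]; exact add_mem ha hb
  intro z
  obtain ⟨a, b, hb, rfl⟩ := IsFractionRing.div_surjective (A := S' ⧸ q') z
  obtain ⟨a, rfl⟩ := Ideal.Quotient.mk_surjective a
  obtain ⟨b, rfl⟩ := Ideal.Quotient.mk_surjective b
  exact div_mem (hall a) (hall b)

include hκ in
theorem eq_of_liesOver (q₁ q₂ : Ideal S') [q₁.IsPrime] [q₂.IsPrime] [q₁.LiesOver q] [q₂.LiesOver q]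
    [q₁.LiesOver p'] [q₂.LiesOver p'] : q₁ = q₂ := by
  let e₁ := RingEquiv.ofBijective _ (res_bijective p p' hκ q q₁)
  let e₂ := RingEquiv.ofBijective _ (res_bijective p p' hκ q q₂)
  have h : ∀ y : S', e₁.symm (algebraMap S' q₁.ResidueField y) = e₂.symm (algebraMap S' q₂.ResidueField y) := by
    intro y
    induction y using (Algebra.IsPushout.out : IsBaseChange R' (IsScalarTower.toAlgHom R S S').toLinearMap).inductionOn with
    | zero => simp
    | tmul x =>
      show e₁.symm (algebraMap S' q₁.ResidueField (algebraMap S S' x)) =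
        e₂.symm (algebraMap S' q₂.ResidueField (algebraMap S S' x))
      rw [← res_algebraMap q q₁, ← res_algebraMap q q₂]
      exact (RingEquiv.ofBijective _ (res_bijective p p' hκ q q₁)).symm_apply_apply (algebraMap S q.ResidueField x)
        |>.trans ((RingEquiv.ofBijective _ (res_bijective p p' hκ q q₂)).symm_apply_apply
          (algebraMap S q.ResidueField x)).symm
    | smul c x hx =>
      have key : ∀ (Q : Ideal S') [Q.IsPrime] [Q.LiesOver q] [Q.LiesOver p'],
          algebraMap S' Q.ResidueField (algebraMap R' S' c) =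
            res q Q (res p q ((RingEquiv.ofBijective _ hκ).symm (algebraMap R' p'.ResidueField c))) := by
        intro Q _ _ _
        obtain ⟨d, hd⟩ : ∃ d, d = (RingEquiv.ofBijective _ hκ).symm (algebraMap R' p'.ResidueField c) := ⟨_, rfl⟩
        rw [← hd]
        have hd2 : res p p' d = algebraMap R' p'.ResidueField c := by
          rw [hd]; exact (RingEquiv.ofBijective _ hκ).apply_symm_apply _
        have h : ((res q Q).comp (res p q)) = (res p' Q).comp (res p p') := by
          refine IsLocalization.ringHom_ext (nonZeroDivisors (R ⧸ p)) (Ideal.Quotient.ringHom_ext ?_)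
          ext x
          show res q Q (res p q (algebraMap R p.ResidueField x)) = res p' Q (res p p' (algebraMap R p.ResidueField x))
          rw [res_algebraMap, res_algebraMap, res_algebraMap, res_algebraMap,
            ← IsScalarTower.algebraMap_apply R S S', ← IsScalarTower.algebraMap_apply R R' S']
        have h2 := RingHom.congr_fun h d
        simp only [RingHom.comp_apply] at h2
        rw [h2, hd2, res_algebraMap]
      simp only [Algebra.smul_def, map_mul, hx, key]
      rw [show e₁.symm (res q q₁ _) = _ from e₁.symm_apply_apply _,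
        show e₂.symm (res q q₂ _) = _ from e₂.symm_apply_apply _]
    | add a b ha hb => simp only [map_add, ha, hb]
  ext y
  rw [← Ideal.algebraMap_residueField_eq_zero, ← e₁.symm.map_eq_zero_iff, h, RingEquiv.map_eq_zero_iff,
    Ideal.algebraMap_residueField_eq_zero]

theorem purelyTranscendental_aux {k K L M : Type u} [Field k] [Field K] [Field L] [Field M]
    [Algebra k L] [Algebra K M] [Algebra k K] [Algebra k M] [IsScalarTower k K M]
    (hkK : Function.Surjective (algebraMap k K)) (e : L ≃ₐ[k] M)
    (h : ∃ (ι : Type u) (x : ι → L), IsTranscendenceBasis k x ∧ IntermediateField.adjoin k (Set.range x) = ⊤) :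
    ∃ (ι : Type u) (x : ι → M), IsTranscendenceBasis K x ∧ IntermediateField.adjoin K (Set.range x) = ⊤ := by
  obtain ⟨ι, x, hx, hadj⟩ := h
  haveI : Algebra.IsAlgebraic k K :=
    ⟨fun y => by obtain ⟨c, rfl⟩ := hkK y; exact isAlgebraic_algebraMap c⟩
  refine ⟨ι, e ∘ x, (Algebra.IsAlgebraic.isTranscendenceBasis_iff k K).mp (e.isTranscendenceBasis hx), ?_⟩
  rw [eq_top_iff]
  intro z _
  obtain ⟨w, rfl⟩ := e.surjective z
  have hw : w ∈ IntermediateField.adjoin k (Set.range x) := hadj ▸ IntermediateField.mem_top
  induction hw using IntermediateField.adjoin_induction with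
  | mem y hy => obtain ⟨i, rfl⟩ := hy; exact IntermediateField.subset_adjoin _ _ ⟨i, rfl⟩
  | algebraMap c =>
    rw [e.commutes, IsScalarTower.algebraMap_apply k K M]
    exact IntermediateField.algebraMap_mem _ _
  | add a b _ _ ha hb => rw [map_add]; exact add_mem (ha trivial) (hb trivial)
  | inv a _ ha => rw [map_inv₀]; exact inv_mem (ha trivial)
  | mul a b _ _ ha hb => rw [map_mul]; exact mul_mem (ha trivial) (hb trivial)

omit [Algebra.IsPushout R R' S S'] in
theorem res_comp : (res q q').comp (res p q) = (res p' q').comp (res p p') := by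
  refine IsLocalization.ringHom_ext (nonZeroDivisors (R ⧸ p)) (Ideal.Quotient.ringHom_ext ?_)
  ext r
  show res q q' (res p q (algebraMap R p.ResidueField r)) = res p' q' (res p p' (algebraMap R p.ResidueField r))
  rw [res_algebraMap, res_algebraMap, res_algebraMap, res_algebraMap,
    ← IsScalarTower.algebraMap_apply R S S', ← IsScalarTower.algebraMap_apply R R' S']

include hκ in
theorem purelyTranscendental (h : FlatCA.PurelyTranscendental p q) :
    FlatCA.PurelyTranscendental p' q' :=
  @purelyTranscendental_aux p.ResidueField p'.ResidueField q.ResidueField q'.ResidueField _ _ _ _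
    (res p q).toAlgebra (res p' q').toAlgebra (res p p').toAlgebra
    ((res p' q').comp (res p p')).toAlgebra
    (letI := (res p p').toAlgebra; letI := (res p' q').toAlgebra
     letI := ((res p' q').comp (res p p')).toAlgebra
     IsScalarTower.of_algebraMap_eq fun _ => rfl)
    hκ.2
    (letI := (res p q).toAlgebra; letI := ((res p' q').comp (res p p')).toAlgebra
     AlgEquiv.ofBijective ⟨res q q', fun c => RingHom.congr_fun (res_comp p p' q q') c⟩
      (res_bijective p p' hκ q q'))
    h

include hκ in
/-- A prime above given compatible points. -/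
theorem exists_liesOver : ∃ (Q : Ideal S'), Q.IsPrime ∧ Q.LiesOver q ∧ Q.LiesOver p' := by
  let e := RingEquiv.ofBijective (res p p') hκ
  let φ : R' →ₐ[R] q.ResidueField :=
    ⟨((res p q).comp e.symm.toRingHom).comp (algebraMap R' p'.ResidueField), fun r => by
      show res p q (e.symm (algebraMap R' p'.ResidueField (algebraMap R R' r))) = algebraMap R q.ResidueField r
      rw [← res_algebraMap p p', show e.symm (res p p' (algebraMap R p.ResidueField r)) = algebraMap R p.ResidueField r from (RingEquiv.ofBijective (res p p') hκ).symm_apply_apply (algebraMap R p.ResidueField r),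
        res_algebraMap, ← IsScalarTower.algebraMap_apply]⟩
  let ψ : S →ₐ[R] q.ResidueField := IsScalarTower.toAlgHom R S q.ResidueField
  let χ := Algebra.pushoutDesc S' φ ψ fun _ _ => mul_comm _ _
  haveI : (RingHom.ker χ.toRingHom).IsPrime := RingHom.ker_isPrime _
  refine ⟨RingHom.ker χ.toRingHom, inferInstance, ⟨Ideal.ext fun x => ?_⟩, ⟨Ideal.ext fun x => ?_⟩⟩
  · rw [Ideal.under, Ideal.mem_comap, RingHom.mem_ker]
    show _ ↔ χ (algebraMap S S' x) = 0
    rw [Algebra.pushoutDesc_right]
    exact Ideal.algebraMap_residueField_eq_zero.symm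
  · rw [Ideal.under, Ideal.mem_comap, RingHom.mem_ker]
    show _ ↔ χ (algebraMap R' S' x) = 0
    rw [Algebra.pushoutDesc_left]
    show _ ↔ res p q (e.symm (algebraMap R' p'.ResidueField x)) = 0
    rw [map_eq_zero_iff _ (res p q).injective, RingEquiv.map_eq_zero_iff, Ideal.algebraMap_residueField_eq_zero]

section Support

/-- Local dimensions of supports along a bijective ring map. -/
theorem exists_point_localDim {A B : Type u} [CommRing A] [CommRing B] [Algebra A B]
    (hAB : Function.Bijective (algebraMap A B)) (M : Type u) [AddCommGroup M] [Module A M] [Module.Finite A M]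
    {M' : Type u} [AddCommGroup M'] [Module B M'] (e : M' ≃ₗ[B] B ⊗[A] M)
    (ξ : PrimeSpectrum A) (hξ : ξ ∈ Module.support A M) :
    ∃ (ξ' : PrimeSpectrum B) (hξ' : ξ' ∈ Module.support B M'),
      ξ'.asIdeal.comap (algebraMap A B) = ξ.asIdeal ∧
      FlatMor.localDim (Module.support B M') ⟨ξ', hξ'⟩ = FlatMor.localDim (Module.support A M) ⟨ξ, hξ⟩ := by
  let h := PrimeSpectrum.homeomorphOfRingEquiv (RingEquiv.ofBijective (algebraMap A B) hAB)
  have hh : ∀ x : PrimeSpectrum A, PrimeSpectrum.comap (algebraMap A B) (h x) = x := fun x => h.symm_apply_apply x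
  have hs : Module.support A M = h ⁻¹' Module.support B M' := by
    ext x
    rw [Set.mem_preimage, e.support_eq, FlatLoc6.mem_support_tensor_iff, hh,
      and_iff_right (Module.mem_support_iff_of_finite.mpr (by
        rw [Module.annihilator_eq_bot.mpr inferInstance]; exact bot_le))]
  have hξ' : h ξ ∈ Module.support B M' := by rw [hs] at hξ; exact hξ
  refine ⟨h ξ, hξ', congrArg PrimeSpectrum.asIdeal (hh ξ), ?_⟩
  exact FibDim.localDim_homeomorph (h.sets hs) ⟨ξ, hξ⟩

omit p p' in
/-- Moving a point of the support of a fibre module along a base change with trivial residue extension. -/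
theorem exists_fibre_point {k K A B : Type u} [Field k] [Field K] [CommRing A] [CommRing B]
    [Algebra R k] [Algebra R' K] [Algebra k A] [Algebra S A] [Algebra R A]
    [IsScalarTower R k A] [IsScalarTower R S A] [Algebra.IsPushout R k S A]
    [Algebra K B] [Algebra S' B] [Algebra R' B]
    [IsScalarTower R' K B] [IsScalarTower R' S' B] [Algebra.IsPushout R' K S' B]
    (j : k →+* K) (hj : ∀ r, j (algebraMap R k r) = algebraMap R' K (algebraMap R R' r))
    (hjb : Function.Bijective j)
    (N : Type u) [AddCommGroup N] [Module S N] [Module.Finite S N]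
    {N' : Type u} [AddCommGroup N'] [Module S' N'] [Module S N'] [IsScalarTower S S' N']
    (f : N →ₗ[S] N') (hf : IsBaseChange S' f)
    (ξ : PrimeSpectrum A) (hξ : ξ ∈ Module.support A (A ⊗[S] N)) :
    ∃ (ξ' : PrimeSpectrum B) (hξ' : ξ' ∈ Module.support B (B ⊗[S'] N')),
      (ξ'.asIdeal.comap (algebraMap S' B)).comap (algebraMap S S') = ξ.asIdeal.comap (algebraMap S A) ∧
      FlatMor.localDim (Module.support B (B ⊗[S'] N')) ⟨ξ', hξ'⟩ =
        FlatMor.localDim (Module.support A (A ⊗[S] N)) ⟨ξ, hξ⟩ := by
  letI : Algebra k K := j.toAlgebra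
  letI : Algebra R K := ((algebraMap R' K).comp (algebraMap R R')).toAlgebra
  haveI : IsScalarTower R R' K := IsScalarTower.of_algebraMap_eq fun _ => rfl
  haveI : IsScalarTower R k K := IsScalarTower.of_algebraMap_eq fun r => (hj r).symm
  letI : Algebra R B := ((algebraMap R' B).comp (algebraMap R R')).toAlgebra
  haveI : IsScalarTower R R' B := IsScalarTower.of_algebraMap_eq fun _ => rfl
  letI : Algebra S B := ((algebraMap S' B).comp (algebraMap S S')).toAlgebra
  haveI : IsScalarTower S S' B := IsScalarTower.of_algebraMap_eq fun _ => rfl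
  haveI : IsScalarTower R K B := IsScalarTower.of_algebraMap_eq fun r => by
    rw [IsScalarTower.algebraMap_apply R R' B, IsScalarTower.algebraMap_apply R' K B,
      ← IsScalarTower.algebraMap_apply R R' K]
  haveI : IsScalarTower R S B := IsScalarTower.of_algebraMap_eq fun r => by
    rw [IsScalarTower.algebraMap_apply R R' B, IsScalarTower.algebraMap_apply R' S' B,
      ← IsScalarTower.algebraMap_apply R R' S', IsScalarTower.algebraMap_apply R S S']
    rfl
  haveI : IsScalarTower R S' B := IsScalarTower.of_algebraMap_eq fun r => by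
    rw [IsScalarTower.algebraMap_apply R R' B, IsScalarTower.algebraMap_apply R' S' B,
      ← IsScalarTower.algebraMap_apply R R' S']
  haveI : Algebra.IsPushout R K S B :=
    (Algebra.IsPushout.comp_iff R R' S S').mpr inferInstance
  letI : Algebra k B := ((algebraMap K B).comp (algebraMap k K)).toAlgebra
  haveI : IsScalarTower k K B := IsScalarTower.of_algebraMap_eq fun _ => rfl
  haveI : IsScalarTower R k B := IsScalarTower.of_algebraMap_eq fun r => by
    rw [IsScalarTower.algebraMap_apply R K B, IsScalarTower.algebraMap_apply R k K]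
    rfl
  let φ : A →ₐ[R] B := Algebra.pushoutDesc A (IsScalarTower.toAlgHom R k B) (IsScalarTower.toAlgHom R S B)
    (fun _ _ => mul_comm _ _)
  letI : Algebra A B := φ.toRingHom.toAlgebra
  haveI : IsScalarTower k A B := IsScalarTower.of_algebraMap_eq fun x =>
    (Algebra.pushoutDesc_left (S' := A) (IsScalarTower.toAlgHom R k B) (IsScalarTower.toAlgHom R S B) _ x).symm
  haveI : IsScalarTower S A B := IsScalarTower.of_algebraMap_eq fun x =>
    (Algebra.pushoutDesc_right (S' := A) (IsScalarTower.toAlgHom R k B) (IsScalarTower.toAlgHom R S B) _ x).symm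
  haveI : IsScalarTower R A B := IsScalarTower.of_algebraMap_eq fun x => (φ.commutes x).symm
  haveI h1 : Algebra.IsPushout k K A B :=
    (Algebra.IsPushout.comp_iff R k S A).mp inferInstance
  have hAB : Function.Bijective (algebraMap A B) := by
    haveI : Algebra.IsPushout k A K B := h1.symm
    have hK : Function.Bijective (Algebra.ofId k K) := hjb
    have e : algebraMap A B = ((Algebra.IsPushout.equiv k A K B).toAlgHom.comp
        ((Algebra.TensorProduct.congr AlgEquiv.refl (AlgEquiv.ofBijective (Algebra.ofId k K) hK)).toAlgHom.comp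
          (Algebra.TensorProduct.rid k A A).symm.toAlgHom)).toRingHom :=
      RingHom.ext fun a => by simp [Algebra.IsPushout.equiv_tmul]
    rw [e]
    exact (Algebra.IsPushout.equiv k A K B).bijective.comp
      ((Algebra.TensorProduct.congr AlgEquiv.refl (AlgEquiv.ofBijective (Algebra.ofId k K) hK)).bijective.comp
        (Algebra.TensorProduct.rid k A A).symm.bijective)
  have e1 : B ⊗[S'] N' ≃ₗ[B] B ⊗[A] (A ⊗[S] N) :=
    (AlgebraTensorModule.congr (LinearEquiv.refl B B) hf.equiv.symm) ≪≫ₗ
      AlgebraTensorModule.cancelBaseChange S S' B B N ≪≫ₗ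
      (AlgebraTensorModule.cancelBaseChange S A B B N).symm
  obtain ⟨ξ', hξ', hc, hd⟩ := exists_point_localDim hAB (A ⊗[S] N) e1 ξ hξ
  refine ⟨ξ', hξ', ?_, hd⟩
  rw [Ideal.comap_comap, ← IsScalarTower.algebraMap_eq, IsScalarTower.algebraMap_eq S A B, ← Ideal.comap_comap, hc]

end Support

end Groth.Agent.FlatFun4.TrivResFibre
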