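import Mathlib
import Groth.Prelude.Def_FlatCA

/-! Maps of projective modules over a local ring which are injective modulo the maximal ideal. -/

set_option linter.style.haveILetI false
set_option autoImplicit false
set_option backward.isDefEq.respectTransparency false
set_option backward.isDefEq.respectTransparency.types false

universe u

open TensorProduct IsLocalRing

namespace Groth.Agent.FlatFun4.UnivInjProj

variable {R : Type u} [CommRing R] [IsLocalRing R] {M : Type u} [AddCommGroup M] [Module R M] [Module.Free R M]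

/-- Finitely many vectors in a free module, independent modulo the maximal ideal, split off. -/
theorem exists_retraction {ι : Type u} [Fintype ι] (L : (ι → R) →ₗ[R] M)
    (hL : Function.Injective (L.baseChange (ResidueField R))) : ∃ r : M →ₗ[R] (ι → R), r ∘ₗ L = LinearMap.id := by
  classical
  let k := ResidueField R
  obtain ⟨φ, hφ⟩ := (L.baseChange k).exists_leftInverse_of_injective (LinearMap.ker_eq_bot.2 hL)
  let b := Module.Free.chooseBasis R M
  let π : k ⊗[R] (ι → R) →ₗ[R] (ι → k) :=
    TensorProduct.lift (LinearMap.mk₂ R (fun (c : k) (v : ι → R) i => v i • c)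
      (fun c c' v => by funext i; exact smul_add _ _ _) (fun a c v => by funext i; exact smul_comm _ _ _)
      (fun c v v' => by funext i; exact add_smul _ _ _) (fun a c v => by funext i; exact mul_smul _ _ _))
  choose ψ hψ using fun j i => residue_surjective (π (φ (1 ⊗ₜ b j)) i)
  let Φ : M →ₗ[R] (ι → R) := b.constr R ψ
  let res : (ι → R) →ₗ[R] (ι → k) := LinearMap.pi fun i => (Algebra.linearMap R k).comp (LinearMap.proj i)
  have hΦ : ∀ m : M, res (Φ m) = π (φ (1 ⊗ₜ m)) := by
    have h : res.comp Φ = (π.comp (φ.restrictScalars R)).comp (TensorProduct.mk R k M 1) := b.ext fun j => by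
      funext i
      simp only [LinearMap.comp_apply, TensorProduct.mk_apply, LinearMap.restrictScalars_apply]
      show algebraMap R k (Φ (b j) i) = _
      rw [Module.Basis.constr_basis]
      exact hψ j i
    exact fun m => LinearMap.congr_fun h m
  let T : (ι → R) →ₗ[R] (ι → R) := Φ.comp L
  have hT : ∀ v, res (T v) = res v := fun v => by
    show res (Φ (L v)) = _
    rw [hΦ, ← LinearMap.baseChange_tmul]
    have h := LinearMap.congr_fun hφ ((1 : k) ⊗ₜ v)
    rw [LinearMap.comp_apply, LinearMap.id_apply] at h
    rw [h]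
    funext i
    show v i • (1 : k) = algebraMap R k (v i)
    rw [Algebra.algebraMap_eq_smul_one]
  have hdet : IsUnit (LinearMap.toMatrix' T).det := by
    refine isUnit_of_map_unit (residue R) _ ?_
    rw [RingHom.map_det]
    have : (residue R).mapMatrix (LinearMap.toMatrix' T) = 1 := by
      ext i j
      rw [RingHom.mapMatrix_apply, Matrix.map_apply, LinearMap.toMatrix'_apply]
      refine (congrFun (hT _) i).trans ?_
      show algebraMap R k ((Pi.single j 1 : ι → R) i) = _
      simp [Matrix.one_apply, Pi.single_apply, apply_ite]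
    rw [this, Matrix.det_one]
    exact isUnit_one
  haveI := (Matrix.isUnit_iff_isUnit_det _).2 hdet
  refine ⟨(Matrix.toLin' (LinearMap.toMatrix' T)⁻¹).comp Φ, ?_⟩
  rw [LinearMap.comp_assoc, show Φ.comp L = Matrix.toLin' (LinearMap.toMatrix' T) from (Matrix.toLin'_toMatrix' T).symm,
    ← Matrix.toLin'_mul, Matrix.nonsing_inv_mul _ hdet, Matrix.toLin'_one]

/-- Free source and target. -/
theorem univInj_finsupp {ι : Type u} (u : (ι →₀ R) →ₗ[R] M)
    (hu : Function.Injective (u.lTensor (ResidueField R))) : FlatCA.UnivInj R u := by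
  classical
  intro Q _ _
  refine (injective_iff_map_eq_zero _).2 fun z hz => ?_
  obtain ⟨w, rfl⟩ := (TensorProduct.finsuppScalarRight R R Q ι).symm.surjective z
  let J : (↥w.support → R) →ₗ[R] (ι →₀ R) :=
    Fintype.linearCombination R fun i => Finsupp.single (i : ι) 1
  have hJi : ∀ i, J (Pi.single i 1) = Finsupp.single (i : ι) 1 := fun i => by
    simp [J, Fintype.linearCombination_apply_single]
  let p : (ι →₀ R) →ₗ[R] (↥w.support → R) := LinearMap.pi fun i => Finsupp.lapply (i : ι)
  have hpJ : p ∘ₗ J = LinearMap.id := by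
    refine LinearMap.pi_ext' fun i => LinearMap.ext_ring ?_
    funext j
    simp only [LinearMap.comp_apply, LinearMap.id_apply]
    show p (J (Pi.single i 1)) j = (Pi.single i 1 : ↥w.support → R) j
    rw [hJi]
    simp [p, Finsupp.single_apply, Pi.single_apply, eq_comm]
  have hinj : Function.Injective ((u ∘ₗ J).baseChange (ResidueField R)) := by
    show Function.Injective ((u ∘ₗ J).lTensor (ResidueField R))
    rw [LinearMap.lTensor_comp]
    refine hu.comp (Function.HasLeftInverse.injective ⟨p.lTensor _, fun x => ?_⟩)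
    rw [← LinearMap.comp_apply, ← LinearMap.lTensor_comp, hpJ, LinearMap.lTensor_id, LinearMap.id_apply]
  obtain ⟨r, hr⟩ := exists_retraction _ hinj
  let W : Q ⊗[R] (↥w.support → R) := ∑ i : ↥w.support, w i ⊗ₜ Pi.single i 1
  have hW : (TensorProduct.finsuppScalarRight R R Q ι).symm w = J.lTensor Q W := by
    conv_lhs => rw [← Finsupp.sum_single w]
    rw [Finsupp.sum, map_sum, map_sum, ← Finset.sum_coe_sort]
    exact Finset.sum_congr rfl fun i _ => by
      rw [TensorProduct.finsuppScalarRight_symm_apply_single, LinearMap.lTensor_tmul, hJi]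
  rw [hW] at hz ⊢
  have : W = 0 := by
    have h := congrArg (r.lTensor Q) hz
    rwa [map_zero, ← LinearMap.comp_apply, ← LinearMap.lTensor_comp, ← LinearMap.comp_apply, ← LinearMap.lTensor_comp,
      LinearMap.comp_assoc, hr, LinearMap.lTensor_id, LinearMap.id_apply] at h
  rw [this, map_zero]

/-- A map of projective modules which is injective modulo the maximal ideal is universally injective. -/
theorem univInj_of_projective {N M : Type u} [AddCommGroup N] [Module R N] [AddCommGroup M] [Module R M]
    [Module.Projective R N] [Module.Projective R M] (u : N →ₗ[R] M)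
    (hu : Function.Injective (u.lTensor (ResidueField R))) : FlatCA.UnivInj R u := by
  classical
  obtain ⟨i, hi⟩ := Module.projective_def'.1 ‹Module.Projective R N›
  obtain ⟨j, hj⟩ := Module.projective_def'.1 ‹Module.Projective R M›
  let p : (N →₀ R) →ₗ[R] N := Finsupp.linearCombination R id
  let q : (M →₀ R) →ₗ[R] M := Finsupp.linearCombination R id
  have hi' : p ∘ₗ i = LinearMap.id := hi
  have hj' : q ∘ₗ j = LinearMap.id := hj
  let U : (N →₀ R) →ₗ[R] (M →₀ R) × (N →₀ R) := (j ∘ₗ u ∘ₗ p).prod (LinearMap.id - i ∘ₗ p)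
  let q₁ : (M →₀ R) × (N →₀ R) →ₗ[R] M := q ∘ₗ LinearMap.fst R _ _
  let q₂ : (M →₀ R) × (N →₀ R) →ₗ[R] (N →₀ R) := LinearMap.snd R _ _
  have h1 : q₁ ∘ₗ U = u ∘ₗ p := by
    simp only [q₁, U, LinearMap.comp_assoc, LinearMap.fst_prod]
    rw [← LinearMap.comp_assoc (u ∘ₗ p), hj', LinearMap.id_comp]
  have hres : Function.Injective (U.lTensor (ResidueField R)) := by
    refine (injective_iff_map_eq_zero _).2 fun x hx => ?_
    have e1 : (u.lTensor _) ((p.lTensor _) x) = 0 := by
      rw [← LinearMap.comp_apply, ← LinearMap.lTensor_comp, ← h1, LinearMap.lTensor_comp, LinearMap.comp_apply, hx,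
        map_zero]
    have e2 : x - i.lTensor _ (p.lTensor _ x) = 0 := by
      have h : (q₂ ∘ₗ U).lTensor (ResidueField R) x = 0 := by
        rw [LinearMap.lTensor_comp, LinearMap.comp_apply, hx, map_zero]
      rwa [show q₂ ∘ₗ U = LinearMap.id - i ∘ₗ p from rfl, LinearMap.lTensor_sub, LinearMap.sub_apply,
        LinearMap.lTensor_id, LinearMap.id_apply, LinearMap.lTensor_comp, LinearMap.comp_apply] at h
    rw [hu (e1.trans (map_zero _).symm), map_zero, sub_zero] at e2
    exact e2
  have hU := univInj_finsupp U hres
  intro Q _ _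
  have h2 : U ∘ₗ i = LinearMap.inl R _ _ ∘ₗ j ∘ₗ u := by
    have e : ∀ x, p (i x) = x := LinearMap.congr_fun hi'
    refine LinearMap.ext fun x => Prod.ext ?_ ?_
    · show j (u (p (i x))) = j (u x)
      rw [e]
    · show i x - i (p (i x)) = 0
      rw [e, sub_self]
  have hinj : Function.Injective ((LinearMap.inl R (M →₀ R) (N →₀ R) ∘ₗ j ∘ₗ u).lTensor Q) := by
    rw [← h2, LinearMap.lTensor_comp]
    refine (hU Q).comp (Function.HasLeftInverse.injective ⟨p.lTensor _, fun x => ?_⟩)
    rw [← LinearMap.comp_apply, ← LinearMap.lTensor_comp, hi', LinearMap.lTensor_id, LinearMap.id_apply]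
  rw [← LinearMap.comp_assoc, LinearMap.lTensor_comp] at hinj
  exact Function.Injective.of_comp hinj

/-- An injective endomorphism stays universally injective into the localization. -/
theorem univInj_mkLinearMap {A S N : Type u} [CommRing A] [CommRing S] [Algebra A S] [AddCommGroup N]
    [Module S N] [Module A N] [IsScalarTower A S N] (T : Submonoid S)
    (h : ∀ s ∈ T, FlatCA.UnivInj A ((LinearMap.lsmul S N s).restrictScalars A)) :
    FlatCA.UnivInj A ((LocalizedModule.mkLinearMap T N).restrictScalars A) := by
  intro Q _ _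
  refine (injective_iff_map_eq_zero _).2 fun z hz => ?_
  let c : Q ⊗[A] LocalizedModule T N ≃ₗ[A] LocalizedModule T N ⊗[A] Q := TensorProduct.comm A _ _
  let g : N ⊗[A] Q →ₗ[S] LocalizedModule T N ⊗[A] Q :=
    TensorProduct.AlgebraTensorModule.rTensor A Q (LocalizedModule.mkLinearMap T N)
  haveI : IsLocalizedModule T g := inferInstance
  have hc : g (TensorProduct.comm A Q N z) = 0 := by
    have e : ∀ y : Q ⊗[A] N, g (TensorProduct.comm A Q N y) =
        c (((LocalizedModule.mkLinearMap T N).restrictScalars A).lTensor Q y) := fun y => by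
      induction y with
      | zero => simp only [map_zero]
      | tmul a b => rfl
      | add a b ha hb => simp only [map_add, ha, hb]
    rw [e, hz, map_zero]
  obtain ⟨⟨s, hs⟩, hsz⟩ := (IsLocalizedModule.eq_zero_iff T g).1 hc
  have key : ∀ y : Q ⊗[A] N, TensorProduct.comm A Q N (((LinearMap.lsmul S N s).restrictScalars A).lTensor Q y) =
      s • TensorProduct.comm A Q N y := fun y => by
    induction y with
    | zero => simp only [map_zero, smul_zero]
    | tmul a b => rfl
    | add a b ha hb => simp only [map_add, ha, hb, smul_add]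
  have : ((LinearMap.lsmul S N s).restrictScalars A).lTensor Q z = 0 :=
    (TensorProduct.comm A Q N).map_eq_zero_iff.1 ((key z).trans hsz)
  exact h s hs Q (this.trans (map_zero _).symm)

end Groth.Agent.FlatFun4.UnivInjProj
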