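import Mathlib
import Groth.Agent.AmpleX.Comp
import Groth.Agent.AmpleX.BaseChange
import Groth.Agent.InvX.GenLocusPull
import Groth.Agent.PicClLib.Basic

/-!
# Trivialized relatively ample modules

`HasTriv f g` says: `f : Y ⟶ X₁`, `g : X₁ ⟶ X`, and `X₁` carries a `g`-ample module with a section
which generates it along `f`.
-/

set_option autoImplicit false
set_option linter.style.haveILetI false
set_option backward.isDefEq.respectTransparency false
set_option backward.isDefEq.respectTransparency.types false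

universe u

open CategoryTheory CategoryTheory.Limits AlgebraicGeometry TopologicalSpace

namespace Groth.Agent.FlatFun4.YBlowUp

open Groth.Agent

variable {X Y X₁ X₂ : Scheme.{u}}

theorem isIso_of_genLocus_eq_top {L : X.Modules} (s : Coh.structureModule X ⟶ L)
    (h : CohB1.genLocus L s = ⊤) : IsIso s := by
  rw [Scheme.Modules.Hom.isIso_iff_isIso_app]
  intro V
  have hT : InvX.IsFrame (AModX.res L (le_top : (⊤ : X.Opens) ≤ ⊤) (InvX.one s)) := by
    exact AmpleX.isFrame_res_of_le _ (h.ge.trans (AmpleX.genLocus_eq_locus s).le)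
  refine (ConcreteCategory.isIso_iff_bijective _).2 ?_
  have hb := hT V le_top
  have key : (s.app V : _ → _) = fun r : Γ(X, V) => r • AModX.res L (le_top : V ≤ ⊤) (InvX.one s) :=
    funext fun r => InvX.app_eq_smul s r
  show Function.Bijective (s.app V)
  rw [key]
  simpa only [AModX.res_self] using hb

/-- A section of an invertible module becomes an isomorphism after pullback iff it generates along
the image. -/
theorem isIso_pullback_map_iff {L : X.Modules} (hL : PicF.IsInvertible L)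
    (s : Coh.structureModule X ⟶ L) (u : Y ⟶ X) :
    IsIso ((Scheme.Modules.pullback u).map s) ↔ ∀ y : Y, u y ∈ CohB1.genLocus L s := by
  obtain ⟨e⟩ := PicClLib.nonempty_pullback_structureModule u
  have hg := InvX.genLocus_pullback u hL s e.symm
  constructor
  · intro _ y
    have htop : CohB1.genLocus _ (e.symm.hom ≫ (Scheme.Modules.pullback u).map s) = ⊤ :=
      top_le_iff.1 (le_sSup (show IsIso _ from inferInstance))
    show y ∈ u ⁻¹ᵁ CohB1.genLocus L s
    rw [← hg, htop]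
    trivial
  · intro h
    haveI : IsIso (e.symm.hom ≫ (Scheme.Modules.pullback u).map s) :=
      isIso_of_genLocus_eq_top _ (by rw [hg]; exact top_le_iff.1 fun y _ => h y)
    exact IsIso.of_isIso_comp_left e.symm.hom _

/-- `f : Y ⟶ X₁` trivializes a `g`-ample module on `X₁`. -/
def HasTriv (f : Y ⟶ X₁) (g : X₁ ⟶ X) : Prop :=
  ∃ (L : X₁.Modules) (ε : Coh.structureModule X₁ ⟶ L),
    RelAmple.IsRelAmple g L ∧ IsIso ((Scheme.Modules.pullback f).map ε)

/-- Blow-ups compose. -/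
theorem hasTriv_comp [CompactSpace X] {g : X₁ ⟶ X} {h : X₂ ⟶ X₁} {φ : Y ⟶ X₂}
    (hg : HasTriv (φ ≫ h) g) (hh : HasTriv φ h) : HasTriv φ (h ≫ g) := by
  obtain ⟨L₁, ε₁, hL₁, h₁⟩ := hg
  obtain ⟨L₂, ε₂, hL₂, h₂⟩ := hh
  have hi₁ := AmpleX.isInvertible_of_isRelAmple hL₁
  have hi₂ := AmpleX.isInvertible_of_isRelAmple hL₂
  have h₁' := (isIso_pullback_map_iff hi₁ ε₁ (φ ≫ h)).1 h₁
  have h₂' := (isIso_pullback_map_iff hi₂ ε₂ φ).1 h₂
  obtain ⟨n₀, hn₀, hamp⟩ := AmpleX.eventually_isRelAmple_comp h g hL₂ hL₁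
  obtain ⟨m, rfl⟩ := Nat.exists_eq_add_of_le' hn₀
  obtain ⟨e⟩ := PicClLib.nonempty_pullback_structureModule h
  let σ := e.symm.hom ≫ (Scheme.Modules.pullback h).map (InvX.powHom ε₁ (m + 1))
  have hσ : CohB1.genLocus _ σ = h ⁻¹ᵁ CohB1.genLocus L₁ ε₁ := by
    rw [InvX.genLocus_pullback h (InvX.isInvertible_tensorPow hi₁ _) _ e.symm,
      InvX.genLocus_powHom hi₁]
  have hi := PicClLib.isInvertible_pullback h (InvX.isInvertible_tensorPow hi₁ (m + 1))
  refine ⟨_, InvX.mulHom ε₂ σ, hamp (m + 1) le_rfl, ?_⟩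
  rw [isIso_pullback_map_iff (InvX.isInvertible_tensorMod hi₂ hi)]
  intro y
  rw [InvX.genLocus_mulHom hi₂ hi, hσ]
  exact ⟨h₂' y, by
    show h (φ y) ∈ CohB1.genLocus L₁ ε₁
    rw [← Scheme.Hom.comp_apply]; exact h₁' y⟩

/-- Blow-ups base change. -/
theorem hasTriv_baseChange {g₁ : X₁ ⟶ X} (g₂ : X₂ ⟶ X) (φ : Y ⟶ pullback g₁ g₂)
    (hg : HasTriv (φ ≫ pullback.fst g₁ g₂) g₁) : HasTriv φ (pullback.snd g₁ g₂) := by
  obtain ⟨L, ε, hL, h₁⟩ := hg
  have hi := AmpleX.isInvertible_of_isRelAmple hL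
  have h₁' := (isIso_pullback_map_iff hi ε _).1 h₁
  obtain ⟨e⟩ := PicClLib.nonempty_pullback_structureModule (pullback.fst g₁ g₂)
  refine ⟨_, e.symm.hom ≫ (Scheme.Modules.pullback (pullback.fst g₁ g₂)).map ε,
    AmpleX.isRelAmple_baseChange g₁ g₂ hL, ?_⟩
  rw [isIso_pullback_map_iff (PicClLib.isInvertible_pullback _ hi)]
  intro y
  rw [InvX.genLocus_pullback _ hi ε e.symm]
  show pullback.fst g₁ g₂ (φ y) ∈ CohB1.genLocus L ε
  rw [← Scheme.Hom.comp_apply]; exact h₁' y

/-- Blow-ups restrict along embeddings. -/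
theorem hasTriv_of_embedding {g : X₁ ⟶ X} (j : X₂ ⟶ X₁) [QuasiCompact j]
    (hj : Topology.IsEmbedding j.base) (φ : Y ⟶ X₂) (hg : HasTriv (φ ≫ j) g) : HasTriv φ (j ≫ g) := by
  obtain ⟨L, ε, hL, h₁⟩ := hg
  have hi := AmpleX.isInvertible_of_isRelAmple hL
  have h₁' := (isIso_pullback_map_iff hi ε _).1 h₁
  obtain ⟨e⟩ := PicClLib.nonempty_pullback_structureModule j
  refine ⟨_, e.symm.hom ≫ (Scheme.Modules.pullback j).map ε,
    AmpleX.isRelAmple_pullback_embedding g j hj hL, ?_⟩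
  rw [isIso_pullback_map_iff (PicClLib.isInvertible_pullback _ hi)]
  intro y
  rw [InvX.genLocus_pullback j hi ε e.symm]
  show j (φ y) ∈ CohB1.genLocus L ε
  rw [← Scheme.Hom.comp_apply]; exact h₁' y

end Groth.Agent.FlatFun4.YBlowUp
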